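import Cfsg.Agent.S0217
import Cfsg.Agent.S0205
import Cfsg.Agent.Core.PCore
import Cfsg.Agent.Invol.BaerSuzuki
import Cfsg.Agent.TwoTransfer.Basic
import Cfsg.Prelude.Def_CaseTheorems

/-!
An elementary abelian 2-subgroup that splits the centralizers of its involutions modulo their cores, with two
classes of involutions, is normal modulo the core.
-/

set_option autoImplicit false
set_option linter.unusedSectionVars false
set_option linter.style.haveILetI false

namespace Cfsg.Agent.SylJ2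

open Subgroup
open scoped Pointwise

variable {H : Type*} [Group H] [Finite H]

/-- The odd core of a subgroup, inside the group. -/
def core (K : Subgroup H) : Subgroup H := (Cfsg.oddCore ↥K).map K.subtype

theorem core_le (K : Subgroup H) : core K ≤ K := map_subtype_le _

theorem core_odd (K : Subgroup H) : ¬ 2 ∣ Nat.card (core K) := by
  haveI : Fact (Nat.Prime 2) := ⟨Nat.prime_two⟩
  rw [core, card_map_of_injective K.subtype_injective]
  exact Core.not_dvd_card_pPrimeCore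

theorem core_conj {K : Subgroup H} {k a : H} (hk : k ∈ K) (ha : a ∈ core K) : k * a * k⁻¹ ∈ core K := by
  obtain ⟨b, hb, rfl⟩ := ha
  exact ⟨⟨k, hk⟩ * b * ⟨k, hk⟩⁻¹, Normal.conj_mem inferInstance b hb _, rfl⟩

theorem le_core {K D : Subgroup H} (hDK : D ≤ K) (hD : ¬ 2 ∣ Nat.card D)
    (hn : ∀ k ∈ K, ∀ a ∈ D, k * a * k⁻¹ ∈ D) : D ≤ core K := by
  haveI : (D.subgroupOf K).Normal := ⟨fun a ha k => mem_subgroupOf.2 (hn k k.2 a (mem_subgroupOf.1 ha))⟩
  intro a ha
  refine ⟨⟨a, hDK ha⟩, Core.le_pPrimeCore (N := D.subgroupOf K) ?_ (mem_subgroupOf.2 ha), rfl⟩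
  rw [Nat.card_congr (subgroupOfEquivOfLe hDK).toEquiv]
  exact (Nat.prime_two.coprime_iff_not_dvd.2 hD).symm

/-- The odd core of the centralizer of an element. -/
def theta (x : H) : Subgroup H := core (centralizer ({x} : Set H))

theorem theta_le (x : H) : theta x ≤ centralizer ({x} : Set H) := core_le _

theorem theta_conj {x a g : H} (ha : a ∈ theta x) : g * a * g⁻¹ ∈ theta (g * x * g⁻¹) := by
  refine le_core (D := (theta x).map (MulAut.conj g).toMonoidHom) ?_ ?_ ?_ ⟨a, ha, rfl⟩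
  · rintro _ ⟨b, hb, rfl⟩
    rw [mem_centralizer_singleton_iff]
    show g * b * g⁻¹ * (g * x * g⁻¹) = g * x * g⁻¹ * (g * b * g⁻¹)
    rw [show g * b * g⁻¹ * (g * x * g⁻¹) = g * (b * x) * g⁻¹ by group, mem_centralizer_singleton_iff.1 (theta_le x hb)]
    group
  · rw [card_map_of_injective (MulAut.conj g).injective]
    exact core_odd _
  · intro k hk _ hb
    obtain ⟨b, hb, rfl⟩ := hb
    have hk' : g⁻¹ * k * g ∈ centralizer ({x} : Set H) := by
      rw [mem_centralizer_singleton_iff] at hk ⊢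
      calc g⁻¹ * k * g * x = g⁻¹ * (k * (g * x * g⁻¹)) * g := by group
        _ = g⁻¹ * (g * x * g⁻¹ * k) * g := by rw [hk]
        _ = x * (g⁻¹ * k * g) := by group
    exact ⟨g⁻¹ * k * g * b * (g⁻¹ * k * g)⁻¹, core_conj hk' hb,
      show g * _ * g⁻¹ = k * (g * b * g⁻¹) * k⁻¹ by group⟩

/-- An odd subgroup meets a 2-element trivially, also up to a normalized factor. -/
theorem two_part_trivial {D : Subgroup H} (hD : ¬ 2 ∣ Nat.card D) {o w y : H} (ho : o ∈ D) (hw : w * w = 1)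
    (hwD : ∀ a ∈ D, w * a * w⁻¹ ∈ D) (hy : Odd (orderOf y)) (h : y = o * w) : w = 1 := by
  have hwi : w⁻¹ = w := inv_eq_of_mul_eq_one_right hw
  have hyy : y * y ∈ D := by
    rw [h, show o * w * (o * w) = o * (w * o * w⁻¹) * (w * w) by group, hw, mul_one]
    exact mul_mem ho (hwD o ho)
  obtain ⟨m, hm⟩ := hy
  have hy1 : y ∈ D := by
    have e : y = ((y * y) ^ m)⁻¹ := by
      refine eq_inv_of_mul_eq_one_right ?_
      rw [← pow_two, ← pow_mul, ← pow_succ, ← hm, pow_orderOf_eq_one]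
    rw [e]
    exact inv_mem (pow_mem hyy m)
  have hwm : w ∈ D := by
    have h2 := mul_mem (inv_mem ho) hy1
    rwa [h, inv_mul_cancel_left] at h2
  by_contra hne
  refine hD ?_
  rw [← orderOf_eq_prime (by rw [pow_two, hw]) hne (p := 2), ← orderOf_mk w hwm]
  exact orderOf_dvd_natCard _

theorem odd_orderOf {D : Subgroup H} (hD : ¬ 2 ∣ Nat.card D) {y : H} (hy : y ∈ D) : Odd (orderOf y) := by
  rw [← orderOf_mk y hy]
  exact Odd.of_dvd_nat (Nat.odd_iff.2 (Nat.two_dvd_ne_zero.1 hD)) (orderOf_dvd_natCard _)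

/-- The hypotheses: `V` weakly closed and self-centralizing in `T`, splitting the centralizers modulo cores. -/
structure Split (T : Sylow 2 H) (V : Subgroup H) : Prop where
  le : V ≤ (T : Subgroup H)
  comm : ∀ a ∈ V, ∀ b ∈ V, a * b = b * a
  sq : ∀ a ∈ V, a * a = 1
  rank : 8 ≤ Nat.card V
  self : ∀ s ∈ (T : Subgroup H), (∀ v ∈ V, s * v = v * s) → s ∈ V
  weak : ∀ g : H, (∀ v ∈ V, g * v * g⁻¹ ∈ (T : Subgroup H)) → g ∈ normalizer (V : Set H)
  loc : ∀ x ∈ V, x ≠ 1 → ∀ c : H, c * x = x * c →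
    ∃ o ∈ theta x, ∃ n ∈ normalizer (V : Set H), n * x = x * n ∧ c = o * n
  outer : ∀ u ∈ (T : Subgroup H), u ∉ V → u * u = 1 → ∀ M : Subgroup H, normalizer (V : Set H) ≤ M →
    (∀ x ∈ V, x ≠ 1 → centralizer ({x} : Set H) ≤ M) → centralizer ({u} : Set H) ≤ M
  classes : ∃ x ∈ V, ∃ y ∈ V, x ≠ 1 ∧ y ≠ 1 ∧ ¬ IsConj x y

namespace Split

variable {T : Sylow 2 H} {V : Subgroup H} (P : Split T V)
include P

theorem T_le : (T : Subgroup H) ≤ normalizer (V : Set H) := fun t ht =>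
  P.weak t fun v hv => mul_mem (mul_mem ht (P.le hv)) (inv_mem ht)

theorem full {M : Subgroup H} (hN : normalizer (V : Set H) ≤ M)
    (hC : ∀ x ∈ V, x ≠ 1 → centralizer ({x} : Set H) ≤ M) : M = ⊤ := by
  haveI : Fact (Nat.Prime 2) := ⟨Nat.prime_two⟩
  have hTM : (T : Subgroup H) ≤ M := P.T_le.trans hN
  have hsyl : ∀ R : Subgroup H, R ≤ M → IsPGroup 2 R → ∃ m ∈ M, ∀ r ∈ R, m * r * m⁻¹ ∈ (T : Subgroup H) := by
    intro R hR hR2
    obtain ⟨R', hR'⟩ := (hR2.comap_subtype (K := M)).exists_le_sylow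
    obtain ⟨g, hg⟩ := MulAction.exists_smul_eq M R' (T.subtype hTM)
    refine ⟨g, g.2, fun r hr => ?_⟩
    have h : MulAut.conj g • (⟨r, hR hr⟩ : M) ∈ MulAut.conj g • (R' : Subgroup M) :=
      Subgroup.smul_mem_pointwise_smul _ _ _ (hR' (mem_subgroupOf.2 hr))
    have h2 : g * ⟨r, hR hr⟩ * g⁻¹ ∈ (T.subtype hTM : Subgroup M) := by
      rw [← hg]
      exact h
    exact mem_subgroupOf.1 h2
  have hCu : ∀ u ∈ (T : Subgroup H), u ≠ 1 → u * u = 1 → centralizer ({u} : Set H) ≤ M := by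
    intro u hu hu1 hu2
    by_cases huV : u ∈ V
    · exact hC u huV hu1
    · exact P.outer u hu huV hu2 M hN hC
  have hCw : ∀ w ∈ M, w ≠ 1 → w * w = 1 → centralizer ({w} : Set H) ≤ M := by
    intro w hw hw1 hw2
    obtain ⟨m, hm, hmT⟩ := hsyl (zpowers w) (zpowers_le.2 hw) (by
      intro ⟨y, k, hk⟩
      refine ⟨1, Subtype.ext ?_⟩
      simp only [SubmonoidClass.coe_pow, OneMemClass.coe_one, pow_one]
      rw [← hk, ← zpow_natCast, ← zpow_mul, mul_comm, zpow_mul, zpow_natCast, pow_two, hw2, one_zpow])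
    have h2 := hCu _ (hmT w (mem_zpowers w)) (fun e => hw1 (by rwa [conj_eq_one_iff] at e))
      (by rw [show m * w * m⁻¹ * (m * w * m⁻¹) = m * (w * w) * m⁻¹ by group, hw2, mul_one, mul_inv_cancel])
    intro c hc
    rw [mem_centralizer_singleton_iff] at hc
    have h3 : m * c * m⁻¹ ∈ M := h2 (mem_centralizer_singleton_iff.2 (by
      rw [show m * c * m⁻¹ * (m * w * m⁻¹) = m * (c * w) * m⁻¹ by group, hc]; group))
    have h4 := mul_mem (mul_mem (inv_mem hm) h3) hm
    rwa [show m⁻¹ * (m * c * m⁻¹) * m = c by group] at h4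
  obtain ⟨x, hx, y, hy, hx1, hy1, hxy⟩ := P.classes
  have hord : ∀ a ∈ V, a ≠ 1 → orderOf a = 2 := fun a ha ha1 =>
    orderOf_eq_prime (by rw [pow_two, P.sq a ha]) ha1
  have hall : ∀ w : H, w * w = 1 → w ∈ M := by
    intro w hw2
    rcases eq_or_ne w 1 with rfl | hw1
    · exact one_mem M
    have hwo : orderOf w = 2 := orderOf_eq_prime (by rw [pow_two, hw2]) hw1
    have key : ∀ a ∈ V, a ≠ 1 → ¬ IsConj a w → w ∈ M := by
      intro a ha ha1 hne
      obtain ⟨m, -, -, hu, hua, huw, -⟩ := TwoTransfer.exists_commuting_involution (hord a ha ha1) hwo hne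
      have huM : (a * w) ^ m ∈ M := hC a ha ha1 (mem_centralizer_singleton_iff.2 hua.eq)
      have hu1 : (a * w) ^ m ≠ 1 := fun e => by rw [e, orderOf_one] at hu; exact absurd hu (by norm_num)
      have hu2 : (a * w) ^ m * (a * w) ^ m = 1 := by rw [← pow_two, ← hu, pow_orderOf_eq_one]
      exact hCw _ huM hu1 hu2 (mem_centralizer_singleton_iff.2 huw.eq.symm)
    by_cases hxw : IsConj x w
    · exact key y hy hy1 fun h => hxy (hxw.trans h.symm)
    · exact key x hx hx1 hxw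
  refine eq_top_iff.2 fun g _ => ?_
  have hR : ∀ v ∈ V.map (MulAut.conj g).toMonoidHom, v ∈ M := by
    rintro _ ⟨v, hv, rfl⟩
    exact hall _ (show g * v * g⁻¹ * (g * v * g⁻¹) = 1 by
      rw [show g * v * g⁻¹ * (g * v * g⁻¹) = g * (v * v) * g⁻¹ by group, P.sq v hv, mul_one, mul_inv_cancel])
  obtain ⟨m, hm, hmT⟩ := hsyl _ hR ((T.2.to_le P.le).map _)
  have hmg : m * g ∈ normalizer (V : Set H) := P.weak _ fun v hv => by
    rw [show m * g * v * (m * g)⁻¹ = m * (g * v * g⁻¹) * m⁻¹ by group]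
    exact hmT _ ⟨v, hv, rfl⟩
  have := mul_mem (inv_mem hm) (hN hmg)
  rwa [inv_mul_cancel_left] at this

/-- The centralizer of `V` is `V` times a group of odd order. -/
theorem cent_split {n : H} (hn : ∀ v ∈ V, n * v = v * n) :
    ∃ o ∈ core (centralizer (V : Set H)), ∃ v ∈ V, n = o * v := by
  haveI : Fact (Nat.Prime 2) := ⟨Nat.prime_two⟩
  set K := centralizer (V : Set H) with hK
  have hVK : V ≤ K := fun a ha => mem_centralizer_iff.2 fun b hb => P.comm b hb a ha
  obtain ⟨Q, hQ⟩ := ((T.2.to_le P.le).comap_subtype (K := K)).exists_le_sylow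
  obtain ⟨T', hT'⟩ := (Q.2.map K.subtype).exists_le_sylow
  obtain ⟨g, hg⟩ := MulAction.exists_smul_eq H T' T
  have hQV : ∀ q ∈ (Q : Subgroup K), (q : H) ∈ V := by
    intro q hq
    have hconj : ∀ y ∈ (T' : Subgroup H), g * y * g⁻¹ ∈ (T : Subgroup H) := fun y hy => by
      rw [← hg]
      exact Subgroup.smul_mem_pointwise_smul y (MulAut.conj g) _ hy
    have hgn : g ∈ normalizer (V : Set H) := P.weak g fun v hv =>
      hconj _ (hT' ⟨⟨v, hVK hv⟩, hQ (mem_subgroupOf.2 hv), rfl⟩)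
    refine (mem_normalizer_iff.1 hgn _).2 (P.self _ (hconj _ (hT' ⟨q, hq, rfl⟩)) fun v hv => ?_)
    have hv' : g⁻¹ * v * g ∈ V := by
      have h := (mem_normalizer_iff.1 (inv_mem hgn) v).1 hv
      rwa [inv_inv] at h
    calc g * (q : H) * g⁻¹ * v = g * ((q : H) * (g⁻¹ * v * g)) * g⁻¹ := by group
      _ = g * ((g⁻¹ * v * g) * (q : H)) * g⁻¹ := by rw [mem_centralizer_iff.1 q.2 _ hv']
      _ = v * (g * (q : H) * g⁻¹) := by group
  have hQc : ∀ q ∈ (Q : Subgroup K), ∀ k : K, q * k = k * q := fun q hq k =>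
    Subtype.ext (mem_centralizer_iff.1 k.2 _ (hQV q hq))
  have hle : normalizer ((Q : Subgroup K) : Set K) ≤ centralizer ((Q : Subgroup K) : Set K) := fun k _ =>
    mem_centralizer_iff.2 fun q hq => hQc q hq k
  have hcompl := MonoidHom.ker_transferSylow_isComplement' Q hle
  set R := (MonoidHom.transferSylow Q hle).ker with hR
  have hRodd : (Nat.card R).Coprime 2 := by
    rw [← hcompl.index_eq_card]
    exact (Nat.prime_two.coprime_iff_not_dvd.2 Q.not_dvd_index).symm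
  obtain ⟨⟨r, q⟩, hrq⟩ := hcompl.2 (⟨n, mem_centralizer_iff.2 fun v hv => (hn v hv).symm⟩ : K)
  exact ⟨(r.1 : H), ⟨r.1, Core.le_pPrimeCore hRodd r.2, rfl⟩, (q.1 : H), hQV _ q.2,
    (congrArg Subtype.val hrq).symm⟩

theorem core_cent_le {b : H} (hb : b ∈ V) (hb1 : b ≠ 1) : core (centralizer (V : Set H)) ≤ theta b := by
  set O := core (centralizer (V : Set H)) with hO
  have hOb : O ≤ centralizer ({b} : Set H) := (core_le _).trans (centralizer_le (by simpa using hb))
  have hON : ∀ n ∈ normalizer (V : Set H), ∀ a ∈ O, n * a * n⁻¹ ∈ O := by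
    intro n hn a ha
    refine le_core (D := O.map (MulAut.conj n).toMonoidHom) ?_ ?_ ?_ ⟨a, ha, rfl⟩
    · rintro _ ⟨c, hc, rfl⟩
      refine mem_centralizer_iff.2 fun v hv => ?_
      have hv' : n⁻¹ * v * n ∈ V := by
        have h := (mem_normalizer_iff.1 (inv_mem hn) v).1 hv
        rwa [inv_inv] at h
      show v * (n * c * n⁻¹) = n * c * n⁻¹ * v
      calc v * (n * c * n⁻¹) = n * ((n⁻¹ * v * n) * c) * n⁻¹ := by group
        _ = n * (c * (n⁻¹ * v * n)) * n⁻¹ := by rw [mem_centralizer_iff.1 (core_le _ hc) _ hv']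
        _ = n * c * n⁻¹ * v := by group
    · rw [card_map_of_injective (MulAut.conj n).injective]
      exact core_odd _
    · intro k hk _ hc
      obtain ⟨c, hc, rfl⟩ := hc
      have hk' : n⁻¹ * k * n ∈ centralizer (V : Set H) := mem_centralizer_iff.2 fun v hv => by
        have hv' : n * v * n⁻¹ ∈ V := (mem_normalizer_iff.1 hn v).1 hv
        calc v * (n⁻¹ * k * n) = n⁻¹ * ((n * v * n⁻¹) * k) * n := by group
          _ = n⁻¹ * (k * (n * v * n⁻¹)) * n := by rw [mem_centralizer_iff.1 hk _ hv']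
          _ = n⁻¹ * k * n * v := by group
      exact ⟨n⁻¹ * k * n * c * (n⁻¹ * k * n)⁻¹, core_conj hk' hc,
        show n * _ * n⁻¹ = k * (n * c * n⁻¹) * k⁻¹ by group⟩
  have hOn : O ≤ normalizer (theta b : Set H) := fun a ha => Invol.mem_normalizer_of_conj_le (by
    rintro _ ⟨c, hc, rfl⟩
    exact core_conj (hOb ha) hc)
  refine le_trans le_sup_left (le_core (D := O ⊔ theta b) (sup_le hOb (theta_le b)) ?_ ?_)
  · intro h
    have hdvd : Nat.card ↥(O ⊔ theta b) ∣ Nat.card O * Nat.card (theta b) := by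
      haveI : ((theta b).subgroupOf O).Normal := normal_subgroupOf_of_le_normalizer hOn
      haveI : ((theta b).subgroupOf (O ⊔ theta b)).Normal :=
        normal_subgroupOf_of_le_normalizer (sup_le hOn le_normalizer)
      have h2 := card_eq_card_quotient_mul_card_subgroup ((theta b).subgroupOf (O ⊔ theta b))
      rw [Nat.card_congr (QuotientGroup.quotientInfEquivProdNormalizerQuotient O (theta b) hOn).symm.toEquiv,
        Nat.card_congr (subgroupOfEquivOfLe le_sup_right).toEquiv] at h2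
      exact h2 ▸ Nat.mul_dvd_mul_right (card_quotient_dvd_card _) _
    rcases Nat.prime_two.dvd_mul.1 (h.trans hdvd) with h' | h'
    · exact core_odd _ h'
    · exact core_odd _ h'
  · intro k hk a ha
    obtain ⟨o, ho, n, hn, hnb, rfl⟩ := P.loc b hb hb1 k (mem_centralizer_singleton_iff.1 hk)
    have hnC : n ∈ centralizer ({b} : Set H) := mem_centralizer_singleton_iff.2 hnb
    have h1 : n * a * n⁻¹ ∈ O ⊔ theta b := by
      have hle : (O ⊔ theta b).map (MulAut.conj n).toMonoidHom ≤ O ⊔ theta b := by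
        rw [Subgroup.map_sup]
        refine sup_le_sup ?_ ?_ <;> rintro _ ⟨c, hc, rfl⟩
        · exact hON n hn c hc
        · exact core_conj hnC hc
      exact hle ⟨a, ha, rfl⟩
    rw [show o * n * a * (o * n)⁻¹ = o * (n * a * n⁻¹) * o⁻¹ by group]
    exact mul_mem (mul_mem (mem_sup_right ho) h1) (inv_mem (mem_sup_right ho))

theorem balance {a b : H} (ha : a ∈ V) (hb : b ∈ V) (hb1 : b ≠ 1) :
    theta a ⊓ centralizer ({b} : Set H) ≤ theta b := by
  intro d hd
  obtain ⟨o, ho, n, hn, hnb, rfl⟩ := P.loc b hb hb1 d (mem_centralizer_singleton_iff.1 hd.2)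
  have hoC : o ∈ centralizer ({b} : Set H) := theta_le b ho
  have hVa : ∀ v ∈ V, v ∈ centralizer ({a} : Set H) := fun v hv => mem_centralizer_singleton_iff.2 (P.comm v hv a ha)
  have hVb : ∀ v ∈ V, v ∈ centralizer ({b} : Set H) := fun v hv => mem_centralizer_singleton_iff.2 (P.comm v hv b hb)
  have hncent : ∀ v ∈ V, n * v = v * n := by
    intro v hv
    have hw : n * v * n⁻¹ * v⁻¹ ∈ V := mul_mem ((mem_normalizer_iff.1 hn v).1 hv) (inv_mem hv)
    have hy : o * n * v * (o * n)⁻¹ * v⁻¹ ∈ theta a := by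
      have h := mul_mem hd.1 (core_conj (hVa v hv) (inv_mem hd.1))
      rwa [show o * n * (v * (o * n)⁻¹ * v⁻¹) = o * n * v * (o * n)⁻¹ * v⁻¹ by group] at h
    have e : o * n * v * (o * n)⁻¹ * v⁻¹ =
        (o * ((n * v * n⁻¹ * v⁻¹ * v) * o⁻¹ * (n * v * n⁻¹ * v⁻¹ * v)⁻¹)) * (n * v * n⁻¹ * v⁻¹) := by group
    have ho' : o * ((n * v * n⁻¹ * v⁻¹ * v) * o⁻¹ * (n * v * n⁻¹ * v⁻¹ * v)⁻¹) ∈ theta b :=
      mul_mem ho (core_conj (hVb _ (mul_mem hw hv)) (inv_mem ho))
    have hw1 := two_part_trivial (D := theta b) (core_odd _) ho' (P.sq _ hw)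
      (fun c hc => core_conj (hVb _ hw) hc) (odd_orderOf (D := theta a) (core_odd _) hy) e
    rw [mul_inv_eq_one] at hw1
    exact mul_inv_eq_iff_eq_mul.1 hw1
  obtain ⟨r, hr, v, hv, rfl⟩ := P.cent_split hncent
  have hr' : r ∈ theta b := P.core_cent_le hb hb1 hr
  have hv1 := two_part_trivial (D := theta b) (core_odd _) (mul_mem ho hr') (P.sq v hv)
    (fun c hc => core_conj (hVb v hv) hc) (odd_orderOf (D := theta a) (core_odd _) hd.1) (mul_assoc o r v).symm
  rw [hv1, mul_one]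
  exact mul_mem ho hr'

/-- `V` is normal modulo the odd core. -/
theorem main (g : H) : ∃ o ∈ Cfsg.oddCore H, ∃ n ∈ normalizer (V : Set H), g = o * n := by
  haveI : Fact (Nat.Prime 2) := ⟨Nat.prime_two⟩
  obtain ⟨hWodd, -⟩ := Cfsg.Agent.S0217.result (p := 2) V P.comm (fun a ha => by rw [pow_two, P.sq a ha])
    (by have := P.rank; omega) theta (fun a _ _ => theta_le a) (fun a _ _ => core_odd _)
    (fun a ha _ b hb x hx => core_conj (mem_centralizer_singleton_iff.2 (P.comm b hb a ha)) hx)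
    (fun a _ _ => Cfsg.Agent.S0205.result (Nat.odd_iff.2 (Nat.two_dvd_ne_zero.1 (core_odd _))))
    (fun a ha _ b hb hb1 => P.balance ha hb hb1)
  set W := ⨆ a : {a : H // a ∈ V ∧ a ≠ 1}, theta a.1 with hW
  have hthW : ∀ a ∈ V, a ≠ 1 → theta a ≤ W := fun a ha ha1 =>
    le_iSup (fun c : {a : H // a ∈ V ∧ a ≠ 1} => theta c.1) ⟨a, ha, ha1⟩
  have hNW : normalizer (V : Set H) ≤ normalizer (W : Set H) := fun n hn => Invol.mem_normalizer_of_conj_le (by
    rw [hW, Subgroup.map_iSup]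
    refine iSup_le fun a => ?_
    rintro _ ⟨c, hc, rfl⟩
    exact hthW _ ((mem_normalizer_iff.1 hn _).1 a.2.1) (fun e => a.2.2 (by rwa [conj_eq_one_iff] at e))
      (theta_conj hc))
  have hCW : ∀ M : Subgroup H, normalizer (V : Set H) ≤ M → W ≤ M →
      ∀ x ∈ V, x ≠ 1 → centralizer ({x} : Set H) ≤ M := fun M hN hWM x hx hx1 c hc => by
    obtain ⟨o, ho, n, hn, -, rfl⟩ := P.loc x hx hx1 c (mem_centralizer_singleton_iff.1 hc)
    exact mul_mem (hWM (hthW x hx hx1 ho)) (hN hn)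
  haveI : W.Normal := normalizer_eq_top_iff.1 (P.full hNW (hCW _ hNW le_normalizer))
  have hWO : W ≤ Cfsg.oddCore H := Core.le_pPrimeCore ((Nat.prime_two.coprime_iff_not_dvd.2 hWodd).symm)
  have htop := P.full (M := Cfsg.oddCore H ⊔ normalizer (V : Set H)) le_sup_right
    (hCW _ le_sup_right (hWO.trans le_sup_left))
  obtain ⟨o, ho, n, hn, e⟩ := mem_sup_of_normal_left.1 (htop ▸ mem_top g : g ∈ Cfsg.oddCore H ⊔ normalizer (V : Set H))
  exact ⟨o, ho, n, hn, e.symm⟩

end Split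

end Cfsg.Agent.SylJ2
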