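import Cfsg.Agent.SylJ2.Core

/-!
Burnside's splitting for a Sylow 2-subgroup central in its normalizer, and odd cores modulo a central 2-subgroup.
-/

set_option autoImplicit false
set_option linter.unusedSectionVars false
set_option linter.style.haveILetI false

namespace Cfsg.Agent.SylJ2

open Subgroup

variable {G : Type*} [Group G] [Finite G]

theorem burnside_split (P : Sylow 2 G)
    (h : normalizer ((P : Subgroup G) : Set G) ≤ centralizer ((P : Subgroup G) : Set G)) (g : G) :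
    ∃ o ∈ Cfsg.oddCore G, ∃ a ∈ (P : Subgroup G), g = o * a := by
  haveI : Fact (Nat.Prime 2) := ⟨Nat.prime_two⟩
  have hcompl := MonoidHom.ker_transferSylow_isComplement' P h
  have hodd : (Nat.card (MonoidHom.transferSylow P h).ker).Coprime 2 := by
    rw [← hcompl.index_eq_card]
    exact (Nat.prime_two.coprime_iff_not_dvd.2 P.not_dvd_index).symm
  obtain ⟨⟨r, a⟩, hra⟩ := hcompl.2 g
  exact ⟨r.1, Core.le_pPrimeCore hodd r.2, a.1, a.2, hra.symm⟩

/-- The odd core modulo a central 2-subgroup comes from the odd core. -/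
theorem core_central (Z : Subgroup G) [Z.Normal] (hZ : Z ≤ center G) (h2 : IsPGroup 2 Z) {x : G}
    (hx : (QuotientGroup.mk x : G ⧸ Z) ∈ Cfsg.oddCore (G ⧸ Z)) : ∃ o ∈ Cfsg.oddCore G, o⁻¹ * x ∈ Z := by
  haveI : Fact (Nat.Prime 2) := ⟨Nat.prime_two⟩
  set P : Subgroup G := (Cfsg.oddCore (G ⧸ Z)).comap (QuotientGroup.mk' Z) with hP
  haveI : P.Normal := Normal.comap inferInstance _
  have hZP : Z ≤ P := fun a ha => by
    rw [hP, mem_comap, QuotientGroup.mk'_apply, (QuotientGroup.eq_one_iff a).2 ha]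
    exact one_mem _
  obtain ⟨T, hT⟩ := (h2.comap_subtype (K := P)).exists_le_sylow
  have hTZ : ∀ t ∈ (T : Subgroup P), (t : G) ∈ Z := by
    intro t ht
    have hm : (QuotientGroup.mk (t : G) : G ⧸ Z) ∈ Cfsg.oddCore (G ⧸ Z) := t.2
    obtain ⟨k, hk⟩ := IsPGroup.iff_orderOf.1 T.2 ⟨t, ht⟩
    rw [orderOf_mk] at hk
    have h1 : orderOf (QuotientGroup.mk (t : G) : G ⧸ Z) ∣ 2 ^ k :=
      (orderOf_map_dvd ((QuotientGroup.mk' Z).comp P.subtype) t).trans hk.dvd
    have h2' : orderOf (QuotientGroup.mk (t : G) : G ⧸ Z) ∣ Nat.card (Cfsg.oddCore (G ⧸ Z)) :=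
      Subgroup.orderOf_dvd_natCard _ hm
    exact (QuotientGroup.eq_one_iff _).1 (orderOf_eq_one_iff.1 (Nat.eq_one_of_dvd_coprimes
      ((Nat.prime_two.coprime_iff_not_dvd.2 Core.not_dvd_card_pPrimeCore).pow_left k) h1 h2'))
  obtain ⟨o, ho, a, ha, he⟩ := burnside_split T (fun k _ => mem_centralizer_iff.2 fun t ht =>
    Subtype.ext (mem_center_iff.1 (hZ (hTZ t ht)) k).symm) (⟨x, hx⟩ : P)
  refine ⟨o.1, (Core.map_pPrimeCore_normal P).le.trans inf_le_left ⟨o, ho, rfl⟩, ?_⟩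
  rw [show x = (o : G) * a from congrArg Subtype.val he, inv_mul_cancel_left]
  exact hTZ a ha

theorem core_stable {K : Subgroup G} {g a : G} (hg : g ∈ normalizer (K : Set G)) (ha : a ∈ core K) :
    g * a * g⁻¹ ∈ core K := by
  refine le_core (D := (core K).map (MulAut.conj g).toMonoidHom) ?_ ?_ ?_ ⟨a, ha, rfl⟩
  · rintro _ ⟨c, hc, rfl⟩
    exact (mem_normalizer_iff.1 hg c).1 (core_le K hc)
  · rw [card_map_of_injective (MulAut.conj g).injective]
    exact core_odd K
  · intro k hk _ hc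
    obtain ⟨c, hc, rfl⟩ := hc
    refine ⟨g⁻¹ * k * g * c * (g⁻¹ * k * g)⁻¹, core_conj ?_ hc,
      show g * _ * g⁻¹ = k * (g * c * g⁻¹) * k⁻¹ by group⟩
    have := (mem_normalizer_iff.1 (inv_mem hg) k).1 hk
    rwa [inv_inv] at this

theorem fix_of_odd {n w d : G} (hn : Odd (orderOf n)) (hd : d * d = 1) (hnd : n * d = d * n)
    (h : n * w * n⁻¹ = d * w) : n * w * n⁻¹ = w := by
  have hi : ∀ i : ℕ, n ^ i * w * (n ^ i)⁻¹ = d ^ i * w := by
    intro i
    induction i with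
    | zero => simp
    | succ i ih =>
      calc n ^ (i + 1) * w * (n ^ (i + 1))⁻¹ = n * (n ^ i * w * (n ^ i)⁻¹) * n⁻¹ := by rw [pow_succ']; group
        _ = n * (d ^ i * w) * n⁻¹ := by rw [ih]
        _ = n * d ^ i * n⁻¹ * (n * w * n⁻¹) := by group
        _ = d ^ i * (d * w) := by
            rw [h, ((show Commute n d from hnd).pow_right i).eq, mul_inv_cancel_right]
        _ = d ^ (i + 1) * w := by rw [pow_succ, mul_assoc]
  obtain ⟨k, hk⟩ := hn
  have h1 := hi (orderOf n)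
  rw [pow_orderOf_eq_one, inv_one, mul_one, one_mul, hk, pow_succ, pow_mul, pow_two, hd, one_pow, one_mul] at h1
  rw [h, ← h1]

end Cfsg.Agent.SylJ2
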