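import Cfsg.Agent.SylJ2.Model

/-!
A group with a Sylow 2-subgroup of Hall-Janko type: the distinguished subgroups and their properties.
-/

set_option autoImplicit false
set_option linter.unusedSectionVars false
set_option linter.style.haveILetI false

namespace Cfsg.Agent.SylJ2

theorem all_spec {p : ℕ → Bool} {n : ℕ} (h : (List.range n).all p = true) {a : ℕ} (ha : a < n) : p a = true :=
  List.all_eq_true.1 h a (List.mem_range.2 ha)

/-- A Sylow 2-subgroup parametrized by the 128 codes. -/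
structure Syl (G : Type*) [Group G] where
  φ : ℕ → G
  mul : ∀ a < 128, ∀ b < 128, φ a * φ b = φ (mulN a b)
  inj : ∀ a < 128, ∀ b < 128, φ a = φ b → a = b
  S : Sylow 2 G
  range : ∀ g : G, g ∈ (S : Subgroup G) ↔ ∃ a < 128, φ a = g

namespace Syl

variable {G : Type*} [Group G] [Finite G] (L : Syl G)
include L

/-- The central involution. -/
def z : G := L.φ 16

/-- The involution of the fixed class. -/
def q : G := L.φ 15

/-- An involution of a moved class. -/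
def r : G := L.φ 8

theorem mem {a : ℕ} (ha : a < 128) : L.φ a ∈ (L.S : Subgroup G) := (L.range _).2 ⟨a, ha, rfl⟩

theorem lt {a b : ℕ} (ha : a < 128) (hb : b < 128) : mulN a b < 128 :=
  of_decide_eq_true (all_spec (all_spec closed ha) hb)

theorem centre_spec {a : ℕ} (ha : a < 128) : mulN 0 a = a ∧ mulN a 0 = a ∧ cm 16 a = true ∧
    ((List.range 128).all (fun b => cm a b) = true → a = 0 ∨ a = 16) := by
  have h := all_spec centre ha
  simp only [Bool.and_eq_true, beq_iff_eq, Bool.or_eq_true, Bool.not_eq_true'] at h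
  obtain ⟨⟨⟨h1, h2⟩, h3⟩, h4⟩ := h
  refine ⟨h1, h2, h3, fun hall => ?_⟩
  rcases h4 with (h4 | h4) | h4
  · rw [hall] at h4; exact absurd h4 (by decide)
  · exact Or.inl h4
  · exact Or.inr h4

theorem φ_zero : L.φ 0 = 1 := by
  have h := L.mul 0 (by norm_num) 0 (by norm_num)
  rw [(L.centre_spec (a := 0) (by norm_num)).1] at h
  exact mul_eq_left.1 h

theorem cm_iff {a b : ℕ} (ha : a < 128) (hb : b < 128) : cm a b = true ↔ L.φ a * L.φ b = L.φ b * L.φ a := by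
  rw [cm, beq_iff_eq, L.mul a ha b hb, L.mul b hb a ha]
  exact ⟨fun h => by rw [h], fun h => L.inj _ (L.lt ha hb) _ (L.lt hb ha) h⟩

theorem sq_iff {a : ℕ} (ha : a < 128) {c : ℕ} (hc : c < 128) : mulN a a = c ↔ L.φ a * L.φ a = L.φ c := by
  rw [L.mul a ha a ha]
  exact ⟨fun h => by rw [h], fun h => L.inj _ (L.lt ha ha) _ hc h⟩

theorem one_iff {a : ℕ} (ha : a < 128) : L.φ a = 1 ↔ a = 0 :=
  ⟨fun h => L.inj a ha 0 (by norm_num) (h.trans L.φ_zero.symm), fun h => h ▸ L.φ_zero⟩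

theorem z_mem : L.z ∈ (L.S : Subgroup G) := L.mem (by norm_num)

theorem q_mem : L.q ∈ (L.S : Subgroup G) := L.mem (by norm_num)

theorem zz : L.z * L.z = 1 := by
  rw [z, L.mul 16 (by norm_num) 16 (by norm_num), points.2.1, L.φ_zero]

theorem qq : L.q * L.q = 1 := by
  rw [q, L.mul 15 (by norm_num) 15 (by norm_num), points.1, L.φ_zero]

theorem zne : L.z ≠ 1 := fun h => by simpa using (L.one_iff (a := 16) (by norm_num)).1 h

theorem qne : L.q ≠ 1 := fun h => by simpa using (L.one_iff (a := 15) (by norm_num)).1 h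

theorem qnz : L.q ≠ L.z := fun h => by simpa using L.inj 15 (by norm_num) 16 (by norm_num) h

theorem zi : L.z⁻¹ = L.z := inv_eq_of_mul_eq_one_right L.zz

theorem z_comm {s : G} (hs : s ∈ (L.S : Subgroup G)) : L.z * s = s * L.z := by
  obtain ⟨a, ha, rfl⟩ := (L.range s).1 hs
  exact (L.cm_iff (by norm_num) ha).1 (L.centre_spec ha).2.2.1

theorem central {x : G} (hx : x ∈ (L.S : Subgroup G)) (h : ∀ s ∈ (L.S : Subgroup G), x * s = s * x) :
    x = 1 ∨ x = L.z := by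
  obtain ⟨a, ha, rfl⟩ := (L.range x).1 hx
  rcases (L.centre_spec ha).2.2.2 (List.all_eq_true.2 fun b hb =>
    (L.cm_iff ha (List.mem_range.1 hb)).2 (h _ (L.mem (List.mem_range.1 hb)))) with rfl | rfl
  · exact Or.inl L.φ_zero
  · exact Or.inr rfl

theorem card_S : Nat.card (L.S : Subgroup G) = 128 := by
  rw [← Nat.card_fin 128]
  refine (Nat.card_congr (Equiv.ofBijective (fun i : Fin 128 => (⟨L.φ i, L.mem i.2⟩ : (L.S : Subgroup G))) ⟨?_, ?_⟩)).symm
  · exact fun i j h => Fin.ext (L.inj _ i.2 _ j.2 (congrArg Subtype.val h))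
  · rintro ⟨g, hg⟩
    obtain ⟨a, ha, rfl⟩ := (L.range g).1 hg
    exact ⟨⟨a, ha⟩, rfl⟩

/-- The four group `⟨z, q⟩`, as a predicate. -/
def Z0 (x : G) : Prop := x = 1 ∨ x = L.z ∨ x = L.q ∨ x = L.z * L.q

theorem zq_iff {a : ℕ} (ha : a < 128) : zq.contains a = true ↔ L.Z0 (L.φ a) := by
  have h31 : L.φ 31 = L.z * L.q := by
    rw [z, q, L.mul 16 (by norm_num) 15 (by norm_num), points.2.2.1]
  simp only [zq, List.contains_eq_mem, List.mem_cons, List.not_mem_nil, or_false, decide_eq_true_eq, Z0]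
  constructor
  · rintro (rfl | rfl | rfl | rfl)
    exacts [Or.inl L.φ_zero, Or.inr (Or.inl rfl), Or.inr (Or.inr (Or.inl rfl)), Or.inr (Or.inr (Or.inr h31))]
  · rintro (h | h | h | h)
    · exact Or.inl ((L.one_iff ha).1 h)
    · exact Or.inr (Or.inl (L.inj a ha 16 (by norm_num) h))
    · exact Or.inr (Or.inr (Or.inl (L.inj a ha 15 (by norm_num) h)))
    · exact Or.inr (Or.inr (Or.inr (L.inj a ha 31 (by norm_num) (h.trans h31.symm))))

theorem Z0_one : L.Z0 1 := Or.inl rfl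

theorem Z0_z : L.Z0 L.z := Or.inr (Or.inl rfl)

theorem Z0_q : L.Z0 L.q := Or.inr (Or.inr (Or.inl rfl))

theorem inv_code {a : ℕ} (ha : a < 128) : ∃ b < 128, L.φ b = (L.φ a)⁻¹ :=
  (L.range _).1 (inv_mem (L.mem ha))

/-- The extraspecial subgroup. -/
def Q : Subgroup G where
  carrier := {g | ∃ a < 32, L.φ a = g}
  one_mem' := ⟨0, by norm_num, L.φ_zero⟩
  mul_mem' := by
    rintro _ _ ⟨a, ha, rfl⟩ ⟨b, hb, rfl⟩
    refine ⟨mulN a b, ?_, (L.mul a (by omega) b (by omega)).symm⟩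
    have h := of_decide_eq_true (all_spec (all_spec quot_facts (a := a) (by omega)) (a := b) (by omega))
    rw [Nat.div_eq_of_lt ha, Nat.div_eq_of_lt hb, Nat.xor_self] at h
    exact (Nat.div_eq_zero_iff.1 h).resolve_left (by norm_num)
  inv_mem' := by
    rintro _ ⟨a, ha, rfl⟩
    obtain ⟨b, hb, hba⟩ := L.inv_code (a := a) (by omega)
    refine ⟨b, ?_, hba⟩
    have h := of_decide_eq_true (all_spec (all_spec quot_facts (a := a) (by omega)) hb)
    have e : mulN a b = 0 := L.inj _ (L.lt (by omega) hb) 0 (by norm_num)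
      (by rw [← L.mul a (by omega) b hb, hba, mul_inv_cancel, L.φ_zero])
    rw [e, Nat.div_eq_of_lt ha, Nat.zero_xor, Nat.zero_div] at h
    exact (Nat.div_eq_zero_iff.1 h.symm).resolve_left (by norm_num)

theorem Q_le : L.Q ≤ (L.S : Subgroup G) := by
  rintro _ ⟨a, ha, rfl⟩
  exact L.mem (by omega)

theorem Q_iff {a : ℕ} (ha : a < 128) : L.φ a ∈ L.Q ↔ a < 32 :=
  ⟨fun ⟨b, hb, hba⟩ => L.inj b (by omega) a ha hba ▸ hb, fun h => ⟨a, h, rfl⟩⟩

theorem card_Q : Nat.card L.Q = 32 := by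
  rw [← Nat.card_fin 32]
  refine (Nat.card_congr (Equiv.ofBijective (fun i : Fin 32 => (⟨L.φ i, i, i.2, rfl⟩ : L.Q)) ⟨?_, ?_⟩)).symm
  · exact fun i j h => Fin.ext (L.inj _ (by omega) _ (by omega) (congrArg Subtype.val h))
  · rintro ⟨g, a, ha, rfl⟩
    exact ⟨⟨a, ha⟩, rfl⟩

theorem Z0_Q {x : G} (h : L.Z0 x) : x ∈ L.Q := by
  have hz : L.z ∈ L.Q := ⟨16, by norm_num, rfl⟩
  have hq : L.q ∈ L.Q := ⟨15, by norm_num, rfl⟩
  rcases h with rfl | rfl | rfl | rfl
  exacts [one_mem _, hz, hq, mul_mem hz hq]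

theorem Q_normal {s a : G} (hs : s ∈ (L.S : Subgroup G)) (ha : a ∈ L.Q) : s * a * s⁻¹ ∈ L.Q := by
  obtain ⟨c, hc, rfl⟩ := (L.range s).1 hs
  obtain ⟨b, hb, rfl⟩ := ha
  obtain ⟨c', hc', hcc⟩ := L.inv_code hc
  refine ⟨mulN (mulN c b) c', ?_, by rw [← L.mul _ (L.lt hc (by omega)) c' hc', ← L.mul c hc b (by omega), hcc]⟩
  have h1 := of_decide_eq_true (all_spec (all_spec quot_facts hc) (a := b) (by omega))
  have h2 := of_decide_eq_true (all_spec (all_spec quot_facts (L.lt hc (a := c) (b := b) (by omega))) hc')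
  have h3 := of_decide_eq_true (all_spec (all_spec quot_facts hc) hc')
  have e : mulN c c' = 0 := L.inj _ (L.lt hc hc') 0 (by norm_num)
    (by rw [← L.mul c hc c' hc', hcc, mul_inv_cancel, L.φ_zero])
  rw [e, Nat.zero_div] at h3
  rw [h1, Nat.div_eq_of_lt hb, Nat.xor_zero, ← h3] at h2
  exact (Nat.div_eq_zero_iff.1 h2).resolve_left (by norm_num)

theorem root {x : G} (hx : x ∈ (L.S : Subgroup G)) (h : x * x = L.z) : x ∈ L.Q := by
  obtain ⟨a, ha, rfl⟩ := (L.range x).1 hx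
  have hs := all_spec squares ha
  simp only [Bool.and_eq_true, Bool.or_eq_true, Bool.not_eq_true', beq_eq_false_iff_ne, decide_eq_true_eq] at hs
  exact (L.Q_iff ha).2 (hs.1.1.resolve_left fun hn => hn ((L.sq_iff ha (by norm_num)).2 h))

theorem sq_invol {x : G} (hx : x ∈ (L.S : Subgroup G)) (h : x * x * (x * x) = 1) : L.Z0 (x * x) := by
  obtain ⟨a, ha, rfl⟩ := (L.range x).1 hx
  have hs := all_spec squares ha
  simp only [Bool.and_eq_true, Bool.or_eq_true, Bool.not_eq_true', beq_eq_false_iff_ne] at hs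
  rw [L.mul a ha a ha]
  refine (L.zq_iff (L.lt ha ha)).1 (hs.1.2.resolve_left fun hn => hn ?_)
  rw [L.sq_iff (L.lt ha ha) (c := 0) (by norm_num), ← L.mul a ha a ha, h, L.φ_zero]

/-- The centralizer of `q` in the Sylow subgroup. -/
def W : Subgroup G := (L.S : Subgroup G) ⊓ Subgroup.centralizer {L.q}

theorem mem_W {x : G} : x ∈ L.W ↔ x ∈ (L.S : Subgroup G) ∧ x * L.q = L.q * x := by
  rw [W, Subgroup.mem_inf, Subgroup.mem_centralizer_singleton_iff]

theorem W_code {a : ℕ} (ha : a < 128) : L.φ a ∈ L.W ↔ cm 15 a = true := by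
  rw [L.mem_W, L.cm_iff (by norm_num) ha]
  exact ⟨fun h => h.2.symm, fun h => ⟨L.mem ha, h.symm⟩⟩

theorem Z0_W {x : G} (h : L.Z0 x) : x ∈ L.W := by
  have hz : L.z ∈ L.W := L.mem_W.2 ⟨L.z_mem, L.z_comm L.q_mem⟩
  have hq : L.q ∈ L.W := L.mem_W.2 ⟨L.q_mem, rfl⟩
  rcases h with rfl | rfl | rfl | rfl
  exacts [one_mem _, hz, hq, mul_mem hz hq]

theorem card_W : Nat.card L.W = 64 := by
  have h : ((List.range 128).filter fun m => cm 15 m).length = 64 := points.2.2.2.2.2.2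
  let l := (List.range 128).filter fun m => cm 15 m
  have hnd : l.Nodup := List.nodup_range.filter _
  rw [← h, ← Nat.card_fin l.length]
  refine (Nat.card_congr (Equiv.ofBijective (fun i : Fin l.length => (⟨L.φ (l.get i), ?_⟩ : L.W)) ⟨?_, ?_⟩)).symm
  · have := List.mem_filter.1 (l.get_mem i)
    exact (L.W_code (List.mem_range.1 this.1)).2 this.2
  · intro i j e
    exact (hnd.get_inj_iff).1 (L.inj _ (List.mem_range.1 (List.mem_filter.1 (l.get_mem i)).1) _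
      (List.mem_range.1 (List.mem_filter.1 (l.get_mem j)).1) (congrArg Subtype.val e))
  · rintro ⟨g, hg⟩
    obtain ⟨a, ha, rfl⟩ := (L.range g).1 (L.mem_W.1 hg).1
    have hmem : a ∈ l := List.mem_filter.2 ⟨List.mem_range.2 ha, (L.W_code ha).1 hg⟩
    obtain ⟨i, hi⟩ := List.get_of_mem hmem
    exact ⟨i, Subtype.ext (show L.φ (l.get i) = _ by rw [hi])⟩

theorem W_normal {s w : G} (hs : s ∈ (L.S : Subgroup G)) (hw : w ∈ L.W) : s * w * s⁻¹ ∈ L.W := by
  obtain ⟨c, hc, rfl⟩ := (L.range s).1 hs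
  obtain ⟨b, hb, rfl⟩ := (L.range w).1 (L.mem_W.1 hw).1
  have hb' := (L.W_code hb).1 hw
  obtain ⟨c', hc', hcc⟩ := L.inv_code hc
  rw [← hcc, L.mul c hc b hb, L.mul _ (L.lt hc hb) c' hc', L.W_code (L.lt (L.lt hc hb) hc')]
  have h1 := all_spec (all_spec fixed_sign hc) hb
  have h2 := all_spec (all_spec fixed_sign (L.lt hc hb)) hc'
  have h3 := all_spec (all_spec fixed_sign hc) hc'
  have e : mulN c c' = 0 := L.inj _ (L.lt hc hc') 0 (by norm_num)
    (by rw [← L.mul c hc c' hc', hcc, mul_inv_cancel, L.φ_zero])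
  simp only [beq_iff_eq] at h1 h2 h3
  rw [e, show cm 15 0 = true by decide +kernel] at h3
  rw [h2, h1, hb']
  revert h3
  cases cm 15 c <;> cases cm 15 c' <;> simp

theorem W_comm {x y : G} (hx : x ∈ L.W) (hy : y ∈ L.W) : L.Z0 (x * y * x⁻¹ * y⁻¹) := by
  obtain ⟨a, ha, rfl⟩ := (L.range x).1 (L.mem_W.1 hx).1
  obtain ⟨b, hb, rfl⟩ := (L.range y).1 (L.mem_W.1 hy).1
  have h2 := all_spec (all_spec fixed_comm ha) hb
  rw [(L.W_code ha).1 hx, (L.W_code hb).1 hy] at h2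
  simp only [Bool.not_true, Bool.false_or, List.any_eq_true, beq_iff_eq] at h2
  obtain ⟨t, ht, hte⟩ := h2
  have ht128 : t < 128 := by
    simp only [zq, List.mem_cons, List.not_mem_nil, or_false] at ht
    omega
  have e : L.φ a * L.φ b * (L.φ a)⁻¹ * (L.φ b)⁻¹ = L.φ t := by
    rw [L.mul a ha b hb, hte, ← L.mul t ht128 _ (L.lt hb ha), ← L.mul b hb a ha]
    group
  rw [e]
  exact (L.zq_iff ht128).1 (List.contains_iff_mem.2 ht)

theorem W_center {x : G} (hx : x ∈ L.W) (h : ∀ y ∈ L.W, x * y = y * x) : L.Z0 x := by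
  obtain ⟨a, ha, rfl⟩ := (L.range x).1 (L.mem_W.1 hx).1
  have h1 := all_spec fixed_center ha
  rw [(L.W_code ha).1 hx] at h1
  simp only [Bool.not_true, Bool.false_or, Bool.or_eq_true] at h1
  refine (L.zq_iff ha).1 (h1.resolve_left fun hn => ?_)
  rw [Bool.not_eq_true'] at hn
  have htr : ((List.range 128).all fun b => !cm 15 b || cm a b) = true := List.all_eq_true.2 fun b hb => by
    have hb := List.mem_range.1 hb
    by_cases hc : cm 15 b = true
    · rw [(L.cm_iff ha hb).2 (h _ ((L.W_code hb).2 hc))]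
      simp
    · simp [hc]
  rw [htr] at hn
  exact absurd hn (by decide)

theorem W_sq {x : G} (hx : x ∈ L.W) : L.Z0 (x * x) := by
  obtain ⟨a, ha, rfl⟩ := (L.range x).1 (L.mem_W.1 hx).1
  have hs := all_spec squares ha
  simp only [Bool.and_eq_true, Bool.or_eq_true, Bool.not_eq_true'] at hs
  rw [L.mul a ha a ha]
  exact (L.zq_iff (L.lt ha ha)).1 (hs.2.resolve_left fun hn => by simp [(L.W_code ha).1 hx] at hn)

/-- The centralizer in the Sylow subgroup. -/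
def cS (x : G) : Subgroup G := (L.S : Subgroup G) ⊓ Subgroup.centralizer {x}

theorem mem_cS {x y : G} : y ∈ L.cS x ↔ y ∈ (L.S : Subgroup G) ∧ y * x = x * y := by
  rw [cS, Subgroup.mem_inf, Subgroup.mem_centralizer_singleton_iff]

theorem card_cS {a : ℕ} (ha : a < 128) : Nat.card (L.cS (L.φ a)) = cn a := by
  let l := (List.range 128).filter fun m => cm a m
  have hnd : l.Nodup := List.nodup_range.filter _
  show _ = l.length
  rw [← Nat.card_fin l.length]
  refine (Nat.card_congr (Equiv.ofBijective (fun i : Fin l.length => (⟨L.φ (l.get i), ?_⟩ : L.cS (L.φ a))) ⟨?_, ?_⟩)).symm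
  · have := List.mem_filter.1 (l.get_mem i)
    exact L.mem_cS.2 ⟨L.mem (List.mem_range.1 this.1), ((L.cm_iff ha (List.mem_range.1 this.1)).1 this.2).symm⟩
  · intro i j e
    exact (hnd.get_inj_iff).1 (L.inj _ (List.mem_range.1 (List.mem_filter.1 (l.get_mem i)).1) _
      (List.mem_range.1 (List.mem_filter.1 (l.get_mem j)).1) (congrArg Subtype.val e))
  · rintro ⟨g, hg⟩
    obtain ⟨b, hb, rfl⟩ := (L.range g).1 (L.mem_cS.1 hg).1
    have hmem : b ∈ l := List.mem_filter.2 ⟨List.mem_range.2 hb, (L.cm_iff ha hb).2 (L.mem_cS.1 hg).2.symm⟩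
    obtain ⟨i, hi⟩ := List.get_of_mem hmem
    exact ⟨i, Subtype.ext (show L.φ (l.get i) = _ by rw [hi])⟩

/-- An involution of the moved classes in the extraspecial group. -/
def Moved (x : G) : Prop :=
  x ∈ L.Q ∧ x ∉ L.W ∧ Nat.card (L.cS x) = 16 ∧ L.cS x ≤ L.Q ∧
    ∃ a ∈ L.cS x, a * a = L.z ∧ ∃ b ∈ L.cS x, a * b ≠ b * a

/-- An involution outside the extraspecial group. -/
def Outer (x : G) : Prop :=
  x ∉ L.Q ∧ x ∈ L.W ∧ Nat.card (L.cS x) = 16 ∧ L.cS x ≤ L.W ∧ (∀ y ∈ L.cS x, y * y = 1) ∧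
    (∀ y ∈ L.cS x, y ∈ L.Q → L.Z0 y) ∧ ∀ y ∈ L.cS x, ∀ w ∈ L.cS x, y * w = w * y

theorem invol {x : G} (hx : x ∈ (L.S : Subgroup G)) (h : x * x = 1) : L.Z0 x ∨ L.Moved x ∨ L.Outer x := by
  obtain ⟨a, ha, rfl⟩ := (L.range x).1 hx
  have hs := all_spec invols ha
  have h0 : mulN a a = 0 := (L.sq_iff ha (by norm_num)).2 (h.trans L.φ_zero.symm)
  simp only [h0, beq_self_eq_true, Bool.not_true, Bool.false_or, Bool.or_eq_true, Bool.and_eq_true,
    decide_eq_true_eq, Bool.not_eq_true', beq_iff_eq, List.all_eq_true, List.any_eq_true, List.mem_range,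
    decide_eq_false_iff_not] at hs
  have hcs : ∀ y ∈ L.cS (L.φ a), ∃ b < 128, L.φ b = y ∧ cm a b = true := fun y hy => by
    obtain ⟨b, hb, rfl⟩ := (L.range y).1 (L.mem_cS.1 hy).1
    exact ⟨b, hb, rfl, (L.cm_iff ha hb).2 (L.mem_cS.1 hy).2.symm⟩
  have hin : ∀ b < 128, cm a b = true → L.φ b ∈ L.cS (L.φ a) := fun b hb hc =>
    L.mem_cS.2 ⟨L.mem hb, ((L.cm_iff ha hb).1 hc).symm⟩
  rcases hs with (hz | ⟨⟨⟨⟨hlt, hcq⟩, hn⟩, hall⟩, b, hb, ⟨hab, hbb⟩, c, hc, hac, hbc⟩) | ⟨⟨⟨hlt, hcq⟩, hn⟩, hall⟩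
  · exact Or.inl ((L.zq_iff ha).1 hz)
  · refine Or.inr (Or.inl ⟨(L.Q_iff ha).2 hlt, fun hw => ?_, by rw [L.card_cS ha, hn], fun y hy => ?_,
      L.φ b, hin b hb hab, (L.sq_iff hb (by norm_num)).1 hbb, L.φ c, hin c hc hac, fun e => ?_⟩)
    · rw [(L.W_code ha).1 hw] at hcq
      exact absurd hcq (by decide)
    · obtain ⟨d, hd, rfl, hcd⟩ := hcs y hy
      exact (L.Q_iff hd).2 ((hall d hd).resolve_left fun hh => by simp [hcd] at hh)
    · rw [(L.cm_iff hb hc).2 e] at hbc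
      exact absurd hbc (by decide)
  · have key : ∀ y ∈ L.cS (L.φ a), y * y = 1 ∧ y ∈ L.W ∧ (y ∈ L.Q → L.Z0 y) := by
      intro y hy
      obtain ⟨d, hd, rfl, hcd⟩ := hcs y hy
      obtain ⟨⟨⟨h1, h2⟩, h3⟩, -⟩ := (hall d hd).resolve_left fun hh => by simp [hcd] at hh
      refine ⟨((L.sq_iff hd (by norm_num)).1 h1).trans L.φ_zero, (L.W_code hd).2 h2, fun hQ => (L.zq_iff hd).1 ?_⟩
      exact h3.resolve_left fun hh => hh ((L.Q_iff hd).1 hQ)
    refine Or.inr (Or.inr ⟨fun hq => hlt ((L.Q_iff ha).1 hq), (L.W_code ha).2 hcq, by rw [L.card_cS ha, hn],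
      fun y hy => (key y hy).2.1, fun y hy => (key y hy).1, fun y hy => (key y hy).2.2, fun y hy w hw => ?_⟩)
    obtain ⟨d, hd, rfl, hcd⟩ := hcs y hy
    obtain ⟨e, he, rfl, hce⟩ := hcs w hw
    refine (L.cm_iff hd he).1 ?_
    rcases ((hall d hd).resolve_left fun hh => by simp [hcd] at hh).2 e he with (hh | hh) | hh
    · simp [hce] at hh
    · simp [hcd] at hh
    · exact hh

theorem Q_pair {x y : G} (hx : x ∈ L.Q) (hy : y ∈ L.Q) (hx2 : x * x = 1) (hy2 : y * y = 1) (hxy : x * y = y * x) :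
    x = 1 ∨ x = L.z ∨ y = 1 ∨ y = L.z ∨ y = x ∨ y = L.z * x := by
  obtain ⟨a, ha, rfl⟩ := hx
  obtain ⟨b, hb, rfl⟩ := hy
  have ha' : a < 128 := by omega
  have hb' : b < 128 := by omega
  have hs := all_spec (all_spec qpair ha) hb
  rw [(L.sq_iff ha' (c := 0) (by norm_num)).2 (hx2.trans L.φ_zero.symm),
    (L.sq_iff hb' (c := 0) (by norm_num)).2 (hy2.trans L.φ_zero.symm), (L.cm_iff ha' hb').2 hxy] at hs
  simp only [beq_self_eq_true, Bool.and_self, Bool.not_true, Bool.false_or, Bool.or_eq_true, beq_iff_eq] at hs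
  rcases hs with ((((rfl | rfl) | rfl) | rfl) | rfl) | e
  exacts [Or.inl L.φ_zero, Or.inr (Or.inl rfl), Or.inr (Or.inr (Or.inl L.φ_zero)),
    Or.inr (Or.inr (Or.inr (Or.inl rfl))), Or.inr (Or.inr (Or.inr (Or.inr (Or.inl rfl)))),
    Or.inr (Or.inr (Or.inr (Or.inr (Or.inr (by rw [e, z, L.mul 16 (by norm_num) a ha'])))))]

theorem moved_r : L.Moved L.r := by
  have hr2 : L.r * L.r = 1 := by
    rw [r, L.mul 8 (by norm_num) 8 (by norm_num), points.2.2.2.2.1, L.φ_zero]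
  have hw : L.r ∉ L.W := fun h => by
    have := (L.W_code (a := 8) (by norm_num)).1 h
    rw [points.2.2.2.2.2.1] at this
    exact absurd this (by decide)
  rcases L.invol (L.mem (by norm_num)) hr2 with h | h | h
  · exact absurd (L.Z0_W h) hw
  · exact h
  · exact absurd h.2.1 hw

theorem outer_code {a : ℕ} (ha : a < 128) (h : L.Outer (L.φ a)) : isOuter a = true := by
  obtain ⟨hQ, hW, -, -, hel, -⟩ := h
  have h2 := hel _ (L.mem_cS.2 ⟨L.mem ha, rfl⟩)
  have h0 : mulN a a = 0 := (L.sq_iff ha (by norm_num)).2 (h2.trans L.φ_zero.symm)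
  simp only [isOuter, h0, Bool.and_eq_true, Bool.not_eq_true', decide_eq_false_iff_not, beq_self_eq_true, and_true]
  exact fun hl => hQ ((L.Q_iff ha).2 hl)

theorem exists_outer : ∃ y, L.Outer y := by
  have h32 : mulN 32 32 = 0 := by decide +kernel
  have hsq : L.φ 32 * L.φ 32 = 1 := by rw [L.mul 32 (by norm_num) 32 (by norm_num), h32, L.φ_zero]
  have hQ : L.φ 32 ∉ L.Q := fun h => by simpa using (L.Q_iff (a := 32) (by norm_num)).1 h
  rcases L.invol (L.mem (by norm_num)) hsq with h | h | h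
  · exact absurd (L.Z0_Q h) hQ
  · exact absurd h.1 hQ
  · exact ⟨_, h⟩

theorem W_gen {w : G} (hw : w ∈ L.W) : ∃ b ∈ L.W, ∃ c ∈ L.W, b * b = 1 ∧ c * c = 1 ∧ b * c = w := by
  obtain ⟨a, ha, rfl⟩ := (L.range w).1 (L.mem_W.1 hw).1
  have h := all_spec gen ha
  rw [(L.W_code ha).1 hw] at h
  simp only [Bool.not_true, Bool.false_or, List.any_eq_true, List.mem_range, Bool.and_eq_true, beq_iff_eq] at h
  obtain ⟨b, hb, ⟨hb1, hb2⟩, c, hc, ⟨hc1, hc2⟩, hbc⟩ := h
  exact ⟨_, (L.W_code hb).2 hb1, _, (L.W_code hc).2 hc1, ((L.sq_iff hb (by norm_num)).1 hb2).trans L.φ_zero,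
    ((L.sq_iff hc (by norm_num)).1 hc2).trans L.φ_zero, by rw [L.mul b hb c hc, hbc]⟩

theorem r_sq : L.r * L.r = 1 := by
  rw [r, L.mul 8 (by norm_num) 8 (by norm_num), points.2.2.2.2.1, L.φ_zero]

theorem swap_outer {y : G} (hy : L.Outer y) : L.r * y * L.r⁻¹ ∉ L.cS y := by
  obtain ⟨a, ha, rfl⟩ := (L.range y).1 (L.mem_W.1 hy.2.1).1
  have h := all_spec swap ha
  rw [L.outer_code ha hy] at h
  simp only [Bool.not_true, Bool.false_or, Bool.not_eq_true'] at h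
  intro hin
  rw [inv_eq_of_mul_eq_one_right L.r_sq, r, L.mul 8 (by norm_num) a ha,
    L.mul _ (L.lt (by norm_num) ha) 8 (by norm_num)] at hin
  rw [(L.cm_iff ha (L.lt (L.lt (by norm_num) ha) (by norm_num))).2 (L.mem_cS.1 hin).2.symm] at h
  exact absurd h (by decide)

theorem transvections {y u : G} (hy : L.Outer y) (hu : u ∈ L.cS y) :
    (L.Z0 u ∨ ∃ a ∈ L.W, a * u * a⁻¹ = L.q * u ∨ a * u * a⁻¹ = L.z * L.q * u) ∧
    ∃ a ∈ L.W, (a * u * a⁻¹ = u ∨ a * u * a⁻¹ = L.z * u) ∧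
      ∃ x ∈ L.cS y, a * x * a⁻¹ = L.q * x ∨ a * x * a⁻¹ = L.z * L.q * x := by
  obtain ⟨a, ha, rfl⟩ := (L.range y).1 (L.mem_W.1 hy.2.1).1
  obtain ⟨c, hc, rfl⟩ := (L.range u).1 (L.mem_cS.1 hu).1
  have h := all_spec transvection ha
  rw [L.outer_code ha hy] at h
  simp only [Bool.not_true, Bool.false_or] at h
  have h2 := all_spec h hc
  rw [(L.cm_iff ha hc).2 (L.mem_cS.1 hu).2.symm] at h2
  simp only [Bool.not_true, Bool.false_or, Bool.or_eq_true, Bool.and_eq_true, List.any_eq_true, List.mem_range,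
    beq_iff_eq] at h2
  have key : ∀ b < 128, ∀ t < 128, ∀ x < 128, mulN b x = mulN t (mulN x b) →
      L.φ b * L.φ x * (L.φ b)⁻¹ = L.φ t * L.φ x := fun b hb t ht x hx e => by
    rw [L.mul b hb x hx, e, ← L.mul t ht _ (L.lt hx hb), ← L.mul x hx b hb]
    group
  have h31 : L.φ 31 = L.z * L.q := by rw [z, q, L.mul 16 (by norm_num) 15 (by norm_num), points.2.2.1]
  have conv : ∀ b < 128, ∀ x < 128, (mulN b x = mulN 15 (mulN x b) ∨ mulN b x = mulN 31 (mulN x b)) →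
      L.φ b * L.φ x * (L.φ b)⁻¹ = L.q * L.φ x ∨ L.φ b * L.φ x * (L.φ b)⁻¹ = L.z * L.q * L.φ x :=
    fun b hb x hx e => e.imp (key b hb 15 (by norm_num) x hx)
      fun e => (key b hb 31 (by norm_num) x hx e).trans (by rw [h31])
  obtain ⟨hA, b, hb, ⟨hb15, hbu⟩, x, hx, hax, hbx⟩ := h2
  refine ⟨?_, L.φ b, (L.W_code hb).2 hb15, ?_, L.φ x, L.mem_cS.2 ⟨L.mem hx, ((L.cm_iff ha hx).1 hax).symm⟩,
    conv b hb x hx hbx⟩
  · rcases hA with hA | ⟨d, hd, hd15, hdu⟩
    · exact Or.inl ((L.zq_iff hc).1 hA)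
    · exact Or.inr ⟨L.φ d, (L.W_code hd).2 hd15, conv d hd c hc hdu⟩
  · rcases hbu with e | e
    · left
      rw [L.mul b hb c hc, e, ← L.mul c hc b hb, mul_inv_cancel_right]
    · exact Or.inr (key b hb 16 (by norm_num) c hc e)

theorem Q_sq {x : G} (hx : x ∈ L.Q) : x * x = 1 ∨ x * x = L.z := by
  obtain ⟨a, ha, rfl⟩ := hx
  have h := all_spec qsq ha
  simp only [Bool.or_eq_true, beq_iff_eq] at h
  rw [L.mul a (by omega) a (by omega)]
  rcases h with h | h <;> rw [h]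
  · exact Or.inl L.φ_zero
  · exact Or.inr rfl

end Syl

end Cfsg.Agent.SylJ2
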