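import Cfsg.Agent.JThreeRecog.WFacts
import Cfsg.Agent.SylJ2.Setup

/-!
The codes parametrize the Sylow subgroup of the model; transporting the parametrization.
-/

set_option autoImplicit false
set_option maxRecDepth 100000
set_option linter.all false

namespace Cfsg.Agent.SylJ2

open HallJanko JThreeRecog

/-- The element of the extraspecial group with a code. -/
def bitsM (b : ℕ) : M :=
  ⟨((b / 16 : ℕ) : ZMod 2), ((b / 8 : ℕ) : ZMod 2), ((b / 4 : ℕ) : ZMod 2), ((b / 2 : ℕ) : ZMod 2), (b : ZMod 2)⟩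

/-- The four permutations. -/
def pv : ℕ → A5
  | 1 => ⟨⟨![1, 0, 3, 2, 4], ![1, 0, 3, 2, 4], by decide, by decide⟩, by rw [Equiv.Perm.mem_alternatingGroup]; decide⟩
  | 2 => ⟨⟨![2, 3, 0, 1, 4], ![2, 3, 0, 1, 4], by decide, by decide⟩, by rw [Equiv.Perm.mem_alternatingGroup]; decide⟩
  | 3 => ⟨⟨![3, 2, 1, 0, 4], ![3, 2, 1, 0, 4], by decide, by decide⟩, by rw [Equiv.Perm.mem_alternatingGroup]; decide⟩
  | _ => 1

theorem act_fact : ∀ i : Fin 4, ∀ b : Fin 32, act (toP (pv i)) (bitsM b) = bitsM (actN i b) := by decide +kernel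

theorem coc_fact : ∀ a : Fin 32, ∀ b : Fin 32, bitsM a * bitsM b = bitsM (qMul a b) ∧ qMul a b < 32 := by
  decide +kernel

theorem pv_mul : ∀ i : Fin 4, ∀ j : Fin 4, pv i * pv j = pv (i.val ^^^ j.val) := by decide +kernel

theorem bits_inj : ∀ a : Fin 32, ∀ b : Fin 32, bitsM a = bitsM b → a = b := by decide +kernel

theorem pv_inj : ∀ i : Fin 4, ∀ j : Fin 4, pv i = pv j → i = j := by decide +kernel

theorem pv_syl : ∀ i : Fin 4, inS (1, toP (pv i)) = true := by decide +kernel

/-- The element of the model with a code. -/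
def code (c : ℕ) : W := ⟨bitsM (c % 32), pv (c / 32 % 4)⟩

theorem code_mem (c : ℕ) : code c ∈ SW := pv_syl ⟨c / 32 % 4, Nat.mod_lt _ (by norm_num)⟩

theorem code_mul {a b : ℕ} (ha : a < 128) (hb : b < 128) : code a * code b = code (mulN a b) := by
  have hi : a / 32 < 4 := by omega
  have hj : b / 32 < 4 := by omega
  have hq : qMul (a % 32) (actN (a / 32) (b % 32)) < 32 :=
    (coc_fact ⟨a % 32, Nat.mod_lt _ (by norm_num)⟩ ⟨actN (a / 32) (b % 32), Nat.mod_lt _ (by norm_num)⟩).2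
  have hx : (a / 32 ^^^ b / 32) < 4 := Nat.xor_lt_two_pow (n := 2) hi hj
  have e1 : mulN a b % 32 = qMul (a % 32) (actN (a / 32) (b % 32)) := by
    rw [mulN, Nat.mul_add_mod, Nat.mod_eq_of_lt hq]
  have e2 : mulN a b / 32 = (a / 32 ^^^ b / 32) := by
    rw [mulN, Nat.mul_add_div (by norm_num), Nat.div_eq_of_lt hq, add_zero]
  refine SemidirectProduct.ext ?_ ?_
  · show bitsM (a % 32) * permAct (pv (a / 32 % 4)) (bitsM (b % 32)) = bitsM (mulN a b % 32)
    rw [permAct_apply, e1, Nat.mod_eq_of_lt hi, act_fact ⟨a / 32, hi⟩ ⟨b % 32, Nat.mod_lt _ (by norm_num)⟩]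
    exact (coc_fact ⟨a % 32, Nat.mod_lt _ (by norm_num)⟩ ⟨actN (a / 32) (b % 32), Nat.mod_lt _ (by norm_num)⟩).1
  · show pv (a / 32 % 4) * pv (b / 32 % 4) = pv (mulN a b / 32 % 4)
    rw [e2, Nat.mod_eq_of_lt hi, Nat.mod_eq_of_lt hj, Nat.mod_eq_of_lt hx]
    exact pv_mul ⟨a / 32, hi⟩ ⟨b / 32, hj⟩

theorem code_inj {a b : ℕ} (ha : a < 128) (hb : b < 128) (h : code a = code b) : a = b := by
  have h1 := bits_inj ⟨a % 32, Nat.mod_lt _ (by norm_num)⟩ ⟨b % 32, Nat.mod_lt _ (by norm_num)⟩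
    (congrArg SemidirectProduct.left h)
  have h2 := pv_inj ⟨a / 32 % 4, Nat.mod_lt _ (by norm_num)⟩ ⟨b / 32 % 4, Nat.mod_lt _ (by norm_num)⟩
    (congrArg SemidirectProduct.right h)
  simp only [Fin.mk.injEq] at h1 h2
  omega

theorem code_surj (w : SW) : ∃ a < 128, code a = w := by
  classical
  haveI : Fintype W := Fintype.ofEquiv _ SemidirectProduct.equivProd.symm
  haveI : Fintype SW := Fintype.ofFinite _
  have hbij : Function.Bijective fun i : Fin 128 => (⟨code i, code_mem i⟩ : SW) := by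
    refine (Nat.bijective_iff_injective_and_card _).2 ⟨fun i j h =>
      Fin.ext (code_inj i.2 j.2 (congrArg Subtype.val h)), ?_⟩
    rw [Nat.card_fin, card_SW]
  obtain ⟨i, hi⟩ := hbij.2 w
  exact ⟨i, i.2, congrArg Subtype.val hi⟩

variable {G : Type*} [Group G] [Finite G]

/-- The parametrization of a Sylow subgroup isomorphic to the one of the model. -/
def Syl.ofEquiv (S : Sylow 2 G) (e : ↥SW ≃* ↥(S : Subgroup G)) : Syl G where
  φ c := e ⟨code c, code_mem c⟩
  mul a ha b hb := by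
    rw [← Subgroup.coe_mul, ← map_mul]
    exact congrArg (fun w => ((e w : (S : Subgroup G)) : G)) (Subtype.ext (code_mul ha hb))
  inj a ha b hb h := code_inj ha hb (congrArg Subtype.val (e.injective (Subtype.ext h)))
  S := S
  range g := by
    constructor
    · intro hg
      obtain ⟨a, ha, hc⟩ := code_surj (e.symm ⟨g, hg⟩)
      refine ⟨a, ha, ?_⟩
      rw [show (⟨code a, code_mem a⟩ : SW) = e.symm ⟨g, hg⟩ from Subtype.ext hc, MulEquiv.apply_symm_apply]
    · rintro ⟨a, -, rfl⟩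
      exact (e _).2

namespace Syl

/-- The parametrization in a subgroup containing the Sylow subgroup. -/
def restrict (L : Syl G) {K : Subgroup G} (h : (L.S : Subgroup G) ≤ K) : Syl ↥K where
  φ c := if hc : c < 128 then ⟨L.φ c, h (L.mem hc)⟩ else 1
  mul a ha b hb := by
    simp only [dif_pos ha, dif_pos hb, dif_pos (L.lt ha hb)]
    exact Subtype.ext (L.mul a ha b hb)
  inj a ha b hb e := by
    simp only [dif_pos ha, dif_pos hb] at e
    exact L.inj a ha b hb (congrArg Subtype.val e)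
  S := L.S.subtype h
  range g := by
    constructor
    · intro hg
      obtain ⟨a, ha, hc⟩ := (L.range g.1).1 (Subgroup.mem_subgroupOf.1 hg)
      exact ⟨a, ha, by simp only [dif_pos ha]; exact Subtype.ext hc⟩
    · rintro ⟨a, ha, rfl⟩
      simp only [dif_pos ha]
      exact Subgroup.mem_subgroupOf.2 (L.mem ha)

variable {H : Type*} [Group H]

/-- The parametrization in an image on which the Sylow subgroup embeds. -/
def map (L : Syl G) (f : G →* H) (hf : Function.Surjective f)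
    (hS : ∀ s ∈ (L.S : Subgroup G), f s = 1 → s = 1) : Syl H where
  φ c := f (L.φ c)
  mul a ha b hb := by rw [← map_mul, L.mul a ha b hb]
  inj a ha b hb e := L.inj a ha b hb (mul_inv_eq_one.1
    (hS _ (mul_mem (L.mem ha) (inv_mem (L.mem hb))) (by rw [map_mul, map_inv, e, mul_inv_cancel])))
  S := L.S.mapSurjective hf
  range g := by
    rw [Sylow.coe_mapSurjective]
    constructor
    · rintro ⟨s, hs, rfl⟩
      obtain ⟨a, ha, rfl⟩ := (L.range s).1 hs
      exact ⟨a, ha, rfl⟩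
    · rintro ⟨a, ha, rfl⟩
      exact ⟨_, L.mem ha, rfl⟩

end Syl

end Cfsg.Agent.SylJ2
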