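import Cfsg.Agent.SylJ2.Cent
import Cfsg.Agent.LargeExtra.Quotient
import Cfsg.Agent.JThreeRecog.Iso

/-!
A group with central `z`, trivial core, Sylow subgroup of Hall-Janko type and a moved fixed class is the model.
-/

set_option autoImplicit false
set_option maxRecDepth 100000
set_option linter.all false

namespace Cfsg.Agent.SylJ2

open Subgroup
open scoped commutatorElement

theorem order_cases (m : ℕ) (hm : m < 121) (h1 : m ∣ 120) (h4 : 4 ∣ m) (h5 : 5 ∣ m) (h8 : ¬ 8 ∣ m) :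
    m = 20 ∨ m = 60 := by
  interval_cases m <;> omega

/-- No transitive group of order 20 on five points has two involutions fixing one point. -/
theorem no_twenty {H α : Type*} [Group H] [Finite H] [MulAction H α] [FaithfulSMul H α]
    [MulAction.IsPretransitive H α] (hα : Nat.card α = 5) (hH : Nat.card H = 20) (v : α) {a b : H}
    (ha : a • v = v) (hb : b • v = v) (ha2 : a * a = 1) (hb2 : b * b = 1) (ha1 : a ≠ 1) (hb1 : b ≠ 1)
    (hab : a ≠ b) : False := by
  haveI : Fact (Nat.Prime 5) := ⟨by norm_num⟩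
  haveI : Finite α := Nat.finite_of_card_ne_zero (by omega)
  obtain ⟨c, hc⟩ := exists_prime_orderOf_dvd_card' (G := H) 5 (by rw [hH]; norm_num)
  have hSt : Nat.card (MulAction.stabilizer H v) = 4 := by
    have h := (MulAction.stabilizer H v).card_mul_index
    rw [MulAction.index_stabilizer_of_transitive, hH, hα] at h
    omega
  have hP : Nat.card (zpowers c) = 5 := by rw [Nat.card_zpowers, hc]
  have hN : (zpowers c).Normal := by
    let P : Sylow 5 H := Sylow.ofCard (zpowers c) (by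
      rw [hP, hH, show (20 : ℕ) = 5 * 4 by norm_num, Nat.factorization_mul (by norm_num) (by norm_num),
        Finsupp.add_apply, Nat.Prime.factorization_self (by norm_num),
        Nat.factorization_eq_zero_of_not_dvd (by norm_num : ¬ 5 ∣ 4)]
      norm_num)
    have h1 : Nat.card (Sylow 5 H) ≡ 1 [MOD 5] := card_sylow_modEq_one 5 H
    have h2 : Nat.card (Sylow 5 H) ∣ 20 := hH ▸ P.card_dvd_index.trans (index_dvd_card _)
    have h3 : Nat.card (Sylow 5 H) = 1 := by
      have := Nat.le_of_dvd (by norm_num) h2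
      unfold Nat.ModEq at h1
      interval_cases Nat.card (Sylow 5 H) <;> omega
    haveI : Subsingleton (Sylow 5 H) := (Nat.card_eq_one_iff_unique.1 h3).1
    have h4 : ((P : Subgroup H)).Normal := Sylow.normal_of_subsingleton P
    exact h4
  have hfree : ∀ x ∈ MulAction.stabilizer H v, x ∈ zpowers c → x = 1 := fun x hx hxc => by
    have h1 := Subgroup.orderOf_dvd_natCard _ hx
    have h2 := Subgroup.orderOf_dvd_natCard _ hxc
    rw [hSt] at h1
    rw [hP] at h2
    exact orderOf_eq_one_iff.1 (Nat.eq_one_of_dvd_coprimes (by norm_num) h1 h2)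
  have hcov : ∀ p : α, ∃ k : ℕ, c ^ k • v = p := by
    let f : Fin 5 → α := fun k => c ^ (k : ℕ) • v
    have hf : Function.Injective f := by
      intro i j e
      have e' : (c ^ (j : ℕ))⁻¹ * c ^ (i : ℕ) = 1 := hfree _ (by
        rw [MulAction.mem_stabilizer_iff, mul_smul, show c ^ (i : ℕ) • v = c ^ (j : ℕ) • v from e, inv_smul_smul])
        (mul_mem (inv_mem (pow_mem (mem_zpowers c) _)) (pow_mem (mem_zpowers c) _))
      exact Fin.ext (pow_injOn_Iio_orderOf (by simp [hc]) (by simp [hc]) (inv_mul_eq_one.1 e').symm)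
    intro p
    obtain ⟨k, hk⟩ := ((Nat.bijective_iff_injective_and_card f).2 ⟨hf, by rw [Nat.card_fin, hα]⟩).2 p
    exact ⟨k, hk⟩
  have hcomm : ∀ x : H, x • v = v → x * c = c * x → x = 1 := fun x hx hxc => by
    refine FaithfulSMul.eq_of_smul_eq_smul fun p : α => ?_
    obtain ⟨k, rfl⟩ := hcov p
    rw [← mul_smul, ((show Commute x c from hxc).pow_right k).eq, mul_smul, hx, one_smul]
  have hinv : ∀ x : H, x • v = v → x * x = 1 → x ≠ 1 → x * c * x⁻¹ = c⁻¹ := by
    intro x hx hx2 hx1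
    obtain ⟨i, hi⟩ := hN.conj_mem c (mem_zpowers c) x
    have hi' : x * c * x⁻¹ = c ^ i := hi.symm
    have h2 : c ^ (i * i - 1) = 1 := by
      rw [zpow_sub_one, zpow_mul, ← hi', conj_zpow, ← hi',
        show x * (x * c * x⁻¹) * x⁻¹ = x * x * c * (x * x)⁻¹ by group, hx2]
      group
    rw [← orderOf_dvd_iff_zpow_eq_one, hc, show i * i - 1 = (i - 1) * (i + 1) by ring] at h2
    rcases (Nat.prime_iff_prime_int.1 (by norm_num : Nat.Prime 5)).dvd_mul.1 h2 with h | h <;>
      rw [← hc, orderOf_dvd_iff_zpow_eq_one] at h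
    · exact absurd (hcomm x hx (mul_inv_eq_iff_eq_mul.1 (hi'.trans (by rwa [zpow_sub_one, mul_inv_eq_one] at h))))
        hx1
    · rw [hi']
      rw [zpow_add_one, mul_eq_one_iff_eq_inv] at h
      exact h
  have h3 : a * b = 1 := hcomm _ (by rw [mul_smul, hb, ha]) (by
    refine mul_inv_eq_iff_eq_mul.1 ?_
    rw [show a * b * c * (a * b)⁻¹ = a * (b * c * b⁻¹) * a⁻¹ by group, hinv b hb hb2 hb1,
      show a * c⁻¹ * a⁻¹ = (a * c * a⁻¹)⁻¹ by group, hinv a ha ha2 ha1, inv_inv])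
  exact hab (mul_right_cancel (h3.trans hb2.symm))

/-- The five representatives of the classes. -/
def reps : List ℕ := sing.filter fun a => decide (a < 16)

theorem reps_fact : reps.length = 5 ∧ (reps.all fun a => reps.all fun b => a == b || !eqz a b) = true ∧
    (sing.all fun a => reps.any fun b => eqz b a) = true := by
  decide +kernel

theorem qcenter_fact : ((List.range 32).all fun a =>
    !((List.range 32).all fun b => cm a b) || a == 0 || a == 16) = true := by decide +kernel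

theorem top_points : mulN 32 32 = 0 ∧ mulN 64 64 = 0 ∧ mulN 32 64 / 32 = 3 := by decide +kernel

namespace Syl

variable {G : Type*} [Group G] [Finite G] (L : Syl G)

theorem Q_central {a : G} (ha : a ∈ L.Q) (h : ∀ x ∈ L.Q, x * a = a * x) : a = 1 ∨ a = L.z := by
  obtain ⟨i, hi, rfl⟩ := ha
  have hf := all_spec qcenter_fact hi
  rw [List.all_eq_true.2 fun b hb => (L.cm_iff (a := i) (by omega) (b := b)
    (by have := List.mem_range.1 hb; omega)).2 (h _ ⟨b, List.mem_range.1 hb, rfl⟩).symm] at hf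
  simp only [Bool.not_true, Bool.false_or, Bool.or_eq_true, beq_iff_eq] at hf
  rcases hf with rfl | rfl
  exacts [Or.inl L.φ_zero, Or.inr rfl]

variable (hc : ∀ g : G, g * L.z = L.z * g) (hO : Cfsg.oddCore G = ⊥)
    (hm : ∃ g : G, g * L.q * g⁻¹ ∈ (L.S : Subgroup G) ∧ ¬ L.QC (g * L.q * g⁻¹))
include hc hO hm

/-- Only the centre centralizes the extraspecial subgroup. -/
theorem cQ {c : G} (h : ∀ x ∈ L.Q, x * c = c * x) : c = 1 ∨ c = L.z := by
  haveI : Fact (Nat.Prime 2) := ⟨Nat.prime_two⟩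
  haveI : L.Q.Normal := ⟨fun a ha g => L.Q_normal_all hc hm hO g ha⟩
  set C := centralizer (L.Q : Set G) with hC
  haveI : C.Normal := Subgroup.normal_centralizer
  obtain ⟨P⟩ : Nonempty (Sylow 2 ↥C) := inferInstance
  have hP : ∀ p ∈ (P : Subgroup ↥C), (p : G) = 1 ∨ (p : G) = L.z := by
    intro p hp
    obtain ⟨g, hg⟩ := L.conj_into (P.2.map C.subtype)
    have hgC : g * p * g⁻¹ ∈ C := Subgroup.Normal.conj_mem inferInstance (p : G) p.2 g
    have hS := hg (p : G) ⟨p, hp, rfl⟩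
    have hx : ∀ x ∈ L.Q, x * (g * p * g⁻¹) = g * p * g⁻¹ * x := fun x hx => mem_centralizer_iff.1 hgC x hx
    rcases L.Q_central (L.Q_self hS fun x hxQ => Or.inl (hx x hxQ).symm) hx with e | e
    · exact Or.inl (by rwa [conj_eq_one_iff] at e)
    · refine Or.inr ?_
      calc (p : G) = g⁻¹ * (g * p * g⁻¹) * g := by group
        _ = L.z := by rw [e, mul_assoc, ← hc g, inv_mul_cancel_left]
  obtain ⟨o, ho, a, ha, e⟩ := burnside_split P (fun k _ => mem_centralizer_iff.2 fun t ht => Subtype.ext (by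
    rcases hP t ht with e | e <;> simp [e, hc (k : G)])) (⟨c, mem_centralizer_iff.2 h⟩ : C)
  have ho1 : (o : G) ∈ Cfsg.oddCore G := (Core.map_pPrimeCore_normal C).le.trans inf_le_left ⟨o, ho, rfl⟩
  rw [hO, mem_bot] at ho1
  rw [show c = (o : G) * a from congrArg Subtype.val e, ho1, one_mul]
  exact hP a ha

theorem es : Cfsg.IsExtraspecial 2 ↥L.Q := by
  refine LargeExtra.extraspecial_of (L.S.2.to_le L.Q_le) (w := (⟨L.z, L.Z0_Q L.Z0_z⟩ : L.Q))
    (fun e => L.zne (congrArg Subtype.val e)) (Subtype.ext L.zz)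
    (mem_center_iff.2 fun x => Subtype.ext (hc x)) (fun c hcc => ?_) (fun a b => ?_) (fun a => ?_) ?_
  · exact (L.Q_central c.2 fun x hx => congrArg Subtype.val (mem_center_iff.1 hcc ⟨x, hx⟩)).imp
      (fun e => Subtype.ext e) fun e => Subtype.ext e
  · have h := L.V_comm hc (a := L.ρ a) (b := L.ρ b) ⟨a, a.2, rfl⟩ ⟨b, b.2, rfl⟩
    rw [← map_mul, ← map_mul, L.ρ_eq hc] at h
    rcases h with e | e
    · exact Or.inl (commutatorElement_eq_one_iff_mul_comm.2 (Subtype.ext e.symm))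
    · refine Or.inr (Subtype.ext ?_)
      simp only [commutatorElement_def, Subgroup.coe_mul, Subgroup.coe_inv]
      rw [show (a : G) * b * (a : G)⁻¹ * (b : G)⁻¹ = ((b : G) * a * ((a : G) * b)⁻¹)⁻¹ by group, e,
        mul_inv_cancel_right, L.zi]
  · exact (L.Q_sq a.2).imp (fun e => Subtype.ext e) fun e => Subtype.ext e
  · refine ⟨⟨L.q, L.Z0_Q L.Z0_q⟩, ⟨L.r, L.moved_r.1⟩, fun e => L.moved_r.2.1 (L.mem_W.2
      ⟨L.Q_le L.moved_r.1, (congrArg Subtype.val e).symm⟩)⟩

omit hO hm in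
theorem card_sing : Nat.card {x : G ⧸ L.Zc // L.Sing x} = 5 := by
  obtain ⟨hlen, hne, hcov⟩ := reps_fact
  simp only [List.all_eq_true, List.any_eq_true, Bool.or_eq_true, beq_iff_eq, Bool.not_eq_true'] at hne hcov
  have hrs : ∀ i, reps.get i ∈ sing := fun i => (List.mem_filter.1 (reps.get_mem i)).1
  let f : Fin reps.length → {x : G ⧸ L.Zc // L.Sing x} := fun i =>
    ⟨L.ρ (L.φ (reps.get i)), _, (L.invl_code (hrs i)).2, rfl⟩
  have hnd : reps.Nodup := (List.nodup_range.filter _).filter _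
  have hf : Function.Bijective f := by
    refine ⟨fun i j e => hnd.get_inj_iff.1 ?_, fun ⟨x, a, ha, hax⟩ => ?_⟩
    · have h1 := (L.eqz_iff (L.invl_code (hrs i)).1 (L.invl_code (hrs j)).1).2
        ((L.ρ_eq hc).1 (congrArg Subtype.val e))
      rcases hne _ (reps.get_mem i) _ (reps.get_mem j) with h | h
      · exact h
      · rw [h1] at h; exact absurd h (by decide)
    · obtain ⟨k, hk, rfl⟩ := L.code_invl ha
      obtain ⟨b, hb, hbk⟩ := hcov k hk
      obtain ⟨i, rfl⟩ := List.get_of_mem hb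
      refine ⟨i, Subtype.ext ?_⟩
      exact ((L.ρ_eq hc).2 ((L.eqz_iff (L.invl_code (hrs i)).1 (L.invl_code hk).1).1 hbk)).trans hax
  rw [← Nat.card_congr (Equiv.ofBijective f hf), Nat.card_fin, hlen]

theorem card_G : Nat.card G = 1920 := by
  haveI : Fact (Nat.Prime 2) := ⟨Nat.prime_two⟩
  haveI hQn : L.Q.Normal := ⟨fun a ha g => L.Q_normal_all hc hm hO g ha⟩
  haveI : (L.V).Normal := hQn.map L.ρ L.ρ_surj
  have hconjS : ∀ (g : G) {x : G ⧸ L.Zc}, L.Sing x → L.Sing (L.ρ g * x * (L.ρ g)⁻¹) := fun g x hx =>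
    L.sing_conj hc hx (L.V_le hc (Normal.conj_mem inferInstance _ (hx.mem L hc) _))
  let α := {x : G ⧸ L.Zc // L.Sing x}
  letI : MulAction G α :=
    { smul := fun g x => ⟨L.ρ g * x.1 * (L.ρ g)⁻¹, hconjS g x.2⟩
      one_smul := fun x => Subtype.ext (show L.ρ 1 * x.1 * (L.ρ 1)⁻¹ = x.1 by rw [map_one]; group)
      mul_smul := fun g h x => Subtype.ext (show L.ρ (g * h) * x.1 * (L.ρ (g * h))⁻¹ =
        L.ρ g * (L.ρ h * x.1 * (L.ρ h)⁻¹) * (L.ρ g)⁻¹ by rw [map_mul]; group) }
  haveI : Finite α := inferInstance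
  let ψ : G →* Equiv.Perm α := MulAction.toPermHom G α
  have hψ : ∀ g, g ∈ ψ.ker ↔ ∀ x, L.Sing x → L.ρ g * x = x * L.ρ g := fun g => by
    rw [MonoidHom.mem_ker]
    refine ⟨fun h x hx => mul_inv_eq_iff_eq_mul.1 (congrArg Subtype.val (Equiv.congr_fun h ⟨x, hx⟩)),
      fun h => Equiv.ext fun x => Subtype.ext (mul_inv_eq_iff_eq_mul.2 (h x.1 x.2))⟩
  have hV : ∀ g ∈ ψ.ker, ∀ a ∈ L.Q, L.ρ g * L.ρ a = L.ρ a * L.ρ g := by
    intro g hg a ha
    rcases L.Q_sq ha with h2 | h2
    · by_cases h1 : a = 1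
      · rw [h1, map_one]; group
      by_cases hz : a = L.z
      · rw [← map_mul, ← map_mul, hz, hc g]
      exact (hψ g).1 hg _ ⟨a, ⟨ha, h2, h1, hz⟩, rfl⟩
    · obtain ⟨b, c, hb, hc', hbc⟩ := L.pair_exists ha h2
      rw [← (L.ρ_eq hc).2 hbc, map_mul]
      exact ((show Commute (L.ρ g) (L.ρ b) from (hψ g).1 hg _ ⟨b, hb, rfl⟩).mul_right
        (show Commute (L.ρ g) (L.ρ c) from (hψ g).1 hg _ ⟨c, hc', rfl⟩)).eq
  have hodd : ∀ n ∈ ψ.ker, Odd (orderOf n) → n = 1 := by
    intro n hn ho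
    have hcn : ∀ x ∈ L.Q, x * n = n * x := by
      intro x hx
      have h := hV n hn x hx
      rw [← map_mul, ← map_mul, L.ρ_eq hc] at h
      rcases h with e | e
      · exact e
      · exfalso
        have h1 : n * x * n⁻¹ = L.z * x := by
          refine mul_inv_eq_iff_eq_mul.2 ?_
          rw [mul_assoc, e, ← mul_assoc, L.zz, one_mul]
        have h2 := fix_of_odd ho L.zz (hc n) h1
        rw [h1, mul_eq_right] at h2
        exact L.zne h2
    rcases L.cQ hc hO hm hcn with e | e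
    · exact e
    · rw [e, orderOf_eq_prime (by rw [pow_two, L.zz]) L.zne] at ho
      exact absurd ho (by decide)
  have hker : ψ.ker = L.Q := by
    refine le_antisymm ?_ fun a ha => (hψ a).2 fun x hx => L.V_comm hc ⟨a, ha, rfl⟩ (hx.mem L hc)
    have hp : IsPGroup 2 ψ.ker := by
      intro n
      obtain ⟨i, m, hm', hord⟩ := Nat.exists_eq_pow_mul_and_not_dvd (orderOf_pos (n : G)).ne' 2 (by decide)
      refine ⟨i, Subtype.ext ?_⟩
      rw [SubmonoidClass.coe_pow, OneMemClass.coe_one]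
      refine hodd _ (pow_mem n.2 _) ((Nat.odd_iff.2 (Nat.two_dvd_ne_zero.1 hm')).of_dvd_nat
        (orderOf_dvd_of_pow_eq_one ?_))
      rw [← pow_mul, ← hord, pow_orderOf_eq_one]
    intro n hn
    obtain ⟨g, hg⟩ := L.conj_into hp
    have hn' : g * n * g⁻¹ ∈ ψ.ker := Normal.conj_mem inferInstance _ hn _
    have h1 : g * n * g⁻¹ ∈ L.Q := L.Q_self (hg n hn) fun x hx => by
      have h := (hV _ hn' x hx).symm
      rw [← map_mul, ← map_mul, L.ρ_eq hc] at h
      exact h
    have h2 := L.Q_normal_all hc hm hO g⁻¹ h1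
    rwa [show g⁻¹ * (g * n * g⁻¹) * g⁻¹⁻¹ = n by group] at h2
  have htr : ∀ x : α, ∃ g : G, g • (⟨L.v0, L.sing_v0 hc⟩ : α) = x := fun x => by
    obtain ⟨n, -, hn⟩ := L.to_sing hc hm x.2
    obtain ⟨g, rfl⟩ := L.ρ_surj n
    exact ⟨g, Subtype.ext hn⟩
  haveI : MulAction.IsPretransitive G α := ⟨fun x y => by
    obtain ⟨g, rfl⟩ := htr x
    obtain ⟨h, rfl⟩ := htr y
    exact ⟨h * g⁻¹, by rw [mul_smul, inv_smul_smul]⟩⟩
  have hα : Nat.card α = 5 := L.card_sing hc
  have hG : Nat.card G = 32 * Nat.card ψ.range := by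
    rw [card_eq_card_quotient_mul_card_subgroup ψ.ker, Nat.card_congr (QuotientGroup.quotientKerEquivRange ψ).toEquiv,
      hker, L.card_Q, mul_comm]
  have h128 : 128 ∣ Nat.card G := L.card_S ▸ Subgroup.card_subgroup_dvd_card (L.S : Subgroup G)
  have h256 : ¬ 256 ∣ Nat.card G := by
    intro h
    have h1 := L.S.not_dvd_index
    have h2 := (L.S : Subgroup G).card_mul_index
    rw [L.card_S] at h2
    omega
  have h120 : Nat.card ψ.range ∣ 120 := by
    have h := Subgroup.card_subgroup_dvd_card ψ.range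
    rwa [Nat.card_perm, hα, show Nat.factorial 5 = 120 from rfl] at h
  haveI : MulAction.IsPretransitive ψ.range α := ⟨fun x y => by
    obtain ⟨g, hg⟩ := MulAction.exists_smul_eq G x y
    exact ⟨⟨ψ g, g, rfl⟩, hg⟩⟩
  have h5 : 5 ∣ Nat.card ψ.range := by
    have h := (MulAction.stabilizer ψ.range (⟨L.v0, L.sing_v0 hc⟩ : α)).index_dvd_card
    rwa [MulAction.index_stabilizer_of_transitive, hα] at h
  rcases order_cases (Nat.card ψ.range) (by have := Nat.le_of_dvd (by norm_num) h120; omega) h120 (by omega) h5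
    (by omega) with h | h
  swap
  · omega
  exfalso
  obtain ⟨t1, t2, t3⟩ := top_points
  have hfix : ∀ s ∈ (L.S : Subgroup G), s • (⟨L.v0, L.sing_v0 hc⟩ : α) = ⟨L.v0, L.sing_v0 hc⟩ := fun s hs =>
    Subtype.ext (mul_inv_eq_iff_eq_mul.2 (L.v0_central hc ((L.mem_T hc).2 hs)))
  have hnQ : ∀ a < 128, ¬ a < 32 → ψ (L.φ a) ≠ 1 := fun a ha h32 e =>
    h32 ((L.Q_iff ha).1 (hker ▸ (MonoidHom.mem_ker.2 e)))
  refine no_twenty hα h (⟨L.v0, L.sing_v0 hc⟩ : α) (a := (⟨ψ (L.φ 32), _, rfl⟩ : ψ.range))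
    (b := (⟨ψ (L.φ 64), _, rfl⟩ : ψ.range)) (hfix _ (L.mem (by norm_num))) (hfix _ (L.mem (by norm_num)))
    (Subtype.ext ?_) (Subtype.ext ?_) (fun e => hnQ 32 (by norm_num) (by norm_num) (congrArg Subtype.val e))
    (fun e => hnQ 64 (by norm_num) (by norm_num) (congrArg Subtype.val e)) fun e => ?_
  · show ψ (L.φ 32) * ψ (L.φ 32) = 1
    rw [← map_mul, L.mul 32 (by norm_num) 32 (by norm_num), t1, L.φ_zero, map_one]
  · show ψ (L.φ 64) * ψ (L.φ 64) = 1
    rw [← map_mul, L.mul 64 (by norm_num) 64 (by norm_num), t2, L.φ_zero, map_one]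
  · refine hnQ (mulN 32 64) (L.lt (by norm_num) (by norm_num)) (fun h' => ?_) ?_
    · rw [Nat.div_eq_of_lt h'] at t3
      exact absurd t3 (by norm_num)
    · rw [← L.mul 32 (by norm_num) 64 (by norm_num), map_mul,
        show ψ (L.φ 32) = ψ (L.φ 64) from congrArg Subtype.val e, ← map_mul,
        L.mul 64 (by norm_num) 64 (by norm_num), t2, L.φ_zero, map_one]

theorem hjcore : HallJanko.HJCore L.z L.Q where
  hz := orderOf_eq_prime (by rw [pow_two, L.zz]) L.zne
  le q _ := hc q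
  normal c _ q hq := L.Q_normal_all hc hm hO c hq
  es := L.es hc hO hm
  card := L.card_Q
  zmem := L.Z0_Q L.Z0_z
  cQ c h := L.cQ hc hO hm h
  cardC := by
    rw [(Subgroup.eq_top_iff' _).2 fun g => Subgroup.mem_centralizer_singleton_iff.2 (hc g),
      Subgroup.card_top, L.card_G hc hO hm]

/-- The group is the model. -/
theorem equiv_W : Nonempty (G ≃* JThreeRecog.W) := by
  have ht : HallJanko.Outer L.z L.Q (L.φ 32) := by
    refine ⟨orderOf_eq_prime (by rw [pow_two, L.mul 32 (by norm_num) 32 (by norm_num), top_points.1, L.φ_zero])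
      fun e => ?_, hc _, fun h => ?_⟩
    · simpa using (L.one_iff (a := 32) (by norm_num)).1 e
    · simpa using (L.Q_iff (a := 32) (by norm_num)).1 h
  obtain ⟨emb, h1, -, -, h4⟩ := JThreeRecog.exists_emb (L.hjcore hc hO hm) ht
  exact ⟨(MulEquiv.ofBijective emb ⟨h1, fun g => h4 g (hc g)⟩).symm⟩

end Syl

end Cfsg.Agent.SylJ2
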