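import Cfsg.Agent.JThreeRecog.Iso
import Cfsg.Agent.JThreeRecog.Main
import Cfsg.Agent.JThreeRecog.WFacts
import Cfsg.Agent.JankoTwo.Centralizer
import Cfsg.Agent.S1619
import Cfsg.Agent.S1620

/-!
The Sylow 2-subgroup and the central involution of the Hall–Janko group, read off the centraliser model.
-/

set_option autoImplicit false
set_option linter.all false

namespace Cfsg.Agent.SylJ2

open Cfsg.Agent.HallJanko

/-- The Hall–Janko group has a centraliser of an involution that is the model. -/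
theorem exists_model_emb : ∃ (z' : Cfsg.Spor.J2) (emb : JThreeRecog.W →* Cfsg.Spor.J2),
    orderOf z' = 2 ∧ Function.Injective emb ∧ emb JThreeRecog.zW = z' ∧ (∀ w, emb w * z' = z' * emb w) ∧
      (∀ c, c * z' = z' * c → ∃ w, emb w = c) ∧ Nat.card Cfsg.Spor.J2 = 604800 := by
  have hcard : Nat.card Cfsg.Spor.J2 = 604800 := S1619.result.2.2.2
  haveI : Finite Cfsg.Spor.J2 := Nat.finite_of_card_ne_zero (by rw [hcard]; norm_num)
  haveI : IsSimpleGroup Cfsg.Spor.J2 := S1620.result.1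
  obtain ⟨i⟩ : Nonempty (Fin 315) := ⟨0⟩
  have hf : Cfsg.Spor.IsIcoReflection (JankoTwo.refl315 i) := JankoTwo.isIcoReflection_iff.mpr ⟨i, rfl⟩
  have hfm := JankoTwo.refl315_mem i
  obtain ⟨E, hE⟩ := JankoTwo.exists_iso hf hfm
  have hst := JankoTwo.centralizer_structure _ hf hfm
  generalize (QuotientGroup.mk ⟨JankoTwo.refl315 i, hfm⟩ : Cfsg.Spor.J2) = z' at hE hst
  obtain ⟨Q, hQn, hQc, hQ, ⟨e⟩⟩ := hst
  have ho : orderOf z' = 2 := by
    refine orderOf_eq_prime (hp := ⟨Nat.prime_two⟩) ?_ ?_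
    · apply E.injective
      rw [pow_two, map_mul, hE, JankoTwo.tR_sq, map_one]
    · intro h
      have hcC : Nat.card ↥(Subgroup.centralizer ({z'} : Set Cfsg.Spor.J2)) = 1920 := by
        rw [Subgroup.card_eq_card_quotient_mul_card_subgroup Q, Nat.card_congr e.toEquiv, hQc,
          nat_card_alternatingGroup, Nat.card_fin]
        rfl
      have htop : Subgroup.centralizer ({z'} : Set Cfsg.Spor.J2) = ⊤ :=
        (Subgroup.eq_top_iff' _).2 fun g => Subgroup.mem_centralizer_singleton_iff.2 (by rw [h, mul_one, one_mul])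
      rw [htop, Subgroup.card_top, hcard] at hcC
      norm_num at hcC
  have hcl : ∃ x y : Cfsg.Spor.J2, orderOf x = 2 ∧ orderOf y = 2 ∧ ¬ IsConj x y := by
    by_contra hh
    push Not at hh
    have := JThreeRecog.card_of_one ho hQ hQc e hh
    rw [hcard] at this
    norm_num at this
  have h := HallJanko.HJ.of_simple z' ho Q hQ hQc (JThreeRecog.selfCentral ho hQ hQc e) e hcl
  obtain ⟨t, ht, -⟩ := h.exists_outer
  obtain ⟨emb, h1, h2, h3, h4⟩ := JThreeRecog.exists_emb h.toHJCore ht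
  exact ⟨z', emb, ho, h1, h2, h3, h4, hcard⟩

/-- The central involution of a Sylow subgroup of the Hall–Janko group has the model as its centraliser. -/
theorem exists_centralizer_sylow : ∃ (z' : Cfsg.Spor.J2) (P : Sylow 2 Cfsg.Spor.J2), orderOf z' = 2 ∧
    z' ∈ (P : Subgroup _) ∧ (∀ s ∈ (P : Subgroup _), s * z' = z' * s) ∧
    Nonempty (↥(Subgroup.centralizer ({z'} : Set Cfsg.Spor.J2)) ≃* JThreeRecog.W) ∧
    Nonempty (↥JThreeRecog.SW ≃* ↥(P : Subgroup Cfsg.Spor.J2)) := by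
  classical
  obtain ⟨z', emb, ho, hinj, hz, hcomm, hsurj, hcard⟩ := exists_model_emb
  haveI : Finite Cfsg.Spor.J2 := Nat.finite_of_card_ne_zero (by rw [hcard]; norm_num)
  haveI : Fact (Nat.Prime 2) := ⟨Nat.prime_two⟩
  haveI : Fintype JThreeRecog.W := Fintype.ofEquiv _ SemidirectProduct.equivProd.symm
  haveI : Fintype JThreeRecog.SW := Fintype.ofFinite _
  have eS : JThreeRecog.SW ≃* ↥(JThreeRecog.SW.map emb) := Subgroup.equivMapOfInjective _ emb hinj
  have hS : Nat.card ↥(JThreeRecog.SW.map emb) = 2 ^ (Nat.card Cfsg.Spor.J2).factorization 2 := by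
    rw [← Nat.card_congr eS.toEquiv, JThreeRecog.card_SW, hcard,
      show (604800 : ℕ) = 2 ^ 7 * 4725 by norm_num, Nat.factorization_mul (by norm_num) (by norm_num),
      Finsupp.add_apply, Nat.Prime.factorization_pow Nat.prime_two, Finsupp.single_eq_same,
      Nat.factorization_eq_zero_of_not_dvd (by norm_num : ¬ 2 ∣ 4725)]
    norm_num
  let P : Sylow 2 Cfsg.Spor.J2 := Sylow.ofCard _ hS
  have hP : (P : Subgroup Cfsg.Spor.J2) = JThreeRecog.SW.map emb := Sylow.coe_ofCard _ hS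
  have hzS : JThreeRecog.zW ∈ JThreeRecog.SW := by
    rw [JThreeRecog.mem_SW, JThreeRecog.toT_zW]
    decide +kernel
  refine ⟨z', P, ho, ?_, ?_, ⟨?_⟩, ⟨hP ▸ eS⟩⟩
  · rw [hP]
    exact ⟨_, hzS, hz⟩
  · intro s hs
    rw [hP] at hs
    obtain ⟨w, -, rfl⟩ := hs
    exact hcomm w
  · have hb : Function.Bijective fun w : JThreeRecog.W =>
        (⟨emb w, Subgroup.mem_centralizer_singleton_iff.2 (hcomm w)⟩ :
          ↥(Subgroup.centralizer ({z'} : Set Cfsg.Spor.J2))) := by
      refine ⟨fun a b e => hinj (congrArg Subtype.val e), fun c => ?_⟩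
      obtain ⟨w, hw⟩ := hsurj c (Subgroup.mem_centralizer_singleton_iff.1 c.2)
      exact ⟨w, Subtype.ext hw⟩
    exact (MulEquiv.ofBijective (MonoidHom.mk' _ fun a b => Subtype.ext (map_mul emb a b)) hb).symm

theorem exists_centralizer : ∃ (z' : Cfsg.Spor.J2) (P : Sylow 2 Cfsg.Spor.J2), orderOf z' = 2 ∧
    z' ∈ (P : Subgroup _) ∧ (∀ s ∈ (P : Subgroup _), s * z' = z' * s) ∧
    Nonempty (↥(Subgroup.centralizer ({z'} : Set Cfsg.Spor.J2)) ≃* JThreeRecog.W) := by
  obtain ⟨z', P, h1, h2, h3, h4, -⟩ := exists_centralizer_sylow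
  exact ⟨z', P, h1, h2, h3, h4⟩

theorem sylow_equiv (P : Sylow 2 Cfsg.Spor.J2) :
    Nonempty (↥JThreeRecog.SW ≃* ↥(P : Subgroup Cfsg.Spor.J2)) := by
  obtain ⟨z', P₀, -, -, -, -, ⟨e⟩⟩ := exists_centralizer_sylow
  haveI : Finite Cfsg.Spor.J2 := Nat.finite_of_card_ne_zero (by rw [S1619.result.2.2.2]; norm_num)
  exact ⟨e.trans (P₀.equiv P)⟩

end Cfsg.Agent.SylJ2
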