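import Cfsg.Agent.SylJ2.Facts

/-!
The extraspecial subgroup modulo the centre: singular and nonsingular elements, their pairs and their stabilizers.
-/

set_option autoImplicit false
set_option maxRecDepth 100000
set_option linter.all false

namespace Cfsg.Agent.SylJ2

/-- Equality modulo the centre. -/
def eqz (a b : ℕ) : Bool := a == b || b == mulN 16 a

/-- Commuting modulo the centre. -/
def cmz (a b : ℕ) : Bool := eqz (mulN b a) (mulN a b)

/-- The noncentral involutions of the extraspecial subgroup. -/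
def sing : List ℕ := (List.range 32).filter fun a => (mulN a a == 0) && !(a == 0) && !(a == 16)

theorem unique_fact : ((List.range 128).all fun s => decide (s < 32) || sing.all fun a => !cmz s a || eqz 15 a) = true := by
  decide +kernel

theorem root_fact : ((List.range 128).all fun s => (List.range 32).any fun a => (mulN a a == 16) && cmz s a) = true := by
  decide +kernel

theorem pair_fact2 : ((List.range 32).all fun a => !(mulN a a == 16) || sing.any fun b => sing.any fun c =>
    eqz (mulN b c) a) = true := by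
  decide +kernel

theorem pair_unique_fact : (sing.all fun b => sing.all fun c => eqz b c || sing.all fun b' => sing.all fun c' =>
    !eqz (mulN b c) (mulN b' c') || eqz b b' || eqz c b') = true := by
  decide +kernel

theorem swap_fact : (sing.all fun b => sing.all fun c => eqz 15 b || eqz 15 c || eqz b c ||
    (List.range 128).any fun s => eqz (mulN c s) (mulN s b) && eqz (mulN b s) (mulN s c)) = true := by
  decide +kernel

namespace Syl

variable {G : Type*} [Group G] [Finite G] (L : Syl G)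
include L

/-- Equality modulo the centre, in the group. -/
def EqZ (a b : G) : Prop := b = a ∨ b = L.z * a

theorem eqz_iff {a b : ℕ} (ha : a < 128) (hb : b < 128) : eqz a b = true ↔ L.EqZ (L.φ a) (L.φ b) := by
  simp only [eqz, Bool.or_eq_true, beq_iff_eq, EqZ]
  rw [z, L.mul 16 (by norm_num) a ha]
  refine or_congr ⟨fun h => by rw [h], fun h => (L.inj b hb a ha h).symm⟩ ?_
  exact ⟨fun h => by rw [h], fun h => L.inj b hb _ (L.lt (by norm_num) ha) h⟩

theorem cmz_iff {a b : ℕ} (ha : a < 128) (hb : b < 128) :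
    cmz a b = true ↔ L.EqZ (L.φ b * L.φ a) (L.φ a * L.φ b) := by
  rw [cmz, L.eqz_iff (L.lt hb ha) (L.lt ha hb), ← L.mul a ha b hb, ← L.mul b hb a ha]

/-- A noncentral involution of the extraspecial subgroup. -/
def Invl (a : G) : Prop := a ∈ L.Q ∧ a * a = 1 ∧ a ≠ 1 ∧ a ≠ L.z

theorem invl_code {a : ℕ} (ha : a ∈ sing) : a < 128 ∧ L.Invl (L.φ a) := by
  simp only [sing, List.mem_filter, List.mem_range, Bool.and_eq_true, beq_iff_eq, Bool.not_eq_true',
    beq_eq_false_iff_ne] at ha
  obtain ⟨h, ⟨h1, h2⟩, h3⟩ := ha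
  refine ⟨by omega, ⟨a, h, rfl⟩, ((L.sq_iff (by omega) (by norm_num)).1 h1).trans L.φ_zero,
    fun e => h2 ((L.one_iff (by omega)).1 e), fun e => h3 (L.inj a (by omega) 16 (by norm_num) e)⟩

theorem code_invl {x : G} (h : L.Invl x) : ∃ a ∈ sing, L.φ a = x := by
  obtain ⟨⟨a, ha, rfl⟩, h2, h1, hz⟩ := h
  refine ⟨a, ?_, rfl⟩
  simp only [sing, List.mem_filter, List.mem_range, Bool.and_eq_true, beq_iff_eq, Bool.not_eq_true',
    beq_eq_false_iff_ne]
  exact ⟨ha, ⟨(L.sq_iff (by omega) (by norm_num)).2 (h2.trans L.φ_zero.symm), fun e => h1 (e ▸ L.φ_zero)⟩,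
    fun e => hz (e ▸ rfl)⟩

/-- An element outside `Q` fixes only the fixed class modulo the centre. -/
theorem fix_unique {s x : G} (hs : s ∈ (L.S : Subgroup G)) (hsQ : s ∉ L.Q) (hx : L.Invl x)
    (h : L.EqZ (x * s) (s * x)) : L.EqZ L.q x := by
  obtain ⟨c, hc, rfl⟩ := (L.range s).1 hs
  obtain ⟨a, ha, rfl⟩ := L.code_invl hx
  have ha' := (L.invl_code ha).1
  have hf := all_spec unique_fact hc
  rw [decide_eq_false (fun h' => hsQ ((L.Q_iff hc).2 h')), Bool.false_or, List.all_eq_true] at hf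
  have := hf a ha
  rw [(L.cmz_iff hc ha').2 h, Bool.not_true, Bool.false_or] at this
  exact (L.eqz_iff (by norm_num) ha').1 this

theorem root_comm {s : G} (hs : s ∈ (L.S : Subgroup G)) :
    ∃ a ∈ L.Q, a * a = L.z ∧ L.EqZ (a * s) (s * a) := by
  obtain ⟨c, hc, rfl⟩ := (L.range s).1 hs
  have hf := all_spec root_fact hc
  simp only [List.any_eq_true, List.mem_range, Bool.and_eq_true, beq_iff_eq] at hf
  obtain ⟨a, ha, h1, h2⟩ := hf
  exact ⟨L.φ a, ⟨a, ha, rfl⟩, (L.sq_iff (by omega) (by norm_num)).1 h1, (L.cmz_iff hc (by omega)).1 h2⟩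

theorem pair_exists {a : G} (ha : a ∈ L.Q) (h : a * a = L.z) :
    ∃ b c, L.Invl b ∧ L.Invl c ∧ L.EqZ (b * c) a := by
  obtain ⟨i, hi, rfl⟩ := ha
  have hf := all_spec pair_fact2 hi
  rw [(L.sq_iff (by omega) (by norm_num)).2 h] at hf
  simp only [beq_self_eq_true, Bool.not_true, Bool.false_or, List.any_eq_true] at hf
  obtain ⟨b, hb, c, hc, he⟩ := hf
  have hb' := (L.invl_code hb).1
  have hc' := (L.invl_code hc).1
  refine ⟨_, _, (L.invl_code hb).2, (L.invl_code hc).2, ?_⟩
  rw [L.mul b hb' c hc']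
  exact (L.eqz_iff (L.lt hb' hc') (by omega)).1 he

theorem pair_unique {b c b' c' : G} (hb : L.Invl b) (hc : L.Invl c) (hb' : L.Invl b') (hc' : L.Invl c')
    (hbc : ¬ L.EqZ b c) (h : L.EqZ (b * c) (b' * c')) : L.EqZ b b' ∨ L.EqZ c b' := by
  obtain ⟨i, hi, rfl⟩ := L.code_invl hb
  obtain ⟨j, hj, rfl⟩ := L.code_invl hc
  obtain ⟨k, hk, rfl⟩ := L.code_invl hb'
  obtain ⟨l, hl, rfl⟩ := L.code_invl hc'
  have hi' := (L.invl_code hi).1
  have hj' := (L.invl_code hj).1
  have hk' := (L.invl_code hk).1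
  have hl' := (L.invl_code hl).1
  have hf := pair_unique_fact
  simp only [List.all_eq_true, Bool.or_eq_true] at hf
  rcases hf i hi j hj with hf | hf
  · exact absurd ((L.eqz_iff hi' hj').1 hf) hbc
  · rw [L.mul i hi' j hj', L.mul k hk' l hl', ← L.eqz_iff (L.lt hi' hj') (L.lt hk' hl')] at h
    rcases hf k hk l hl with (e | e) | e
    · rw [h] at e; simp at e
    · exact Or.inl ((L.eqz_iff hi' hk').1 e)
    · exact Or.inr ((L.eqz_iff hj' hk').1 e)

theorem swap_pair {b c : G} (hb : L.Invl b) (hc : L.Invl c) (hb0 : ¬ L.EqZ L.q b) (hc0 : ¬ L.EqZ L.q c)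
    (hbc : ¬ L.EqZ b c) : ∃ s ∈ (L.S : Subgroup G), L.EqZ (c * s) (s * b) ∧ L.EqZ (b * s) (s * c) := by
  obtain ⟨i, hi, rfl⟩ := L.code_invl hb
  obtain ⟨j, hj, rfl⟩ := L.code_invl hc
  have hi' := (L.invl_code hi).1
  have hj' := (L.invl_code hj).1
  have hf := swap_fact
  simp only [List.all_eq_true, Bool.or_eq_true, List.any_eq_true, List.mem_range, Bool.and_eq_true] at hf
  rcases hf i hi j hj with ((e | e) | e) | ⟨s, hs, h1, h2⟩
  · exact absurd ((L.eqz_iff (by norm_num) hi').1 e) hb0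
  · exact absurd ((L.eqz_iff (by norm_num) hj').1 e) hc0
  · exact absurd ((L.eqz_iff hi' hj').1 e) hbc
  · refine ⟨L.φ s, L.mem hs, ?_, ?_⟩
    · rw [L.mul j hj' s hs, L.mul s hs i hi']
      exact (L.eqz_iff (L.lt hj' hs) (L.lt hs hi')).1 h1
    · rw [L.mul i hi' s hs, L.mul s hs j hj']
      exact (L.eqz_iff (L.lt hi' hs) (L.lt hs hj')).1 h2

end Syl

end Cfsg.Agent.SylJ2
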