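import Cfsg.Agent.SylJ2.CentQ
import Cfsg.Agent.SylJ2.Facts2
import Cfsg.Agent.Invol.ZStar
import Cfsg.Agent.S0058

/-!
A group with central `z`, trivial core, Sylow subgroup of Hall-Janko type and a moved fixed class: the extraspecial
subgroup is normal.
-/

set_option autoImplicit false
set_option linter.unusedSectionVars false
set_option linter.style.haveILetI false

namespace Cfsg.Agent.SylJ2

open Subgroup
open scoped Pointwise

/-- An involution in the coset of an odd normal subgroup is conjugate to the given one by that subgroup. -/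
theorem conj_in_coset {G : Type*} [Group G] {O : Subgroup G} {o v : G} (ho : o ∈ O) (hodd : Odd (orderOf o))
    (hv : v * v = 1) (h : o * v * (o * v) = 1) : ∃ o₁ ∈ O, o₁ * (o * v) * o₁⁻¹ = v := by
  obtain ⟨k, hk⟩ := hodd
  have hvi : v⁻¹ = v := inv_eq_of_mul_eq_one_right hv
  have e : v * o * v⁻¹ = o⁻¹ := by
    refine eq_inv_of_mul_eq_one_right ?_
    rw [hvi, show o * (v * o * v) = o * v * (o * v) by group, h]
  refine ⟨o ^ k, pow_mem ho k, ?_⟩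
  have ek : v * (o ^ k)⁻¹ = o ^ k * v := by
    have h1 := congrArg (· ^ k) e
    simp only [conj_pow, inv_pow] at h1
    rw [← h1, hvi, mul_assoc, ← mul_assoc v v, ← mul_assoc (v * v), hv, one_mul]
  calc o ^ k * (o * v) * (o ^ k)⁻¹ = o ^ k * o * (v * (o ^ k)⁻¹) := by group
    _ = o ^ (2 * k + 1) * v := by rw [ek, pow_succ (o), two_mul, pow_add]; group
    _ = v := by rw [← hk, pow_orderOf_eq_one, one_mul]

/-- A normal odd subgroup of a piece normalized modulo the core lies in the core. -/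
theorem core_le_of_dec {G : Type*} [Group G] [Finite G] {K K' : Subgroup G} (hle : K' ≤ K)
    (h : ∀ g ∈ K, ∃ o ∈ core K, ∃ s ∈ K, s ∈ normalizer (K' : Set G) ∧ g = o * s) : core K' ≤ core K := by
  intro x hx
  let f := QuotientGroup.mk' (Cfsg.oddCore ↥K)
  set D : Subgroup ↥K := (core K').subgroupOf K with hD
  haveI : (D.map f).Normal := by
    refine ⟨fun v hv q => ?_⟩
    obtain ⟨v, hv, rfl⟩ := hv
    obtain ⟨g, rfl⟩ := QuotientGroup.mk'_surjective _ q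
    obtain ⟨o, ho, s, hsK, hs, e⟩ := h g g.2
    obtain ⟨o', ho', rfl⟩ := ho
    refine ⟨⟨s, hsK⟩ * v * ⟨s, hsK⟩⁻¹, ?_, ?_⟩
    · exact mem_subgroupOf.2 (core_stable hs (mem_subgroupOf.1 hv))
    · have hfo : f o' = 1 := by rw [QuotientGroup.mk'_apply, QuotientGroup.eq_one_iff]; exact ho'
      rw [show g = o' * ⟨s, hsK⟩ from Subtype.ext e]
      simp only [map_mul, map_inv, f] at hfo ⊢
      rw [hfo, one_mul]
  have hcard : Nat.card D = Nat.card (core K') :=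
    Nat.card_congr (subgroupOfEquivOfLe ((core_le K').trans hle)).toEquiv
  have hle' := Core.le_pPrimeCore (p := 2) (N := D.map f)
    (((Nat.prime_two.coprime_iff_not_dvd.2 (hcard ▸ core_odd K')).symm).coprime_dvd_left (card_map_dvd _ _))
  have h1 := hle' ⟨⟨x, hle (core_le K' hx)⟩, mem_subgroupOf.2 hx, rfl⟩
  rw [Core.pPrimeCore_quotient_eq_bot, mem_bot, QuotientGroup.mk'_apply, QuotientGroup.eq_one_iff] at h1
  exact ⟨_, h1, rfl⟩

namespace Syl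

variable {G : Type*} [Group G] [Finite G] (L : Syl G)

/-- The subgroup `⟨z⟩` of the centre. -/
def Zc : Subgroup G := center G ⊓ zpowers L.z

instance : L.Zc.Normal :=
  ⟨fun x hx g => by rwa [mem_center_iff.1 hx.1 g, mul_inv_cancel_right]⟩

/-- The quotient map. -/
def ρ : G →* G ⧸ L.Zc := QuotientGroup.mk' L.Zc

theorem ρ_surj : Function.Surjective L.ρ := QuotientGroup.mk'_surjective _

/-- The image of the Sylow subgroup. -/
noncomputable def T : Sylow 2 (G ⧸ L.Zc) := L.S.mapSurjective L.ρ_surj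

/-- The image of the extraspecial subgroup. -/
def V : Subgroup (G ⧸ L.Zc) := L.Q.map L.ρ

/-- The image of the fixed class. -/
def v0 : G ⧸ L.Zc := L.ρ L.q

/-- A singular element of the image. -/
def Sing (x : G ⧸ L.Zc) : Prop := ∃ a, L.Invl a ∧ L.ρ a = x

/-- The centralizer of an element splits. -/
def Loc (x : G ⧸ L.Zc) : Prop := ∀ c : G ⧸ L.Zc, c * x = x * c →
  ∃ o ∈ theta x, ∃ n ∈ normalizer (L.V : Set (G ⧸ L.Zc)), n * x = x * n ∧ c = o * n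

variable (hc : ∀ g : G, g * L.z = L.z * g)
include hc

theorem mem_Zc {x : G} : x ∈ L.Zc ↔ x = 1 ∨ x = L.z := by
  constructor
  · rintro ⟨-, i, rfl⟩
    rcases Int.even_or_odd i with ⟨d, rfl⟩ | ⟨d, rfl⟩
    · exact Or.inl (show L.z ^ (d + d) = 1 by rw [zpow_add, ← (Commute.refl L.z).mul_zpow, L.zz, one_zpow])
    · exact Or.inr (show L.z ^ (2 * d + 1) = L.z by
        rw [zpow_add, zpow_mul, zpow_two, L.zz, one_zpow, one_mul, zpow_one])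
  · have hzc : L.z ∈ L.Zc := ⟨mem_center_iff.2 hc, mem_zpowers _⟩
    rintro (rfl | rfl)
    exacts [one_mem _, hzc]

theorem ρ_eq {a b : G} : L.ρ a = L.ρ b ↔ L.EqZ a b := by
  rw [ρ, QuotientGroup.mk'_apply, QuotientGroup.mk'_apply, QuotientGroup.eq, L.mem_Zc hc, EqZ, inv_mul_eq_one,
    inv_mul_eq_iff_eq_mul, ← hc a]
  exact or_congr_left eq_comm

theorem mem_T {g : G} : L.ρ g ∈ (L.T : Subgroup (G ⧸ L.Zc)) ↔ g ∈ (L.S : Subgroup G) := by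
  rw [T, Sylow.coe_mapSurjective]
  refine ⟨?_, fun h => ⟨g, h, rfl⟩⟩
  rintro ⟨s, hs, e⟩
  rcases (L.ρ_eq hc).1 e with rfl | rfl
  exacts [hs, mul_mem L.z_mem hs]

theorem mem_V {g : G} : L.ρ g ∈ L.V ↔ g ∈ L.Q := by
  refine ⟨?_, fun h => ⟨g, h, rfl⟩⟩
  rintro ⟨s, hs, e⟩
  rcases (L.ρ_eq hc).1 e with rfl | rfl
  exacts [hs, mul_mem (L.Z0_Q L.Z0_z) hs]

theorem V_le : L.V ≤ (L.T : Subgroup (G ⧸ L.Zc)) := by
  rintro _ ⟨a, ha, rfl⟩
  exact (L.mem_T hc).2 (L.Q_le ha)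

theorem V_sq {x : G ⧸ L.Zc} (hx : x ∈ L.V) : x * x = 1 := by
  obtain ⟨a, ha, rfl⟩ := hx
  rw [← map_mul, ← map_one L.ρ, L.ρ_eq hc]
  rcases L.Q_sq ha with e | e <;> rw [e]
  · exact Or.inl rfl
  · exact Or.inr (by rw [L.zz])

theorem V_comm {a b : G ⧸ L.Zc} (ha : a ∈ L.V) (hb : b ∈ L.V) : a * b = b * a := by
  have hi : ∀ c ∈ L.V, c⁻¹ = c := fun c hcV => inv_eq_of_mul_eq_one_right (L.V_sq hc hcV)
  rw [← hi _ (mul_mem ha hb), mul_inv_rev, hi a ha, hi b hb]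

theorem weak {g : G ⧸ L.Zc} (hg : ∀ v ∈ L.V, g * v * g⁻¹ ∈ (L.T : Subgroup (G ⧸ L.Zc))) :
    g ∈ normalizer (L.V : Set (G ⧸ L.Zc)) := Invol.mem_normalizer_of_conj_le (by
  rintro _ ⟨_, ⟨a, ha, rfl⟩, rfl⟩
  obtain ⟨h, rfl⟩ := L.ρ_surj g
  have := hg _ ⟨a, ha, rfl⟩
  show L.ρ h * L.ρ a * (L.ρ h)⁻¹ ∈ L.V
  rw [← map_inv, ← map_mul, ← map_mul] at this ⊢
  exact (L.mem_V hc).2 (L.closed ha (hc h) ((L.mem_T hc).1 this)))

theorem T_norm : (L.T : Subgroup (G ⧸ L.Zc)) ≤ normalizer (L.V : Set (G ⧸ L.Zc)) := fun _ ht =>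
  L.weak hc fun _ hv => mul_mem (mul_mem ht (L.V_le hc hv)) (inv_mem ht)

theorem V_closed {x g : G ⧸ L.Zc} (hx : x ∈ L.V) (hg : g * x * g⁻¹ ∈ (L.T : Subgroup (G ⧸ L.Zc))) :
    g * x * g⁻¹ ∈ L.V := by
  obtain ⟨a, ha, rfl⟩ := hx
  obtain ⟨h, rfl⟩ := L.ρ_surj g
  rw [← map_inv, ← map_mul, ← map_mul] at hg ⊢
  exact (L.mem_V hc).2 (L.closed ha (hc h) ((L.mem_T hc).1 hg))

theorem q_invl : L.Invl L.q := ⟨L.Z0_Q L.Z0_q, L.qq, L.qne, L.qnz⟩

theorem sing_v0 : L.Sing L.v0 := ⟨L.q, L.q_invl hc, rfl⟩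

theorem Sing.mem {x : G ⧸ L.Zc} (h : L.Sing x) : x ∈ L.V := by
  obtain ⟨a, ha, rfl⟩ := h
  exact ⟨a, ha.1, rfl⟩

theorem Sing.ne {x : G ⧸ L.Zc} (h : L.Sing x) : x ≠ 1 := by
  obtain ⟨a, ha, rfl⟩ := h
  rw [← map_one L.ρ, Ne, L.ρ_eq hc]
  rintro (e | e)
  · exact ha.2.2.1 e.symm
  · refine ha.2.2.2 (mul_left_cancel (a := L.z) ?_)
    rw [L.zz, ← e]

theorem sing_conj {x g : G ⧸ L.Zc} (hx : L.Sing x) (hg : g * x * g⁻¹ ∈ (L.T : Subgroup (G ⧸ L.Zc))) :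
    L.Sing (g * x * g⁻¹) := by
  obtain ⟨a, ha, rfl⟩ := hx
  obtain ⟨h, rfl⟩ := L.ρ_surj g
  rw [← map_inv, ← map_mul, ← map_mul] at hg ⊢
  refine ⟨_, ⟨L.closed ha.1 (hc h) ((L.mem_T hc).1 hg), ?_, ?_, ?_⟩, rfl⟩
  · rw [show h * a * h⁻¹ * (h * a * h⁻¹) = h * (a * a) * h⁻¹ by group, ha.2.1, mul_one, mul_inv_cancel]
  · rw [Ne, conj_eq_one_iff]; exact ha.2.2.1
  · intro e
    refine ha.2.2.2 ?_
    calc a = h⁻¹ * (h * a * h⁻¹) * h := by group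
      _ = L.z := by rw [e, mul_assoc, ← hc h, inv_mul_cancel_left]

theorem v0_central {t : G ⧸ L.Zc} (ht : t ∈ (L.T : Subgroup (G ⧸ L.Zc))) : t * L.v0 = L.v0 * t := by
  obtain ⟨s, rfl⟩ := L.ρ_surj t
  have hs := (L.mem_T hc).1 ht
  rw [v0, ← map_mul, ← map_mul, L.ρ_eq hc]
  by_cases hW : s ∈ L.W
  · exact Or.inl (L.mem_W.1 hW).2.symm
  · refine Or.inr ?_
    obtain ⟨h1, h2⟩ := L.mem_W.1 (L.S_W hs hW)
    have hr : L.r * L.q = L.z * L.q * L.r := by rw [← L.r_q, inv_mul_cancel_right]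
    calc L.q * s = L.q * (s * L.r⁻¹) * L.r := by group
      _ = s * L.r⁻¹ * (L.q * L.r) := by rw [← h2]; group
      _ = s * L.r⁻¹ * (L.z * (L.r * L.q)) := by rw [hr, ← mul_assoc L.z (L.z * L.q), ← mul_assoc L.z L.z, L.zz,
          one_mul]
      _ = s * L.r⁻¹ * L.z * (L.r * L.q) := by group
      _ = L.z * (s * L.q) := by rw [hc (s * L.r⁻¹)]; group

theorem loc_conj {x n : G ⧸ L.Zc} (hn : n ∈ normalizer (L.V : Set (G ⧸ L.Zc))) (h : L.Loc x) :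
    L.Loc (n * x * n⁻¹) := by
  intro c hcx
  obtain ⟨o, ho, m, hm, hmx, e⟩ := h (n⁻¹ * c * n) (by
    calc n⁻¹ * c * n * x = n⁻¹ * (c * (n * x * n⁻¹)) * n := by group
      _ = n⁻¹ * (n * x * n⁻¹ * c) * n := by rw [hcx]
      _ = x * (n⁻¹ * c * n) := by group)
  refine ⟨n * o * n⁻¹, theta_conj ho, n * m * n⁻¹, mul_mem (mul_mem hn hm) (inv_mem hn), ?_, ?_⟩
  · calc n * m * n⁻¹ * (n * x * n⁻¹) = n * (m * x) * n⁻¹ := by group
      _ = n * (x * m) * n⁻¹ := by rw [hmx]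
      _ = n * x * n⁻¹ * (n * m * n⁻¹) := by group
  · calc c = n * (n⁻¹ * c * n) * n⁻¹ := by group
      _ = n * (o * m) * n⁻¹ := by rw [e]
      _ = n * o * n⁻¹ * (n * m * n⁻¹) := by group

theorem loc_v0 : L.Loc L.v0 := by
  intro c hcv
  obtain ⟨g, rfl⟩ := L.ρ_surj c
  have hr : L.ρ L.r ∈ normalizer (L.V : Set (G ⧸ L.Zc)) := L.T_norm hc ((L.mem_T hc).2 (L.Q_le L.moved_r.1))
  have hrv : L.ρ L.r * L.v0 = L.v0 * L.ρ L.r := L.v0_central hc ((L.mem_T hc).2 (L.Q_le L.moved_r.1))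
  have hnorm : ∀ k : G, L.ρ k * L.v0 = L.v0 * L.ρ k → k ∈ L.CQ ∨ k * L.r ∈ L.CQ := by
    intro k hk
    rw [v0, ← map_mul, ← map_mul, L.ρ_eq hc] at hk
    rcases hk with e | e
    · exact Or.inl (L.mem_CQ.2 ⟨hc k, e.symm⟩)
    · refine Or.inr (L.mem_CQ.2 ⟨hc _, ?_⟩)
      have hr2 : L.r * L.q = L.z * L.q * L.r := by rw [← L.r_q, inv_mul_cancel_right]
      calc k * L.r * L.q = k * L.z * L.q * L.r := by rw [mul_assoc, hr2]; group
        _ = L.z * (k * L.q) * L.r := by rw [hc k]; group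
        _ = L.q * (k * L.r) := by rw [← e]; group
  have hD : (SylJ2.core L.CQ).map L.ρ ≤ theta L.v0 := by
    refine le_core ?_ ?_ ?_
    · rintro _ ⟨d, hd, rfl⟩
      refine mem_centralizer_singleton_iff.2 ?_
      rw [v0, ← map_mul, ← map_mul, (L.mem_CQ.1 (core_le _ hd)).2]
    · exact fun h => core_odd L.CQ (h.trans (card_map_dvd _ _))
    · rintro k hk _ ⟨d, hd, rfl⟩
      obtain ⟨k, rfl⟩ := L.ρ_surj k
      refine ⟨k * d * k⁻¹, core_stable ?_ hd, by rw [map_mul, map_mul, map_inv]⟩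
      rcases hnorm k (mem_centralizer_singleton_iff.1 hk) with h | h
      · exact le_normalizer h
      · have := mul_mem (le_normalizer h) (inv_mem L.r_norm)
        rwa [mul_inv_cancel_right] at this
  have key : ∀ k ∈ L.CQ, ∃ o ∈ theta L.v0, ∃ n ∈ normalizer (L.V : Set (G ⧸ L.Zc)),
      n * L.v0 = L.v0 * n ∧ L.ρ k = o * n := by
    intro k hk
    obtain ⟨o, ho, n, hnC, hn, rfl⟩ := L.cent_q hk
    refine ⟨L.ρ o, hD ⟨o, ho, rfl⟩, L.ρ n, Invol.mem_normalizer_of_conj_le ?_, ?_, map_mul _ _ _⟩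
    · rintro _ ⟨_, ⟨a, ha, rfl⟩, rfl⟩
      refine ⟨n * a * n⁻¹, (mem_normalizer_iff.1 hn a).1 ha, ?_⟩
      simp
    · rw [v0, ← map_mul, ← map_mul, (L.mem_CQ.1 hnC).2]
  rcases hnorm g hcv with h | h
  · exact key g h
  · obtain ⟨o, ho, n, hn, hnv, e⟩ := key _ h
    refine ⟨o, ho, n * L.ρ L.r, mul_mem hn hr, ((show Commute n L.v0 from hnv).mul_left hrv).eq, ?_⟩
    rw [← mul_assoc, ← e, map_mul, mul_assoc, ← map_mul L.ρ L.r, L.r_sq, map_one, mul_one]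

theorem Sing.pair_unique {b c d e : G ⧸ L.Zc} (hb : L.Sing b) (hc' : L.Sing c) (hd : L.Sing d) (he : L.Sing e)
    (hne : b ≠ c) (h : b * c = d * e) : d = b ∨ d = c := by
  obtain ⟨b, hb, rfl⟩ := hb
  obtain ⟨c, hcI, rfl⟩ := hc'
  obtain ⟨d, hd, rfl⟩ := hd
  obtain ⟨e, he, rfl⟩ := he
  rw [← map_mul, ← map_mul, L.ρ_eq hc] at h
  exact (L.pair_unique hb hcI hd he (fun e' => hne ((L.ρ_eq hc).2 e')) h).imp
    (fun e' => ((L.ρ_eq hc).2 e').symm) fun e' => ((L.ρ_eq hc).2 e').symm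

theorem swap_T {b c : G ⧸ L.Zc} (hb : L.Sing b) (hc' : L.Sing c) (hb0 : b ≠ L.v0) (hc0 : c ≠ L.v0) (hne : b ≠ c) :
    ∃ t ∈ (L.T : Subgroup (G ⧸ L.Zc)), t * b * t⁻¹ = c ∧ t * c * t⁻¹ = b := by
  obtain ⟨b, hb, rfl⟩ := hb
  obtain ⟨c, hcI, rfl⟩ := hc'
  obtain ⟨s, hs, h1, h2⟩ := L.swap_pair hb hcI (fun e => hb0 ((L.ρ_eq hc).2 e).symm)
    (fun e => hc0 ((L.ρ_eq hc).2 e).symm) fun e => hne ((L.ρ_eq hc).2 e)
  refine ⟨L.ρ s, (L.mem_T hc).2 hs, mul_inv_eq_iff_eq_mul.2 ?_, mul_inv_eq_iff_eq_mul.2 ?_⟩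
  · rw [← map_mul, ← map_mul]; exact ((L.ρ_eq hc).2 h1).symm
  · rw [← map_mul, ← map_mul]; exact ((L.ρ_eq hc).2 h2).symm

/-- The centralizer of a product of two moved singular elements splits. -/
theorem loc_pair {b c : G ⧸ L.Zc} (hloc : L.Loc b) (hb : L.Sing b) (hc' : L.Sing c) (hb0 : b ≠ L.v0)
    (hc0 : c ≠ L.v0) (hne : b ≠ c) : L.Loc (b * c) := by
  haveI : Fact (Nat.Prime 2) := ⟨Nat.prime_two⟩
  have hbV := hb.mem L hc
  have hcV := hc'.mem L hc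
  have hb2 := L.V_sq hc hbV
  have haV : b * c ∈ L.V := mul_mem hbV hcV
  set a := b * c with ha
  set K := centralizer ({a} : Set (G ⧸ L.Zc)) with hK
  have hVK : L.V ≤ K := fun v hv => mem_centralizer_singleton_iff.2 (L.V_comm hc hv haV)
  have hcab : c = b * a := by rw [ha, ← mul_assoc, hb2, one_mul]
  obtain ⟨t, ht, htb, htc⟩ := L.swap_T hc hb hc' hb0 hc0 hne
  have htK : t ∈ K := mem_centralizer_singleton_iff.2 (mul_inv_eq_iff_eq_mul.1 (by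
    rw [ha, show t * (b * c) * t⁻¹ = t * b * t⁻¹ * (t * c * t⁻¹) by group, htb, htc, L.V_comm hc hcV hbV]))
  have htN := L.T_norm hc ht
  -- the conjugates of `b` in a Sylow subgroup
  obtain ⟨R, hR⟩ := (((L.T : Sylow 2 (G ⧸ L.Zc)).2.to_le (L.V_le hc)).comap_subtype (K := K)).exists_le_sylow
  obtain ⟨R', hR'⟩ := (R.2.map K.subtype).exists_le_sylow
  obtain ⟨h, hh⟩ := MulAction.exists_smul_eq (G ⧸ L.Zc) R' L.T
  have hconj : ∀ r : ↥K, r ∈ (R : Subgroup ↥K) → h * r * h⁻¹ ∈ (L.T : Subgroup (G ⧸ L.Zc)) := fun r hr => by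
    rw [← hh]
    exact Subgroup.smul_mem_pointwise_smul _ (MulAut.conj h) _ (hR' ⟨r, hr, rfl⟩)
  have hVR : ∀ v (hv : v ∈ L.V), (⟨v, hVK hv⟩ : ↥K) ∈ (R : Subgroup ↥K) := fun v hv => hR (mem_subgroupOf.2 hv)
  have hhN : h ∈ normalizer (L.V : Set (G ⧸ L.Zc)) := L.weak hc fun v hv => hconj _ (hVR v hv)
  have hiso : ∀ g : ↥K, g * ⟨b, hVK hbV⟩ * g⁻¹ ∈ (R : Subgroup ↥K) →
      (g : G ⧸ L.Zc) * b * (g : G ⧸ L.Zc)⁻¹ = b ∨ (g : G ⧸ L.Zc) * b * (g : G ⧸ L.Zc)⁻¹ = c := by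
    intro g hg
    set d := (g : G ⧸ L.Zc) * b * (g : G ⧸ L.Zc)⁻¹ with hd
    have h1 : h * g * b * (h * g)⁻¹ ∈ (L.T : Subgroup (G ⧸ L.Zc)) := by
      rw [show h * g * b * (h * g)⁻¹ = h * ((g : G ⧸ L.Zc) * b * (g : G ⧸ L.Zc)⁻¹) * h⁻¹ by group]
      exact hconj _ hg
    have h2 := (L.sing_conj hc hb h1).mem L hc
    rw [show h * g * b * (h * g)⁻¹ = h * d * h⁻¹ by rw [hd]; group] at h2
    have hdV := (mem_normalizer_iff.1 hhN d).2 h2
    have hdS : L.Sing d := L.sing_conj hc hb (L.V_le hc hdV)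
    have hga : (g : G ⧸ L.Zc) * a * (g : G ⧸ L.Zc)⁻¹ = a := by
      rw [mem_centralizer_singleton_iff.1 g.2, mul_inv_cancel_right]
    set e := (g : G ⧸ L.Zc) * c * (g : G ⧸ L.Zc)⁻¹ with he
    have hde : a = d * e := by rw [← hga, ha, hd, he]; group
    have heV : e ∈ L.V := by
      rw [show e = d⁻¹ * a by rw [hde, inv_mul_cancel_left]]
      exact mul_mem (inv_mem hdV) haV
    exact Sing.pair_unique L hc hb hc' hdS (L.sing_conj hc hc' (L.V_le hc heV)) hne hde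
  -- the isolated image
  set Za : Subgroup ↥K := zpowers (⟨a, hVK haV⟩ : ↥K) with hZa
  have hZc : Za ≤ center ↥K := zpowers_le.2 (mem_center_iff.2 fun g =>
    Subtype.ext (mem_centralizer_singleton_iff.1 g.2))
  haveI : Za.Normal := ⟨fun x hx g => by rwa [mem_center_iff.1 (hZc hx) g, mul_inv_cancel_right]⟩
  have hmemZa : ∀ x ∈ Za, (x : G ⧸ L.Zc) = 1 ∨ (x : G ⧸ L.Zc) = a := by
    rintro _ ⟨i, rfl⟩
    have ha2 := L.V_sq hc haV
    rcases Int.even_or_odd i with ⟨d, rfl⟩ | ⟨d, rfl⟩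
    · left
      simp only [SubgroupClass.coe_zpow]
      rw [zpow_add, ← (Commute.refl a).mul_zpow, ha2, one_zpow]
    · right
      simp only [SubgroupClass.coe_zpow]
      rw [zpow_add, zpow_mul, zpow_two, ha2, one_zpow, one_mul, zpow_one]
  have hZaR : Za ≤ (R : Subgroup ↥K) := zpowers_le.2 (hVR a haV)
  let f := QuotientGroup.mk' Za
  set bb : ↥K := ⟨b, hVK hbV⟩ with hbb
  have hfb : orderOf (f bb) = 2 := orderOf_eq_prime (by
    rw [← map_pow, pow_two, show bb * bb = 1 from Subtype.ext hb2, map_one]) fun e => by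
      rw [QuotientGroup.mk'_apply, QuotientGroup.eq_one_iff] at e
      rcases hmemZa _ e with e' | e'
      · exact hb.ne L hc e'
      · exact hc'.ne L hc (mul_eq_left.1 e'.symm)
  have hIso : Cfsg.IsIsolatedInvolution (f bb) := by
    refine Invol.isolated_of_sylow (R.mapSurjective (QuotientGroup.mk'_surjective Za)) hfb fun y hy => ?_
    obtain ⟨g, rfl⟩ := QuotientGroup.mk'_surjective Za y
    rw [← map_inv, ← map_mul, ← map_mul] at hy ⊢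
    have hy' : f (g * bb * g⁻¹) ∈ (R : Subgroup ↥K).map f := hy
    obtain ⟨r, hr, e⟩ := hy'
    have hgR : g * bb * g⁻¹ ∈ (R : Subgroup ↥K) := by
      have := mul_mem hr (hZaR ((QuotientGroup.eq).1 e))
      rwa [mul_inv_cancel_left] at this
    refine (QuotientGroup.eq).2 ?_
    rcases hiso g hgR with e' | e'
    · rw [show g * bb * g⁻¹ = bb from Subtype.ext e', inv_mul_cancel]
      exact one_mem _
    · rw [show (g * bb * g⁻¹)⁻¹ * bb = (⟨a, hVK haV⟩ : ↥K) from Subtype.ext ?_]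
      · exact mem_zpowers _
      · show ((g : G ⧸ L.Zc) * b * (g : G ⧸ L.Zc)⁻¹)⁻¹ * b = a
        rw [e', inv_eq_of_mul_eq_one_right (L.V_sq hc hcV), ha, L.V_comm hc hbV hcV]
  have h2Za : IsPGroup 2 Za := R.2.to_le hZaR
  -- decomposition
  set K' := K ⊓ centralizer ({b} : Set (G ⧸ L.Zc)) with hK'
  have hswap : t ∈ normalizer (K' : Set (G ⧸ L.Zc)) := Invol.mem_normalizer_of_conj_le (by
    rintro _ ⟨k, hk, rfl⟩
    have hkK : t * k * t⁻¹ ∈ K := mul_mem (mul_mem htK hk.1) (inv_mem htK)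
    refine ⟨hkK, mem_centralizer_singleton_iff.2 ?_⟩
    have hkc : k * c = c * k := by
      rw [hcab]
      exact ((show Commute k b from mem_centralizer_singleton_iff.1 hk.2).mul_right
        (show Commute k a from mem_centralizer_singleton_iff.1 hk.1)).eq
    show t * k * t⁻¹ * b = b * (t * k * t⁻¹)
    rw [← htc, show t * k * t⁻¹ * (t * c * t⁻¹) = t * (k * c) * t⁻¹ by group, hkc]
    group)
  have hdec : ∀ g ∈ K, ∃ o ∈ core K, ∃ s, (s = 1 ∨ s = t⁻¹) ∧ ∃ g₂ ∈ K', g = o * (s * g₂) := by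
    intro g hg
    have hz := Invol.zstar hIso (f ⟨g, hg⟩)
    rw [← map_inv, ← map_inv, ← map_mul, ← map_mul, ← map_mul] at hz
    obtain ⟨o, ho, how⟩ := core_central Za hZc h2Za hz
    set w := o⁻¹ * (bb * ⟨g, hg⟩ * bb⁻¹ * (⟨g, hg⟩ : ↥K)⁻¹) with hw
    have hbi : b⁻¹ = b := inv_eq_of_mul_eq_one_right hb2
    set o' : G ⧸ L.Zc := b * (o : G ⧸ L.Zc) * b⁻¹ with ho'
    have ho'K : o' ∈ core K := core_conj (hVK hbV) ⟨o, ho, rfl⟩
    set v := b * (w : G ⧸ L.Zc) with hv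
    have hgb : g * b * g⁻¹ = o' * v := by
      rw [ho', hv, show (w : G ⧸ L.Zc) = (o : G ⧸ L.Zc)⁻¹ * (b * g * b⁻¹ * g⁻¹) from rfl,
        show b * (o : G ⧸ L.Zc) * b⁻¹ * (b * ((o : G ⧸ L.Zc)⁻¹ * (b * g * b⁻¹ * g⁻¹))) = b * b * (g * b⁻¹ * g⁻¹) by
          group, hb2, one_mul, hbi]
    have hv' : v = b ∨ v = c := by
      rcases hmemZa _ how with e | e
      · exact Or.inl (by rw [hv, e, mul_one])
      · exact Or.inr (by rw [hv, e, hcab])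
    have hv2 : v * v = 1 := by rcases hv' with e | e <;> rw [e]; exacts [hb2, L.V_sq hc hcV]
    obtain ⟨o₁, ho₁, e₁⟩ := conj_in_coset ho'K (odd_orderOf (core_odd _) ho'K) hv2 (by
      rw [← hgb, show g * b * g⁻¹ * (g * b * g⁻¹) = g * (b * b) * g⁻¹ by group, hb2, mul_one, mul_inv_cancel])
    rw [← hgb, show o₁ * (g * b * g⁻¹) * o₁⁻¹ = o₁ * g * b * (o₁ * g)⁻¹ by group] at e₁
    have hg₁ : o₁ * g ∈ K := mul_mem (core_le _ ho₁) hg
    rcases hv' with e | e <;> rw [e] at e₁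
    · exact ⟨o₁⁻¹, inv_mem ho₁, 1, Or.inl rfl, o₁ * g,
        ⟨hg₁, mem_centralizer_singleton_iff.2 (mul_inv_eq_iff_eq_mul.1 e₁)⟩, by group⟩
    · refine ⟨o₁⁻¹, inv_mem ho₁, t⁻¹, Or.inr rfl, t * (o₁ * g),
        ⟨mul_mem htK hg₁, mem_centralizer_singleton_iff.2 (mul_inv_eq_iff_eq_mul.1 ?_)⟩, by group⟩
      rw [show t * (o₁ * g) * b * (t * (o₁ * g))⁻¹ = t * (o₁ * g * b * (o₁ * g)⁻¹) * t⁻¹ by group, e₁, htc]
  have hcore : core K' ≤ core K := core_le_of_dec inf_le_left fun g hg => by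
    obtain ⟨o, ho, s, hs, g₂, hg₂, e⟩ := hdec g hg
    refine ⟨o, ho, s * g₂, ?_, ?_, e⟩
    · rcases hs with rfl | rfl
      exacts [mul_mem (one_mem _) hg₂.1, mul_mem (inv_mem htK) hg₂.1]
    · rcases hs with rfl | rfl
      exacts [mul_mem (one_mem _) (le_normalizer hg₂), mul_mem (inv_mem hswap) (le_normalizer hg₂)]
  intro g hga
  obtain ⟨o₁, ho₁, s, hs, g₂, hg₂, e⟩ := hdec g (mem_centralizer_singleton_iff.2 hga)
  obtain ⟨o, ho, n, hn, hnb, e₂⟩ := hloc g₂ (mem_centralizer_singleton_iff.1 hg₂.2)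
  have hnK : n ∈ K := by
    refine mem_centralizer_singleton_iff.2 (mul_inv_eq_iff_eq_mul.1 ?_)
    set w := n * a * n⁻¹ with hw
    have hwV : w ∈ L.V := (mem_normalizer_iff.1 hn a).1 haV
    have e3 : o * w * o⁻¹ = a := by
      rw [hw, show o * (n * a * n⁻¹) * o⁻¹ = o * n * a * (o * n)⁻¹ by group, ← e₂,
        mem_centralizer_singleton_iff.1 hg₂.1, mul_inv_cancel_right]
    have hwb : w ∈ centralizer ({b} : Set (G ⧸ L.Zc)) := mem_centralizer_singleton_iff.2 (L.V_comm hc hwV hbV)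
    have h4 : a * w⁻¹ ∈ theta b := by
      rw [← e3, show o * w * o⁻¹ * w⁻¹ = o * (w * o⁻¹ * w⁻¹) by group]
      exact mul_mem ho (core_conj hwb (inv_mem ho))
    have h5 := odd_orderOf (D := theta b) (core_odd _) h4
    have h6 : orderOf (a * w⁻¹) ∣ 2 :=
      orderOf_dvd_of_pow_eq_one (by rw [pow_two]; exact L.V_sq hc (mul_mem haV (inv_mem hwV)))
    have h7 : a * w⁻¹ = 1 := orderOf_eq_one_iff.1 (Nat.eq_one_of_dvd_coprimes
      (Nat.coprime_two_right.2 h5) dvd_rfl h6)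
    exact (mul_inv_eq_one.1 h7).symm
  have hoK : o ∈ core K := by
    refine hcore (le_core (D := theta b ⊓ K) (le_inf inf_le_right (inf_le_left.trans (theta_le b))) ?_ ?_ ⟨ho, ?_⟩)
    · exact fun h2 => core_odd _ (h2.trans (Subgroup.card_dvd_of_le inf_le_left))
    · exact fun k hk d hd => ⟨core_conj (mem_inf.1 hk).2 (mem_inf.1 hd).1,
        K.mul_mem (K.mul_mem (mem_inf.1 hk).1 (mem_inf.1 hd).2) (K.inv_mem (mem_inf.1 hk).1)⟩
    · have := mul_mem (mem_inf.1 hg₂).1 (inv_mem hnK)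
      rwa [e₂, mul_inv_cancel_right] at this
  have hsN : s ∈ normalizer (L.V : Set (G ⧸ L.Zc)) ∧ s ∈ K := by
    rcases hs with rfl | rfl
    exacts [⟨one_mem _, one_mem _⟩, ⟨inv_mem htN, inv_mem htK⟩]
  refine ⟨o₁ * (s * o * s⁻¹), mul_mem ho₁ (core_conj hsN.2 hoK), s * n, mul_mem hsN.1 hn,
    mem_centralizer_singleton_iff.1 (mul_mem hsN.2 hnK), ?_⟩
  rw [e, e₂]
  group

theorem outer {u : G ⧸ L.Zc} (huT : u ∈ (L.T : Subgroup (G ⧸ L.Zc))) (huV : u ∉ L.V)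
    {M : Subgroup (G ⧸ L.Zc)} (hM : ∀ x ∈ L.V, x ≠ 1 → centralizer ({x} : Set (G ⧸ L.Zc)) ≤ M) :
    centralizer ({u} : Set (G ⧸ L.Zc)) ≤ M := by
  haveI : Fact (Nat.Prime 2) := ⟨Nat.prime_two⟩
  set K := centralizer ({u} : Set (G ⧸ L.Zc)) with hK
  have hv0K : L.v0 ∈ K := mem_centralizer_singleton_iff.2 (L.v0_central hc huT).symm
  have hv0V : L.v0 ∈ L.V := (L.sing_v0 hc).mem L hc
  obtain ⟨R, hR⟩ := ((L.T : Sylow 2 (G ⧸ L.Zc)).2.comap_subtype (K := K)).exists_le_sylow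
  obtain ⟨R', hR'⟩ := (R.2.map K.subtype).exists_le_sylow
  obtain ⟨h, hh⟩ := MulAction.exists_smul_eq (G ⧸ L.Zc) R' L.T
  have hconj : ∀ r : ↥K, r ∈ (R : Subgroup ↥K) → h * r * h⁻¹ ∈ (L.T : Subgroup (G ⧸ L.Zc)) := fun r hr => by
    rw [← hh]
    exact Subgroup.smul_mem_pointwise_smul _ (MulAut.conj h) _ (hR' ⟨r, hr, rfl⟩)
  have huR := hconj ⟨u, mem_centralizer_singleton_iff.2 rfl⟩ (hR (mem_subgroupOf.2 huT))
  have hu'V : h * u * h⁻¹ ∉ L.V := fun hV => huV (by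
    have := L.V_closed hc (g := h⁻¹) hV (by rwa [show h⁻¹ * (h * u * h⁻¹) * h⁻¹⁻¹ = u by group])
    rwa [show h⁻¹ * (h * u * h⁻¹) * h⁻¹⁻¹ = u by group] at this)
  have hfix : ∀ g : ↥K, g * ⟨L.v0, hv0K⟩ * g⁻¹ ∈ (R : Subgroup ↥K) →
      h * ((g : G ⧸ L.Zc) * L.v0 * (g : G ⧸ L.Zc)⁻¹) * h⁻¹ = L.v0 := by
    intro g hg
    have h1 := hconj _ hg
    have hS : L.Sing (h * ((g : G ⧸ L.Zc) * L.v0 * (g : G ⧸ L.Zc)⁻¹) * h⁻¹) := by
      have e : h * g * L.v0 * (h * g)⁻¹ = h * ((g : G ⧸ L.Zc) * L.v0 * (g : G ⧸ L.Zc)⁻¹) * h⁻¹ := by group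
      rw [← e]
      exact L.sing_conj hc (L.sing_v0 hc) (by rw [e]; exact h1)
    obtain ⟨x, hx, hxe⟩ := hS
    obtain ⟨s, hse⟩ := L.ρ_surj (h * u * h⁻¹)
    rw [← hxe]
    refine ((L.ρ_eq hc).2 (L.fix_unique ((L.mem_T hc).1 (hse ▸ huR)) (fun hQ => hu'V (hse ▸ (L.mem_V hc).2 hQ))
      hx ((L.ρ_eq hc).1 ?_))).symm
    rw [map_mul, map_mul, hse, hxe]
    have hcomm := mem_centralizer_singleton_iff.1 (g * ⟨L.v0, hv0K⟩ * g⁻¹ : ↥K).2
    simp only [Subgroup.coe_mul, Subgroup.coe_inv] at hcomm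
    calc h * ((g : G ⧸ L.Zc) * L.v0 * (g : G ⧸ L.Zc)⁻¹) * h⁻¹ * (h * u * h⁻¹)
        = h * ((g : G ⧸ L.Zc) * L.v0 * (g : G ⧸ L.Zc)⁻¹ * u) * h⁻¹ := by group
      _ = h * (u * ((g : G ⧸ L.Zc) * L.v0 * (g : G ⧸ L.Zc)⁻¹)) * h⁻¹ := by rw [hcomm]
      _ = h * u * h⁻¹ * (h * ((g : G ⧸ L.Zc) * L.v0 * (g : G ⧸ L.Zc)⁻¹) * h⁻¹) := by group
  have hv0R : (⟨L.v0, hv0K⟩ : ↥K) ∈ (R : Subgroup ↥K) := hR (mem_subgroupOf.2 (L.V_le hc hv0V))
  have h0 := hfix 1 (by simpa using hv0R)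
  simp only [OneMemClass.coe_one, one_mul, inv_one, mul_one] at h0
  have hv2 := L.V_sq hc hv0V
  have hIso : Cfsg.IsIsolatedInvolution (⟨L.v0, hv0K⟩ : ↥K) := by
    refine Invol.isolated_of_sylow R (orderOf_eq_prime (Subtype.ext (by simpa [pow_two] using hv2))
      fun e => (L.sing_v0 hc).ne L hc (congrArg Subtype.val e)) fun g hg => Subtype.ext ?_
    exact mul_left_cancel (mul_right_cancel ((hfix g hg).trans h0.symm))
  have hO : core K ≤ M := by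
    obtain ⟨s, hs⟩ := L.ρ_surj u
    obtain ⟨a, ha, ha2, hsa⟩ := L.root_comm ((L.mem_T hc).1 (hs ▸ huT))
    set A := L.V ⊓ K with hA
    haveI : IsMulCommutative A := ⟨⟨fun x y => Subtype.ext (L.V_comm hc x.2.1 y.2.1)⟩⟩
    have hρa : L.ρ a ∈ A := ⟨⟨a, ha, rfl⟩, mem_centralizer_singleton_iff.2 (by
      rw [← hs, ← map_mul, ← map_mul]; exact (L.ρ_eq hc).2 hsa)⟩
    have ha1 : L.ρ a ≠ 1 := by
      rw [← map_one L.ρ, Ne, L.ρ_eq hc]
      rintro (e | e)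
      · rw [← e, one_mul] at ha2; exact L.zne ha2.symm
      · have : a = L.z := by
          refine mul_left_cancel (a := L.z) ?_
          rw [L.zz, ← e]
        rw [this, L.zz] at ha2
        exact L.zne ha2.symm
    have hav : L.ρ a ≠ L.v0 := by
      rw [v0, Ne, L.ρ_eq hc]
      rintro (e | e)
      · rw [← e, L.qq] at ha2; exact L.zne ha2.symm
      · have hq := L.qq
        rw [e, show L.z * a * (L.z * a) = L.z * L.z * (a * a) by
          rw [mul_assoc L.z a, ← mul_assoc a L.z a, hc a]; group, L.zz, one_mul, ha2] at hq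
        exact L.zne hq
    have hcyc : ¬ IsCyclic A := by
      intro hcy
      have hexp : Monoid.exponent A ∣ 2 := Monoid.exponent_dvd_of_forall_pow_eq_one fun x =>
        Subtype.ext (by simpa [pow_two] using L.V_sq hc x.2.1)
      rw [IsCyclic.exponent_eq_card] at hexp
      have := Nat.le_of_dvd (by norm_num) hexp
      let fA : Fin 3 → A := ![1, ⟨L.v0, hv0V, hv0K⟩, ⟨L.ρ a, hρa⟩]
      have hinj : Function.Injective fA := fun i j e => by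
        have e' : (fA i : G ⧸ L.Zc) = fA j := congrArg Subtype.val e
        fin_cases i <;> fin_cases j <;> simp [fA, (L.sing_v0 hc).ne L hc, ((L.sing_v0 hc).ne L hc).symm, ha1,
          ha1.symm, hav, hav.symm] at e' ⊢
      have h3 := Nat.card_le_card_of_injective fA hinj
      rw [Nat.card_fin] at h3
      omega
    have hcop : (Nat.card A).Coprime (Nat.card (core K)) := by
      obtain ⟨i, hi⟩ := IsPGroup.iff_card.1 ((L.T : Sylow 2 (G ⧸ L.Zc)).2.to_le (inf_le_left.trans (L.V_le hc)) :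
        IsPGroup 2 A)
      rw [hi]
      exact (Nat.prime_two.coprime_iff_not_dvd.2 (core_odd K)).pow_left i
    rw [← Cfsg.Agent.S0058.result A (core K) hcyc (fun x hx => Invol.mem_normalizer_of_conj_le (by
      rintro _ ⟨d, hd, rfl⟩
      exact core_conj hx.2 hd)) hcop]
    exact iSup₂_le fun x hx => inf_le_right.trans (hM x hx.1.1 hx.2)
  intro g hg
  have hz := Invol.zstar hIso ⟨g, hg⟩
  have hvi : L.v0⁻¹ = L.v0 := inv_eq_of_mul_eq_one_right hv2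
  set o : G ⧸ L.Zc := L.v0 * g * L.v0⁻¹ * g⁻¹ with ho
  have hoK : o ∈ core K := ⟨_, hz, rfl⟩
  set o' : G ⧸ L.Zc := L.v0 * o * L.v0⁻¹ with ho'
  have ho'K : o' ∈ core K := core_conj hv0K hoK
  have hgv : g * L.v0 * g⁻¹ = o' * L.v0 := by
    rw [ho', ho, show L.v0 * (L.v0 * g * L.v0⁻¹ * g⁻¹) * L.v0⁻¹ * L.v0 = L.v0 * L.v0 * (g * L.v0⁻¹ * g⁻¹) by group,
      hv2, one_mul, hvi]
  obtain ⟨o₁, ho₁, e₁⟩ := conj_in_coset ho'K (odd_orderOf (core_odd _) ho'K) hv2 (by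
    rw [← hgv, show g * L.v0 * g⁻¹ * (g * L.v0 * g⁻¹) = g * (L.v0 * L.v0) * g⁻¹ by group, hv2, mul_one,
      mul_inv_cancel])
  rw [← hgv, show o₁ * (g * L.v0 * g⁻¹) * o₁⁻¹ = o₁ * g * L.v0 * (o₁ * g)⁻¹ by group] at e₁
  have := mul_mem (inv_mem (hO ho₁)) (hM L.v0 hv0V ((L.sing_v0 hc).ne L hc)
    (mem_centralizer_singleton_iff.2 (mul_inv_eq_iff_eq_mul.1 e₁) : o₁ * g ∈ centralizer ({L.v0} : Set (G ⧸ L.Zc))))
  rwa [inv_mul_cancel_left] at this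

variable (hm : ∃ g : G, g * L.q * g⁻¹ ∈ (L.S : Subgroup G) ∧ ¬ L.QC (g * L.q * g⁻¹))
include hm

/-- The singular elements are conjugate in the normalizer. -/
theorem to_sing {x : G ⧸ L.Zc} (hx : L.Sing x) :
    ∃ n ∈ normalizer (L.V : Set (G ⧸ L.Zc)), n * L.v0 * n⁻¹ = x := by
  haveI : Fact (Nat.Prime 2) := ⟨Nat.prime_two⟩
  obtain ⟨a, ha, rfl⟩ := hx
  obtain ⟨s, hs, hsa⟩ := L.Q_orbit ha.1 ha.2.1 ha.2.2.1 ha.2.2.2
  have hsN := L.T_norm hc ((L.mem_T hc).2 hs)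
  rcases hsa with rfl | rfl
  · exact ⟨L.ρ s, hsN, by rw [v0, ← map_inv, ← map_mul, ← map_mul]⟩
  -- reduce to `r`
  obtain ⟨g, hgS, hgQC⟩ := hm
  have hmQ : g * L.q * g⁻¹ ∈ L.Q := L.closed (L.Z0_Q L.Z0_q) (hc g) hgS
  have hm1 : g * L.q * g⁻¹ ≠ 1 := fun e => L.qne (by rwa [conj_eq_one_iff] at e)
  have hmz : g * L.q * g⁻¹ ≠ L.z := fun e => L.qnz (by
    calc L.q = g⁻¹ * (g * L.q * g⁻¹) * g := by group
      _ = L.z := by rw [e, mul_assoc, ← hc g, inv_mul_cancel_left])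
  obtain ⟨s', hs', hs'm⟩ := L.Q_orbit hmQ (by
    rw [show g * L.q * g⁻¹ * (g * L.q * g⁻¹) = g * (L.q * L.q) * g⁻¹ by group, L.qq, mul_one, mul_inv_cancel]) hm1 hmz
  have hs'r : s' * L.r * s'⁻¹ = g * L.q * g⁻¹ := hs'm.resolve_left fun e => hgQC (by
    rw [← e]
    have := L.v0_central hc ((L.mem_T hc).2 hs')
    rw [v0, ← map_mul, ← map_mul, L.ρ_eq hc] at this
    rcases this with h | h
    · exact Or.inl (mul_inv_eq_iff_eq_mul.2 h.symm)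
    · refine Or.inr (mul_inv_eq_iff_eq_mul.2 ?_)
      rw [mul_assoc, h, ← mul_assoc, L.zz, one_mul])
  set g' := s'⁻¹ * g with hg'
  have hgr : L.ρ g' * L.v0 * (L.ρ g')⁻¹ = L.ρ L.r := by
    rw [v0, ← map_inv, ← map_mul, ← map_mul]
    congr 1
    rw [hg', show s'⁻¹ * g * L.q * (s'⁻¹ * g)⁻¹ = s'⁻¹ * (g * L.q * g⁻¹) * s' by group, ← hs'r]
    group
  set K := centralizer ({L.ρ L.r} : Set (G ⧸ L.Zc)) with hK
  have hVK : L.V ≤ K := fun v hv => mem_centralizer_singleton_iff.2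
    (L.V_comm hc hv ((L.mem_V hc).2 L.moved_r.1))
  let T' : Sylow 2 (G ⧸ L.Zc) := L.ρ g' • L.T
  have hT' : ∀ x ∈ (T' : Subgroup (G ⧸ L.Zc)), (L.ρ g')⁻¹ * x * L.ρ g' ∈ (L.T : Subgroup (G ⧸ L.Zc)) := fun x hx => by
    rw [show (T' : Subgroup (G ⧸ L.Zc)) = MulAut.conj (L.ρ g') • (L.T : Subgroup (G ⧸ L.Zc)) from
      Sylow.coe_subgroup_smul, mem_pointwise_smul_iff_inv_smul_mem] at hx
    simpa [MulAut.smul_def] using hx
  have hT'K : (T' : Subgroup (G ⧸ L.Zc)) ≤ K := fun x hx => by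
    refine mem_centralizer_singleton_iff.2 ?_
    have := L.v0_central hc (hT' x hx)
    rw [← hgr]
    calc x * (L.ρ g' * L.v0 * (L.ρ g')⁻¹) = L.ρ g' * ((L.ρ g')⁻¹ * x * L.ρ g' * L.v0) * (L.ρ g')⁻¹ := by group
      _ = L.ρ g' * (L.v0 * ((L.ρ g')⁻¹ * x * L.ρ g')) * (L.ρ g')⁻¹ := by rw [this]
      _ = L.ρ g' * L.v0 * (L.ρ g')⁻¹ * x := by group
  obtain ⟨k, hk, hkV⟩ := into_sylow T' hT'K ((L.T : Sylow 2 (G ⧸ L.Zc)).2.to_le (L.V_le hc)) hVK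
  have hn : (L.ρ g')⁻¹ * k ∈ normalizer (L.V : Set (G ⧸ L.Zc)) := L.weak hc fun v hv => by
    have := hT' _ (hkV v hv)
    convert this using 1
    group
  refine ⟨L.ρ s * ((L.ρ g')⁻¹ * k)⁻¹, mul_mem hsN (inv_mem hn), ?_⟩
  have hkr : k⁻¹ * L.ρ L.r * k = L.ρ L.r := by
    rw [mul_assoc, ← mem_centralizer_singleton_iff.1 hk, inv_mul_cancel_left]
  calc L.ρ s * ((L.ρ g')⁻¹ * k)⁻¹ * L.v0 * (L.ρ s * ((L.ρ g')⁻¹ * k)⁻¹)⁻¹
      = L.ρ s * (k⁻¹ * (L.ρ g' * L.v0 * (L.ρ g')⁻¹) * k) * (L.ρ s)⁻¹ := by group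
    _ = L.ρ (s * L.r * s⁻¹) := by rw [hgr, hkr, map_mul, map_mul, map_inv]

theorem loc_sing {x : G ⧸ L.Zc} (hx : L.Sing x) : L.Loc x := by
  obtain ⟨n, hn, rfl⟩ := L.to_sing hc hm hx
  exact L.loc_conj hc hn (L.loc_v0 hc)

theorem loc_all {x : G ⧸ L.Zc} (hx : x ∈ L.V) (hx1 : x ≠ 1) : L.Loc x := by
  obtain ⟨a, ha, rfl⟩ := hx
  rcases L.Q_sq ha with h2 | h2
  · refine L.loc_sing hc hm ⟨a, ⟨ha, h2, fun e => hx1 (by rw [e, map_one]), fun e => hx1 ?_⟩, rfl⟩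
    rw [e, ← map_one L.ρ, L.ρ_eq hc]
    exact Or.inr (by rw [L.zz])
  obtain ⟨b, c, hb, hc', hbc⟩ := L.pair_exists ha h2
  have hbS : L.Sing (L.ρ b) := ⟨b, hb, rfl⟩
  have hcS : L.Sing (L.ρ c) := ⟨c, hc', rfl⟩
  have hxe : L.ρ a = L.ρ b * L.ρ c := by rw [← map_mul]; exact ((L.ρ_eq hc).2 hbc).symm
  rw [hxe] at hx1 ⊢
  have hbV := hbS.mem L hc
  have hcV := hcS.mem L hc
  have hne : L.ρ b ≠ L.ρ c := fun e => hx1 (by rw [e]; exact L.V_sq hc hcV)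
  -- conjugate a pair into the moved singular elements
  have key : ∀ c : G ⧸ L.Zc, L.Sing c → c ≠ L.v0 → L.Loc (L.v0 * c) := by
    intro c hcS hc0
    obtain ⟨n₀, hn₀, hne₀⟩ := L.to_sing hc hm ⟨L.r, ⟨L.moved_r.1, L.r_sq, fun e => L.moved_r.2.1 (e ▸ one_mem _),
      fun e => L.moved_r.2.1 (e ▸ L.Z0_W L.Z0_z)⟩, rfl⟩
    have hr0 : L.ρ L.r ≠ L.v0 := by
      rw [v0, Ne, L.ρ_eq hc]
      rintro (e | e)
      · exact L.moved_r.2.1 (e ▸ L.Z0_W L.Z0_q)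
      · exact L.moved_r.2.1 (by
          have := mul_mem (L.Z0_W L.Z0_z) (L.Z0_W L.Z0_q)
          rwa [e, ← mul_assoc, L.zz, one_mul] at this)
    obtain ⟨t, ht, htc⟩ : ∃ t ∈ (L.T : Subgroup (G ⧸ L.Zc)), n₀ * (t * c * t⁻¹) * n₀⁻¹ ≠ L.v0 := by
      by_cases hd : n₀ * c * n₀⁻¹ = L.v0
      · refine ⟨L.ρ L.y1, (L.mem_T hc).2 (L.mem_W.1 L.outer_y1.2.1).1, fun e => ?_⟩
        have e2 : L.ρ L.y1 * c * (L.ρ L.y1)⁻¹ = c := mul_left_cancel (mul_right_cancel (e.trans hd.symm))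
        obtain ⟨x, hx, rfl⟩ := hcS
        refine hc0 ((L.ρ_eq hc).2 (L.fix_unique (L.mem_W.1 L.outer_y1.2.1).1 L.outer_y1.1 hx ((L.ρ_eq hc).1 ?_))).symm
        rw [map_mul, map_mul]
        exact (mul_inv_eq_iff_eq_mul.1 e2).symm
      · exact ⟨1, one_mem _, by rwa [one_mul, inv_one, mul_one]⟩
    set n := n₀ * t with hn'
    have hn : n ∈ normalizer (L.V : Set (G ⧸ L.Zc)) := mul_mem hn₀ (L.T_norm hc ht)
    have e1 : n * L.v0 * n⁻¹ = L.ρ L.r := by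
      rw [hn', show n₀ * t * L.v0 * (n₀ * t)⁻¹ = n₀ * (t * L.v0 * t⁻¹) * n₀⁻¹ by group, L.v0_central hc ht,
        mul_inv_cancel_right, hne₀]
    have e2 : n * c * n⁻¹ ≠ L.v0 := by
      rwa [hn', show n₀ * t * c * (n₀ * t)⁻¹ = n₀ * (t * c * t⁻¹) * n₀⁻¹ by group]
    have hnc : n * c * n⁻¹ ∈ L.V := (mem_normalizer_iff.1 hn c).1 (hcS.mem L hc)
    have hncS := L.sing_conj hc hcS (L.V_le hc hnc)
    have hrS : L.Sing (L.ρ L.r) := e1 ▸ L.sing_conj hc (L.sing_v0 hc)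
      (L.V_le hc ((mem_normalizer_iff.1 hn _).1 ((L.sing_v0 hc).mem L hc)))
    have h3 := L.loc_conj hc (inv_mem hn) (L.loc_pair hc (L.loc_sing hc hm hrS) hrS hncS hr0 e2 fun e =>
      hc0 (mul_left_cancel (mul_right_cancel (e1.trans e))).symm)
    rwa [← e1, show n⁻¹ * (n * L.v0 * n⁻¹ * (n * c * n⁻¹)) * n⁻¹⁻¹ = L.v0 * c by group] at h3
  by_cases hb0 : L.ρ b = L.v0
  · rw [hb0]
    exact key _ hcS fun e => hne (hb0.trans e.symm)
  by_cases hc0 : L.ρ c = L.v0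
  · rw [L.V_comm hc hbV hcV, hc0]
    exact key _ hbS hb0
  exact L.loc_pair hc (L.loc_sing hc hm hbS) hbS hcS hb0 hc0 hne

theorem split : Split L.T L.V where
  le := L.V_le hc
  comm a ha b hb := L.V_comm hc ha hb
  sq a ha := L.V_sq hc ha
  rank := by
    have h1 := Subgroup.relIndex_mul_relIndex (⊥ : Subgroup G) L.Zc L.Q bot_le fun x hx => by
      rcases (L.mem_Zc hc).1 hx with rfl | rfl
      exacts [one_mem _, L.Z0_Q L.Z0_z]
    have he : L.Zc = zpowers L.z := le_antisymm inf_le_right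
      (zpowers_le.2 ((L.mem_Zc hc).2 (Or.inr rfl)))
    have hz : Nat.card L.Zc = 2 := by
      rw [he, Nat.card_zpowers]
      exact orderOf_eq_prime (by rw [pow_two, L.zz]) L.zne
    rw [relIndex_bot_left, relIndex_bot_left, hz, L.card_Q] at h1
    have h2 := Subgroup.relIndex_comap (⊥ : Subgroup (G ⧸ L.Zc)) L.ρ L.Q
    rw [MonoidHom.comap_bot, relIndex_bot_left, ρ, QuotientGroup.ker_mk'] at h2
    show 8 ≤ Nat.card (L.Q.map (QuotientGroup.mk' L.Zc))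
    omega
  self s hs h := by
    obtain ⟨s, rfl⟩ := L.ρ_surj s
    refine (L.mem_V hc).2 (L.Q_self ((L.mem_T hc).1 hs) fun x hx => ?_)
    have := (h _ ⟨x, hx, rfl⟩).symm
    rw [← map_mul, ← map_mul, L.ρ_eq hc] at this
    exact this
  weak g hg := L.weak hc hg
  loc x hx hx1 := L.loc_all hc hm hx hx1
  outer u hu hu' _ M _ hM := L.outer hc hu hu' hM
  classes := by
    obtain ⟨a, ha, ha2⟩ := L.exists_root
    refine ⟨L.v0, (L.sing_v0 hc).mem L hc, L.ρ a, ⟨a, ha, rfl⟩, (L.sing_v0 hc).ne L hc, fun e => ?_, fun hcj => ?_⟩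
    · rw [← map_one L.ρ, L.ρ_eq hc] at e
      rcases e with e | e
      · rw [← e, one_mul] at ha2; exact L.zne ha2.symm
      · have h1 := ha2
        rw [show a = L.z from mul_left_cancel (a := L.z) (by rw [L.zz, ← e]), L.zz] at h1
        exact L.zne h1.symm
    · obtain ⟨g, hg⟩ := isConj_iff.1 hcj
      obtain ⟨g, rfl⟩ := L.ρ_surj g
      rw [v0, ← map_inv, ← map_mul, ← map_mul, L.ρ_eq hc] at hg
      have h1 : g * L.q * g⁻¹ * (g * L.q * g⁻¹) = 1 := by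
        rw [show g * L.q * g⁻¹ * (g * L.q * g⁻¹) = g * (L.q * L.q) * g⁻¹ by group, L.qq, mul_one, mul_inv_cancel]
      rcases hg with e | e
      · rw [e, h1] at ha2
        exact L.zne ha2.symm
      · rw [e, show L.z * (g * L.q * g⁻¹) * (L.z * (g * L.q * g⁻¹)) = L.z * (g * L.q * g⁻¹ * L.z) * (g * L.q * g⁻¹) by
          group, hc (g * L.q * g⁻¹), ← mul_assoc L.z L.z, L.zz, one_mul, h1] at ha2
        exact L.zne ha2.symm

/-- The extraspecial subgroup is normal. -/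
theorem Q_normal_all (hO : Cfsg.oddCore G = ⊥) (g : G) {a : G} (ha : a ∈ L.Q) : g * a * g⁻¹ ∈ L.Q := by
  haveI : Fact (Nat.Prime 2) := ⟨Nat.prime_two⟩
  obtain ⟨o, ho, n, hn, e⟩ := (L.split hc hm).main (L.ρ g)
  have h2 : IsPGroup 2 L.Zc := L.S.2.to_le fun x hx => by
    rcases (L.mem_Zc hc).1 hx with rfl | rfl
    exacts [one_mem _, L.z_mem]
  obtain ⟨x, rfl⟩ := L.ρ_surj o
  obtain ⟨o', ho', hox⟩ := core_central L.Zc (inf_le_left : L.Zc ≤ center G) h2 ho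
  rw [hO, mem_bot] at ho'
  rw [ho', inv_one, one_mul] at hox
  rw [show L.ρ x = 1 from (QuotientGroup.eq_one_iff x).2 hox, one_mul] at e
  refine (L.mem_V hc).1 ?_
  rw [map_mul, map_mul, map_inv, e]
  exact (mem_normalizer_iff.1 hn _).1 ⟨a, ha, rfl⟩

end Syl

end Cfsg.Agent.SylJ2
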