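import Mathlib
import Cfsg.Agent.SylJ2.Setup
import Cfsg.Agent.Invol.BaerSuzuki
import Cfsg.Agent.S0111

/-!
Fusion in a group with a Sylow 2-subgroup of Hall-Janko type: transport of elementary subgroups of order 16, the
extraspecial group is closed in the centralizer of `z`, and without index two the fixed class moves.
-/

set_option autoImplicit false
set_option linter.unusedSectionVars false
set_option linter.style.haveILetI false

namespace Cfsg.Agent.SylJ2

open Subgroup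
open scoped Pointwise

/-- The four-step calculation of two transvections. -/
theorem shear {A : Type*} [CommGroup A] (σ : A →* A) (Z : Subgroup A) (hZ : ∀ e ∈ Z, σ e ∈ Z)
    {q u x f : A} (hq : σ q / q ∈ Z) (hf : σ f / f ∈ Z) (hu : σ u / (q * u) ∈ Z)
    (hx : σ x / (q * u * f * x) ∈ Z) (hu2 : u * u = 1) (hf2 : f * f = 1) (hq2 : q * q = 1) :
    (σ.comp σ) x / (q * x) ∈ Z ∧ (σ.comp σ) q / q ∈ Z := by
  let π := QuotientGroup.mk' Z
  have hπ : ∀ a b : A, a / b ∈ Z → π a = π b := fun a b h => (QuotientGroup.eq_iff_div_mem).2 h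
  have hσ : ∀ a b : A, π a = π b → π (σ a) = π (σ b) := fun a b h => by
    refine hπ _ _ ?_
    rw [← map_div]
    exact hZ _ ((QuotientGroup.eq_iff_div_mem).1 h)
  have e1 := hπ _ _ hq
  have e2 := hπ _ _ hf
  have e3 := hπ _ _ hu
  have e4 := hπ _ _ hx
  refine ⟨(QuotientGroup.eq_iff_div_mem).1 ?_, (QuotientGroup.eq_iff_div_mem).1 ?_⟩
  · show π (σ (σ x)) = π (q * x)
    rw [hσ _ _ e4]
    simp only [map_mul, e1, e2, e3, e4]
    have h1 : π u * π u = 1 := by rw [← map_mul, hu2, map_one]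
    have h2 : π f * π f = 1 := by rw [← map_mul, hf2, map_one]
    have h3 : π q * π q = 1 := by rw [← map_mul, hq2, map_one]
    calc π q * (π q * π u) * π f * (π q * π u * π f * π x)
        = (π q * π q) * (π u * π u) * (π f * π f) * (π q * π x) := by
          simp only [mul_comm, mul_left_comm, mul_assoc]
      _ = π q * π x := by rw [h1, h2, h3, one_mul, one_mul, one_mul]
  · show π (σ (σ q)) = π q
    rw [hσ _ _ e1, e1]

namespace Syl

variable {G : Type*} [Group G] [Finite G] (L : Syl G)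
include L

/-- The pair `{q, zq}`. -/
def QC (x : G) : Prop := x = L.q ∨ x = L.z * L.q

theorem QC_of_Z0 {x : G} (h : L.Z0 x) (h1 : x ≠ 1) (hz : x ≠ L.z) : L.QC x := by
  rcases h with h | h | h | h
  exacts [absurd h h1, absurd h hz, Or.inl h, Or.inr h]

theorem QC.Z0 {x : G} (h : L.QC x) : L.Z0 x := h.elim (fun e => Or.inr (Or.inr (Or.inl e))) fun e => Or.inr (Or.inr (Or.inr e))

/-- A conjugation into the Sylow subgroup. -/
theorem conj_into {R : Subgroup G} (hR : IsPGroup 2 R) : ∃ g : G, ∀ r ∈ R, g * r * g⁻¹ ∈ (L.S : Subgroup G) := by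
  haveI : Fact (Nat.Prime 2) := ⟨Nat.prime_two⟩
  obtain ⟨T, hT⟩ := hR.exists_le_sylow
  obtain ⟨g, hg⟩ := MulAction.exists_smul_eq G T L.S
  refine ⟨g, fun r hr => ?_⟩
  rw [← hg]
  exact Subgroup.smul_mem_pointwise_smul r (MulAut.conj g) _ (hT hr)

theorem card_le {R : Subgroup G} (hR : IsPGroup 2 R) :
    ∃ g : G, (∀ r ∈ R, g * r * g⁻¹ ∈ (L.S : Subgroup G)) ∧ Nat.card R ≤ 128 ∧
      (Nat.card R = 128 → ∀ s ∈ (L.S : Subgroup G), ∃ r ∈ R, g * r * g⁻¹ = s) := by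
  obtain ⟨g, hg⟩ := L.conj_into hR
  have hle : R.map (MulAut.conj g).toMonoidHom ≤ (L.S : Subgroup G) := by
    rintro _ ⟨r, hr, rfl⟩
    exact hg r hr
  have hc := Subgroup.card_le_of_le hle
  rw [card_map_of_injective (MulAut.conj g).injective, L.card_S] at hc
  refine ⟨g, hg, hc, fun h128 s hs => ?_⟩
  have he := Subgroup.eq_of_le_of_card_ge hle (by rw [card_map_of_injective (MulAut.conj g).injective, L.card_S, h128])
  rw [← he] at hs
  obtain ⟨r, hr, rfl⟩ := hs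
  exact ⟨r, hr, rfl⟩

theorem two_W : IsPGroup 2 L.W := L.S.2.to_le inf_le_left

theorem two_cS (x : G) : IsPGroup 2 (L.cS x) := L.S.2.to_le inf_le_left

theorem Outer.self {y : G} (h : L.Outer y) : y ∈ L.cS y := L.mem_cS.2 ⟨(L.mem_W.1 h.2.1).1, rfl⟩

theorem Outer.z_mem {y : G} (h : L.Outer y) : L.z ∈ L.cS y :=
  L.mem_cS.2 ⟨L.z_mem, L.z_comm (L.mem_W.1 h.2.1).1⟩

theorem Outer.q_mem {y : G} (h : L.Outer y) : L.q ∈ L.cS y :=
  L.mem_cS.2 ⟨L.q_mem, (L.mem_W.1 h.2.1).2.symm⟩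

theorem Outer.comm {y a b : G} (h : L.Outer y) (ha : a ∈ L.cS y) (hb : b ∈ L.cS y) : a * b = b * a :=
  h.2.2.2.2.2.2 a ha b hb

theorem Outer.Z0_mem {y x : G} (h : L.Outer y) (hx : L.Z0 x) : x ∈ L.cS y := by
  rcases hx with rfl | rfl | rfl | rfl
  exacts [one_mem _, h.z_mem L, h.q_mem L, mul_mem (h.z_mem L) (h.q_mem L)]

theorem not_moved_W {x : G} (hx : x ∈ L.W) (h : x * x = 1) : L.Z0 x ∨ L.Outer x := by
  rcases L.invol (L.mem_W.1 hx).1 h with h1 | h1 | h1
  · exact Or.inl h1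
  · exact absurd hx h1.2.1
  · exact Or.inr h1

/-- An elementary subgroup of order 16 is the centralizer of one of its outer involutions. -/
theorem E16 {R : Subgroup G} (hRS : R ≤ (L.S : Subgroup G)) (hcard : Nat.card R = 16)
    (hel : ∀ b ∈ R, b * b = 1) : ∃ y, L.Outer y ∧ R = L.cS y := by
  have hcomm : ∀ a ∈ R, ∀ b ∈ R, a * b = b * a := fun a ha b hb => by
    have hi : ∀ c ∈ R, c⁻¹ = c := fun c hc => inv_eq_of_mul_eq_one_right (hel c hc)
    rw [← hi _ (mul_mem ha hb), mul_inv_rev, hi a ha, hi b hb]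
  by_cases hQ : R ≤ L.Q
  · exfalso
    have hfew : ∀ c : G, ¬ ∀ b ∈ R, b = 1 ∨ b = L.z ∨ b = c ∨ b = L.z * c := by
      intro c h
      classical
      have h4 : Nat.card R ≤ Nat.card (Fin 4) := Nat.card_le_card_of_injective
        (fun b : R => if b.1 = 1 then (0 : Fin 4) else if b.1 = L.z then 1 else if b.1 = c then 2 else 3) fun a b e => by
          refine Subtype.ext ?_
          rcases h a a.2 with ha | ha | ha | ha <;> rcases h b b.2 with hb | hb | hb | hb <;>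
            simp only [ha, hb] at e ⊢ <;> split_ifs at e <;> simp_all
      rw [hcard, Nat.card_fin] at h4
      omega
    by_cases hc : ∃ c ∈ R, c ≠ 1 ∧ c ≠ L.z
    · obtain ⟨c, hc, hc1, hcz⟩ := hc
      refine hfew c fun b hb => ?_
      rcases L.Q_pair (hQ hc) (hQ hb) (hel c hc) (hel b hb) (hcomm c hc b hb) with h | h | h | h | h | h
      exacts [absurd h hc1, absurd h hcz, Or.inl h, Or.inr (Or.inl h), Or.inr (Or.inr (Or.inl h)),
        Or.inr (Or.inr (Or.inr h))]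
    · push Not at hc
      refine hfew 1 fun b hb => ?_
      by_cases hb1 : b = 1
      · exact Or.inl hb1
      · exact Or.inr (Or.inl (hc b hb hb1))
  · obtain ⟨y, hyR, hyQ⟩ := SetLike.not_le_iff_exists.1 hQ
    rcases L.invol (hRS hyR) (hel y hyR) with h | h | h
    · exact absurd (L.Z0_Q h) hyQ
    · exact absurd h.1 hyQ
    · refine ⟨y, h, Subgroup.eq_of_le_of_card_ge (fun b hb => L.mem_cS.2 ⟨hRS hb, hcomm b hb y hyR⟩) ?_⟩
      rw [hcard, h.2.2.1]

/-- The image of an elementary subgroup of order 16 inside `S`. -/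
theorem E16_map {y g : G} (h : L.Outer y) (hg : ∀ b ∈ L.cS y, g * b * g⁻¹ ∈ (L.S : Subgroup G)) :
    ∃ y', L.Outer y' ∧ (L.cS y).map (MulAut.conj g).toMonoidHom = L.cS y' := by
  refine L.E16 (R := (L.cS y).map (MulAut.conj g).toMonoidHom) ?_ ?_ ?_
  · rintro _ ⟨b, hb, rfl⟩
    exact hg b hb
  · rw [card_map_of_injective (MulAut.conj g).injective, h.2.2.1]
  · rintro _ ⟨b, hb, rfl⟩
    rw [← map_mul, h.2.2.2.2.1 b hb, map_one]

/-- The centralizer of `q` in `S` is weakly closed. -/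
theorem W_weak {g : G} (hg : ∀ w ∈ L.W, g * w * g⁻¹ ∈ (L.S : Subgroup G)) : g ∈ normalizer (L.W : Set G) := by
  obtain ⟨y₀, hy₀⟩ := L.exists_outer
  have hinvol : ∀ b ∈ L.W, b * b = 1 → g * b * g⁻¹ ∈ L.W := by
    intro b hb hb2
    obtain ⟨y, hy, hby⟩ : ∃ y, L.Outer y ∧ b ∈ L.cS y := by
      rcases L.not_moved_W hb hb2 with h | h
      · exact ⟨y₀, hy₀, hy₀.Z0_mem L h⟩
      · exact ⟨b, h, h.self L⟩
    obtain ⟨y', hy', he⟩ := L.E16_map hy fun c hc => hg c (hy.2.2.2.1 hc)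
    exact hy'.2.2.2.1 (he.le ⟨b, hby, rfl⟩)
  refine Invol.mem_normalizer_of_conj_le ?_
  rintro _ ⟨w, hw, rfl⟩
  obtain ⟨b, hb, c, hc, hb2, hc2, rfl⟩ := L.W_gen hw
  show g * (b * c) * g⁻¹ ∈ L.W
  rw [show g * (b * c) * g⁻¹ = g * b * g⁻¹ * (g * c * g⁻¹) by group]
  exact mul_mem (hinvol b hb hb2) (hinvol c hc hc2)

theorem W_le_norm {y : G} (h : L.Outer y) : L.W ≤ normalizer (L.cS y : Set G) := fun w hw =>
  Invol.mem_normalizer_of_conj_le (by
    rintro _ ⟨b, hb, rfl⟩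
    have h1 := L.W_comm hw (h.2.2.2.1 hb)
    show w * b * w⁻¹ ∈ L.cS y
    rw [show w * b * w⁻¹ = w * b * w⁻¹ * b⁻¹ * b by group]
    exact mul_mem (h.Z0_mem L h1) hb)

theorem norm_bound {y : G} (h : L.Outer y) {R : Subgroup G} (hR : IsPGroup 2 R)
    (hle : R ≤ normalizer (L.cS y : Set G)) : Nat.card R ≤ 64 := by
  haveI : Fact (Nat.Prime 2) := ⟨Nat.prime_two⟩
  have hsup : IsPGroup 2 ↥(R ⊔ L.cS y) := Invol.isPGroup_sup_of_le_normalizer hR (L.two_cS y) hle
  obtain ⟨g, hg, hle128, hsurj⟩ := L.card_le hsup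
  refine le_trans (Subgroup.card_le_of_le (le_sup_left : R ≤ R ⊔ L.cS y)) ?_
  obtain ⟨n, hn⟩ := IsPGroup.iff_card.1 hsup
  by_contra hlt
  push Not at hlt
  have h128 : Nat.card ↥(R ⊔ L.cS y) = 128 := by
    rw [hn] at hlt hle128 ⊢
    have h6 : 6 < n := (Nat.pow_lt_pow_iff_right (show 1 < 2 by norm_num)).1 (show 2 ^ 6 < 2 ^ n from hlt)
    have h7 : n ≤ 7 := (Nat.pow_le_pow_iff_right (show 1 < 2 by norm_num)).1 (show 2 ^ n ≤ 2 ^ 7 from hle128)
    rw [show n = 7 by omega]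
    norm_num
  obtain ⟨y', hy', he⟩ := L.E16_map h fun b hb => hg b (mem_sup_right hb)
  obtain ⟨r', hr', hre⟩ := hsurj h128 L.r (L.Q_le L.moved_r.1)
  refine L.swap_outer hy' ?_
  have hy'm : y' ∈ (L.cS y).map (MulAut.conj g).toMonoidHom := he.symm ▸ hy'.self L
  obtain ⟨b, hb, hbe⟩ := hy'm
  refine he.le ⟨r' * b * r'⁻¹, ?_, ?_⟩
  · exact (mem_normalizer_iff.1 ((sup_le hle le_normalizer : R ⊔ L.cS y ≤ _) hr') b).1 hb
  · have hbe' : g * b * g⁻¹ = y' := hbe
    show g * (r' * b * r'⁻¹) * g⁻¹ = L.r * y' * L.r⁻¹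
    rw [← hre, ← hbe']
    group

/-- `W` is a Sylow 2-subgroup of any group in which it has the largest possible order. -/
theorem into_W {K : Subgroup G} (hWK : L.W ≤ K)
    (hb : ∀ R : Subgroup G, R ≤ K → IsPGroup 2 R → Nat.card R ≤ 64) {R : Subgroup G} (hR : IsPGroup 2 R)
    (hRK : R ≤ K) : ∃ k ∈ K, ∀ r ∈ R, k * r * k⁻¹ ∈ L.W := by
  haveI : Fact (Nat.Prime 2) := ⟨Nat.prime_two⟩
  obtain ⟨P, hP⟩ := (L.two_W.comap_subtype (K := K)).exists_le_sylow
  have hPW : (P : Subgroup K).map K.subtype = L.W := by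
    refine (Subgroup.eq_of_le_of_card_ge (fun w hw => Subgroup.mem_map.2 ⟨⟨w, hWK hw⟩, hP (mem_subgroupOf.2 hw), rfl⟩) ?_).symm
    rw [L.card_W]
    exact hb _ (map_subtype_le _) (P.2.map _)
  obtain ⟨P', hP'⟩ := (hR.comap_subtype (K := K)).exists_le_sylow
  obtain ⟨k, hk⟩ := MulAction.exists_smul_eq K P' P
  refine ⟨k, k.2, fun r hr => ?_⟩
  rw [← hPW, ← hk]
  exact ⟨_, Subgroup.smul_mem_pointwise_smul ⟨r, hRK hr⟩ (MulAut.conj k) _ (hP' (mem_subgroupOf.2 hr)), rfl⟩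

theorem W_le_C : L.W ≤ centralizer ({L.z} : Set G) := fun w hw =>
  mem_centralizer_singleton_iff.2 (L.z_comm (L.mem_W.1 hw).1).symm

/-- In the centralizer of `z` the normalizer of an elementary subgroup of order 16 keeps the fixed class. -/
theorem norm_fix {y k : G} (h : L.Outer y) (hk : k ∈ normalizer (L.cS y : Set G)) (hkz : k * L.z = L.z * k) :
    L.QC (k * L.q * k⁻¹) := by
  haveI : Fact (Nat.Prime 2) := ⟨Nat.prime_two⟩
  set u := k * L.q * k⁻¹ with hu
  have hkz' : k * L.z * k⁻¹ = L.z := by rw [hkz, mul_inv_cancel_right]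
  have huB : u ∈ L.cS y := (mem_normalizer_iff.1 hk L.q).1 (h.q_mem L)
  by_contra hQC
  have hu0 : ¬ L.Z0 u := fun h0 => hQC (L.QC_of_Z0 h0
    (fun e => L.qne (by rw [hu, conj_eq_one_iff] at e; exact e))
    (fun e => L.qnz (by
      rw [hu] at e
      exact mul_left_cancel (mul_right_cancel (e.trans hkz'.symm)))))
  obtain ⟨hA, -⟩ := L.transvections h huB
  obtain ⟨a, haW, hau⟩ := hA.resolve_left hu0
  set q' := k⁻¹ * L.q * k with hq'
  have hq'B : q' ∈ L.cS y := by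
    have := (mem_normalizer_iff.1 (inv_mem hk) L.q).1 (h.q_mem L)
    rwa [inv_inv] at this
  obtain ⟨-, a', ha'W, ha'q, x', hx'B, ha'x⟩ := L.transvections h hq'B
  set b := k * a' * k⁻¹ with hb
  set x := k * x' * k⁻¹ with hx
  have hxB : x ∈ L.cS y := (mem_normalizer_iff.1 hk x').1 hx'B
  have haN := L.W_le_norm h haW
  have hbN : b ∈ normalizer (L.cS y : Set G) := mul_mem (mul_mem hk (L.W_le_norm h ha'W)) (inv_mem hk)
  have hbq : b * L.q * b⁻¹ = L.q ∨ b * L.q * b⁻¹ = L.z * L.q := by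
    have e : b * L.q * b⁻¹ = k * (a' * q' * a'⁻¹) * k⁻¹ := by rw [hb, hq']; group
    rcases ha'q with h1 | h1 <;> rw [e, h1]
    · left; rw [hq']; group
    · right; rw [show k * (L.z * q') * k⁻¹ = k * L.z * k⁻¹ * (k * q' * k⁻¹) by group, hkz', hq']; group
  have hbu : b * u * b⁻¹ = u := by
    have e : b * u * b⁻¹ = k * (a' * L.q * a'⁻¹) * k⁻¹ := by rw [hb, hu]; group
    rw [e, (L.mem_W.1 ha'W).2, mul_inv_cancel_right]
  have hbx : b * x * b⁻¹ = u * x ∨ b * x * b⁻¹ = L.z * u * x := by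
    have e : b * x * b⁻¹ = k * (a' * x' * a'⁻¹) * k⁻¹ := by rw [hb, hx]; group
    rcases ha'x with h1 | h1 <;> rw [e, h1]
    · left; rw [hu, hx]; group
    · right; rw [show k * (L.z * L.q * x') * k⁻¹ = k * L.z * k⁻¹ * u * x by rw [hu, hx]; group, hkz']
  set f := a * x * a⁻¹ * x⁻¹ with hf
  have hf0 : L.Z0 f := L.W_comm haW (h.2.2.2.1 hxB)
  have haq : a * L.q * a⁻¹ = L.q := by rw [(L.mem_W.1 haW).2, mul_inv_cancel_right]
  have haz : a * L.z * a⁻¹ = L.z := by rw [← L.z_comm (L.mem_W.1 haW).1, mul_inv_cancel_right]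
  set c := a * b with hc
  have hcN : c ∈ normalizer (L.cS y : Set G) := mul_mem haN hbN
  have hcz : c * L.z = L.z * c := by
    refine (((show Commute a L.z from (L.z_comm (L.mem_W.1 haW).1).symm)).mul_left ?_).eq
    exact ((show Commute k L.z from hkz).mul_left (show Commute a' L.z from (L.z_comm (L.mem_W.1 ha'W).1).symm)).mul_left
      (show Commute k L.z from hkz).inv_left
  -- work in the abelian group
  letI : CommGroup ↥(L.cS y) :=
    { (inferInstance : Group ↥(L.cS y)) with mul_comm := fun s t => Subtype.ext (h.comm L s.2 t.2) }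
  let σ : ↥(L.cS y) →* ↥(L.cS y) :=
    MonoidHom.mk' (fun s => ⟨c * s.1 * c⁻¹, (mem_normalizer_iff.1 hcN s.1).1 s.2⟩)
      fun s t => Subtype.ext (show c * (s.1 * t.1) * c⁻¹ = c * s.1 * c⁻¹ * (c * t.1 * c⁻¹) by group)
  let Z : Subgroup ↥(L.cS y) := zpowers ⟨L.z, h.z_mem L⟩
  have hσz : σ ⟨L.z, h.z_mem L⟩ = ⟨L.z, h.z_mem L⟩ :=
    Subtype.ext (show c * L.z * c⁻¹ = L.z by rw [hcz, mul_inv_cancel_right])
  have hZσ : ∀ e ∈ Z, σ e ∈ Z := by
    rintro e ⟨n, rfl⟩
    rw [map_zpow, hσz]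
    exact ⟨n, rfl⟩
  have hmk : ∀ (s w : ↥(L.cS y)), (s.1 = w.1 ∨ s.1 = L.z * w.1) → s / w ∈ Z := by
    intro s w e
    rcases e with e | e
    · rw [Subtype.ext e, div_self']; exact one_mem Z
    · rw [show s = (⟨L.z, h.z_mem L⟩ : ↥(L.cS y)) * w from Subtype.ext e, mul_div_cancel_right]
      exact mem_zpowers _
  let qB : ↥(L.cS y) := ⟨L.q, h.q_mem L⟩
  let uB : ↥(L.cS y) := ⟨u, huB⟩
  let xB : ↥(L.cS y) := ⟨x, hxB⟩
  let fB : ↥(L.cS y) := ⟨f, h.Z0_mem L hf0⟩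
  have conjmul : ∀ s w : G, a * (s * w) * a⁻¹ = a * s * a⁻¹ * (a * w * a⁻¹) := fun s w => by group
  have hcs : ∀ s : G, c * s * c⁻¹ = a * (b * s * b⁻¹) * a⁻¹ := fun s => by rw [hc]; group
  have hσq : σ qB / qB ∈ Z := hmk _ _ (by
    show c * L.q * c⁻¹ = L.q ∨ c * L.q * c⁻¹ = L.z * L.q
    rw [hcs]
    rcases hbq with e | e <;> rw [e]
    · exact Or.inl haq
    · right; rw [conjmul, haq, haz])
  have hσf : σ fB / fB ∈ Z := hmk _ _ (by
    show c * f * c⁻¹ = f ∨ c * f * c⁻¹ = L.z * f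
    have e : c * L.z * c⁻¹ = L.z := by rw [hcz, mul_inv_cancel_right]
    have eq : c * L.q * c⁻¹ = L.q ∨ c * L.q * c⁻¹ = L.z * L.q := by
      rw [hcs]
      rcases hbq with e' | e' <;> rw [e']
      · exact Or.inl haq
      · right; rw [conjmul, haq, haz]
    rcases hf0 with e0 | e0 | e0 | e0 <;> rw [e0]
    · left; simp
    · exact Or.inl e
    · exact eq
    · rw [show c * (L.z * L.q) * c⁻¹ = c * L.z * c⁻¹ * (c * L.q * c⁻¹) by group, e]
      rcases eq with e' | e' <;> rw [e']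
      · exact Or.inl rfl
      · exact Or.inr rfl)
  have hσu : σ uB / (qB * uB) ∈ Z := hmk _ _ (by
    show c * u * c⁻¹ = L.q * u ∨ c * u * c⁻¹ = L.z * (L.q * u)
    rw [hcs, hbu, ← mul_assoc L.z]
    exact hau)
  have hσx : σ xB / (qB * uB * fB * xB) ∈ Z := hmk _ _ (by
    show c * x * c⁻¹ = L.q * u * f * x ∨ c * x * c⁻¹ = L.z * (L.q * u * f * x)
    have hax : a * x * a⁻¹ = f * x := by rw [hf]; group
    rw [hcs]
    rcases hbx with e | e <;> rw [e] <;> rcases hau with e' | e'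
    · left; rw [conjmul, e', hax]; group
    · right; rw [conjmul, e', hax]; group
    · right; rw [conjmul, conjmul, haz, e', hax]; group
    · left
      rw [conjmul, conjmul, haz, e', hax, show L.z * (L.z * L.q * u) = L.z * L.z * (L.q * u) by group, L.zz, one_mul]
      group)
  have hel : ∀ s : ↥(L.cS y), s * s = 1 := fun s => Subtype.ext (h.2.2.2.2.1 s.1 s.2)
  obtain ⟨hx2, hq2⟩ := shear σ Z hZσ hσq hσf hσu hσx (hel _) (hel _) (hel _)
  -- a 2-power of the product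
  obtain ⟨n, m, hm, hord⟩ := Nat.exists_eq_pow_mul_and_not_dvd (orderOf_pos c).ne' 2 (by decide)
  have hKW : L.W ≤ normalizer (L.cS y : Set G) ⊓ centralizer ({L.z} : Set G) := le_inf (L.W_le_norm h) L.W_le_C
  obtain ⟨j, hj, hjW⟩ := L.into_W hKW (fun R hR hR2 => L.norm_bound h hR2 (hR.trans inf_le_left))
    (R := zpowers (c ^ m)) (by
      intro ⟨s, i, hi⟩
      refine ⟨n, Subtype.ext ?_⟩
      simp only [SubmonoidClass.coe_pow, OneMemClass.coe_one]
      rw [← hi, ← zpow_natCast, ← zpow_mul, mul_comm, zpow_mul, zpow_natCast, ← pow_mul, mul_comm m, ← hord,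
        pow_orderOf_eq_one, one_zpow])
    (zpowers_le.2 (pow_mem (mem_inf.2 ⟨hcN, mem_centralizer_singleton_iff.2 hcz⟩) m))
  have hcent : ∀ s ∈ L.cS y, c ^ m * c ^ m * s * (c ^ m * c ^ m)⁻¹ = s := by
    intro s hs
    have hjs : j * s * j⁻¹ ∈ L.cS y := (mem_normalizer_iff.1 hj.1 s).1 hs
    have hw2 : j * c ^ m * j⁻¹ * (j * c ^ m * j⁻¹) ∈ L.cS y :=
      h.Z0_mem L (L.W_sq (hjW _ (mem_zpowers _)))
    calc c ^ m * c ^ m * s * (c ^ m * c ^ m)⁻¹
        = j⁻¹ * ((j * c ^ m * j⁻¹ * (j * c ^ m * j⁻¹)) * (j * s * j⁻¹) *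
            (j * c ^ m * j⁻¹ * (j * c ^ m * j⁻¹))⁻¹) * j := by group
      _ = s := by rw [h.comm L hw2 hjs, mul_inv_cancel_right]; group
  have hiter : ∀ (i : ℕ) (s : ↥(L.cS y)), (((σ.comp σ)^[i]) s).1 = c ^ (2 * i) * s.1 * (c ^ (2 * i))⁻¹ := by
    intro i
    induction i with
    | zero => simp
    | succ i ih =>
      intro s
      rw [Function.iterate_succ', Function.comp_apply]
      show c * (c * _ * c⁻¹) * c⁻¹ = _
      rw [ih, show 2 * (i + 1) = 2 + 2 * i by ring, pow_add, pow_two]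
      group
  let π := QuotientGroup.mk' Z
  have hτ : ∀ i, π (((σ.comp σ)^[i]) xB) = π qB ^ i * π xB := by
    have hcong : ∀ s w : ↥(L.cS y), π s = π w → π ((σ.comp σ) s) = π ((σ.comp σ) w) := fun s w e => by
      refine (QuotientGroup.eq_iff_div_mem).2 ?_
      rw [← map_div]
      exact hZσ _ (hZσ _ ((QuotientGroup.eq_iff_div_mem).1 e))
    intro i
    induction i with
    | zero => simp
    | succ i ih =>
      have ex : π ((σ.comp σ) xB) = π (qB * xB) := (QuotientGroup.eq_iff_div_mem).2 hx2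
      have eq : π ((σ.comp σ) qB) = π qB := (QuotientGroup.eq_iff_div_mem).2 hq2
      rw [Function.iterate_succ', Function.comp_apply,
        hcong _ (qB ^ i * xB) (by rw [ih, map_mul, map_pow]), map_mul (σ.comp σ), map_mul, map_pow, map_pow, eq, ex,
        map_mul, ← mul_assoc, ← pow_succ]
  have hodd : π qB ^ m * π xB = π xB := by
    rw [← hτ m]
    congr 1
    refine Subtype.ext ?_
    rw [hiter, two_mul, pow_add]
    exact hcent x hxB
  obtain ⟨i, hi⟩ := Nat.odd_iff.2 (Nat.two_dvd_ne_zero.1 hm)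
  rw [mul_eq_right, hi, pow_succ, pow_mul, pow_two, ← map_mul, hel, map_one, one_pow, one_mul,
    QuotientGroup.mk'_apply, QuotientGroup.eq_one_iff] at hodd
  obtain ⟨e, he⟩ := hodd
  have he' : L.z ^ e = L.q := by
    have := congrArg Subtype.val he
    simpa [qB] using this
  rcases Int.even_or_odd e with ⟨d, rfl⟩ | ⟨d, rfl⟩
  · rw [show d + d = 2 * d by ring, zpow_mul, zpow_two, L.zz, one_zpow] at he'
    exact L.qne he'.symm
  · rw [zpow_add_one, zpow_mul, zpow_two, L.zz, one_zpow, one_mul] at he'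
    exact L.qnz he'.symm

theorem norm_W_Z0 {n x : G} (hn : n ∈ normalizer (L.W : Set G)) (hx : L.Z0 x) : L.Z0 (n * x * n⁻¹) := by
  refine L.W_center ((mem_normalizer_iff.1 hn x).1 (L.Z0_W hx)) fun y hy => ?_
  have hy' : n⁻¹ * y * n ∈ L.W := by
    have := (mem_normalizer_iff.1 (inv_mem hn) y).1 hy
    rwa [inv_inv] at this
  have hc : x * (n⁻¹ * y * n) = n⁻¹ * y * n * x := by
    obtain ⟨y₀, hy₀⟩ := L.exists_outer
    rcases hx with rfl | rfl | rfl | rfl
    · simp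
    · exact L.z_comm (L.mem_W.1 hy').1
    · exact (L.mem_W.1 hy').2.symm
    · exact ((show Commute L.z (n⁻¹ * y * n) from L.z_comm (L.mem_W.1 hy').1).mul_left (L.mem_W.1 hy').2.symm).eq
  calc n * x * n⁻¹ * y = n * (x * (n⁻¹ * y * n)) * n⁻¹ := by group
    _ = n * (n⁻¹ * y * n * x) * n⁻¹ := by rw [hc]
    _ = y * (n * x * n⁻¹) := by group

theorem norm_W_fix {n : G} (hn : n ∈ normalizer (L.W : Set G)) (hnz : n * L.z = L.z * n) :
    L.QC (n * L.q * n⁻¹) :=
  L.QC_of_Z0 (L.norm_W_Z0 hn L.Z0_q) (fun e => L.qne (by rwa [conj_eq_one_iff] at e)) fun e => L.qnz (by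
    have h2 : n * L.z * n⁻¹ = L.z := by rw [hnz, mul_inv_cancel_right]
    exact mul_left_cancel (mul_right_cancel (e.trans h2.symm)))

theorem QC_conj {g : G} (hgz : g * L.z = L.z * g) (h : L.QC (g * L.q * g⁻¹)) {x : G} (hx : L.QC x) :
    L.QC (g * x * g⁻¹) ∧ L.QC (g⁻¹ * x * g) := by
  have hz : g * L.z * g⁻¹ = L.z := by rw [hgz, mul_inv_cancel_right]
  have h1 : L.QC (g * (L.z * L.q) * g⁻¹) := by
    rw [show g * (L.z * L.q) * g⁻¹ = g * L.z * g⁻¹ * (g * L.q * g⁻¹) by group, hz]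
    rcases h with e | e <;> rw [e]
    · exact Or.inr rfl
    · left; rw [← mul_assoc, L.zz, one_mul]
  refine ⟨hx.elim (fun e => e ▸ h) (fun e => e ▸ h1), ?_⟩
  have hzi : g⁻¹ * L.z * g = L.z := by rw [mul_assoc, ← hgz, inv_mul_cancel_left]
  rcases h with e | e <;> rcases hx with rfl | rfl
  · left
    calc g⁻¹ * L.q * g = g⁻¹ * (g * L.q * g⁻¹) * g := by rw [e]
      _ = L.q := by group
  · right
    calc g⁻¹ * (L.z * L.q) * g = g⁻¹ * L.z * g * (g⁻¹ * (g * L.q * g⁻¹) * g) := by rw [e]; group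
      _ = L.z * L.q := by rw [hzi]; group
  · right
    calc g⁻¹ * L.q * g = g⁻¹ * (L.z * (g * L.q * g⁻¹)) * g := by rw [e, ← mul_assoc L.z L.z, L.zz, one_mul]
      _ = g⁻¹ * L.z * g * L.q := by group
      _ = L.z * L.q := by rw [hzi]
  · left
    calc g⁻¹ * (L.z * L.q) * g = g⁻¹ * (g * L.q * g⁻¹) * g := by rw [e]
      _ = L.q := by group

/-- Transport of an elementary subgroup of order 16 inside the centralizer of `z`. -/
theorem transport {y y' g : G} (hy : L.Outer y) (hy' : L.Outer y') (hgz : g * L.z = L.z * g)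
    (he : (L.cS y).map (MulAut.conj g).toMonoidHom = L.cS y') : L.QC (g * L.q * g⁻¹) := by
  set K := normalizer (L.cS y' : Set G) ⊓ centralizer ({L.z} : Set G) with hK
  have hR : L.W.map (MulAut.conj g).toMonoidHom ≤ K := by
    rintro _ ⟨w, hw, rfl⟩
    refine ⟨Invol.mem_normalizer_of_conj_le ?_, mem_centralizer_singleton_iff.2 ?_⟩
    · rintro _ ⟨b', hb', rfl⟩
      obtain ⟨b, hb, rfl⟩ := he.ge hb'
      refine he.le ⟨w * b * w⁻¹, (mem_normalizer_iff.1 (L.W_le_norm hy hw) b).1 hb, ?_⟩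
      show g * (w * b * w⁻¹) * g⁻¹ = g * w * g⁻¹ * (g * b * g⁻¹) * (g * w * g⁻¹)⁻¹
      group
    · show g * w * g⁻¹ * L.z = L.z * (g * w * g⁻¹)
      exact (((show Commute g L.z from hgz).mul_left (L.z_comm (L.mem_W.1 hw).1).symm).mul_left
        (show Commute g L.z from hgz).inv_left).eq
  obtain ⟨k, hk, hkW⟩ := L.into_W (K := K) (le_inf (L.W_le_norm hy') L.W_le_C)
    (fun R hR hR2 => L.norm_bound hy' hR2 (hR.trans inf_le_left)) (L.two_W.map _) hR
  have hkz := mem_centralizer_singleton_iff.1 hk.2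
  have hn : k * g ∈ normalizer (L.W : Set G) := L.W_weak fun w hw => by
    rw [show k * g * w * (k * g)⁻¹ = k * (g * w * g⁻¹) * k⁻¹ by group]
    exact (L.mem_W.1 (hkW _ ⟨w, hw, rfl⟩)).1
  have h1 := L.norm_W_fix hn ((show Commute k L.z from hkz).mul_left hgz).eq
  have h2 := (L.QC_conj hkz (L.norm_fix hy' hk.1 hkz) h1).2
  rwa [show k⁻¹ * (k * g * L.q * (k * g)⁻¹) * k = g * L.q * g⁻¹ by group] at h2

theorem cent_q_bound {R : Subgroup G} (hR : IsPGroup 2 R)
    (hle : R ≤ centralizer ({L.z} : Set G) ⊓ centralizer ({L.q} : Set G)) : Nat.card R ≤ 64 := by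
  haveI : Fact (Nat.Prime 2) := ⟨Nat.prime_two⟩
  obtain ⟨n, hn⟩ := IsPGroup.iff_card.1 hR
  by_contra hlt
  push Not at hlt
  have hzq : IsPGroup 2 ↥(L.cS L.r ⊓ L.cS L.r) := L.S.2.to_le (inf_le_left.trans inf_le_left)
  set R' := R ⊔ zpowers L.z ⊔ zpowers L.q with hR'
  have hz2 : IsPGroup 2 ↥(zpowers L.z) := L.S.2.to_le (zpowers_le.2 L.z_mem)
  have hq2 : IsPGroup 2 ↥(zpowers L.q) := L.S.2.to_le (zpowers_le.2 L.q_mem)
  have hnz : R ≤ normalizer (zpowers L.z : Set G) := fun r hr => Invol.mem_normalizer_of_conj_le (by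
    rintro _ ⟨s, ⟨i, rfl⟩, rfl⟩
    refine ⟨i, ?_⟩
    show L.z ^ i = r * L.z ^ i * r⁻¹
    rw [← conj_zpow, mem_centralizer_singleton_iff.1 (hle hr).1, mul_inv_cancel_right])
  have h1 : IsPGroup 2 ↥(R ⊔ zpowers L.z) := Invol.isPGroup_sup_of_le_normalizer hR hz2 hnz
  have hRzq : ∀ r ∈ R ⊔ zpowers L.z, r * L.q = L.q * r := by
    have : R ⊔ zpowers L.z ≤ centralizer ({L.q} : Set G) := sup_le (hle.trans inf_le_right)
      (zpowers_le.2 (mem_centralizer_singleton_iff.2 (L.z_comm L.q_mem)))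
    exact fun r hr => mem_centralizer_singleton_iff.1 (this hr)
  have h2 : IsPGroup 2 ↥R' := Invol.isPGroup_sup_of_le_normalizer h1 hq2 fun r hr =>
    Invol.mem_normalizer_of_conj_le (by
      rintro _ ⟨s, ⟨i, rfl⟩, rfl⟩
      refine ⟨i, ?_⟩
      show L.q ^ i = r * L.q ^ i * r⁻¹
      rw [← conj_zpow, hRzq r hr, mul_inv_cancel_right])
  obtain ⟨g, hg, hle128, hsurj⟩ := L.card_le h2
  have h128 : Nat.card R' = 128 := by
    obtain ⟨i, hi⟩ := IsPGroup.iff_card.1 h2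
    have hge : 64 < Nat.card R' := hlt.trans_le (Subgroup.card_le_of_le (le_sup_left.trans le_sup_left))
    rw [hi] at hge hle128 ⊢
    have h6 : 6 < i := (Nat.pow_lt_pow_iff_right (show 1 < 2 by norm_num)).1 (show 2 ^ 6 < 2 ^ i from hge)
    have h7 : i ≤ 7 := (Nat.pow_le_pow_iff_right (show 1 < 2 by norm_num)).1 (show 2 ^ i ≤ 2 ^ 7 from hle128)
    rw [show i = 7 by omega]
    norm_num
  have hcent : ∀ w : G, (∀ r ∈ R', r * w = w * r) → w ∈ R' → w ≠ 1 → g * w * g⁻¹ = L.z := by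
    intro w hw hwm hw1
    refine (L.central (hg w hwm) fun s hs => ?_).resolve_left fun e => hw1 (by rwa [conj_eq_one_iff] at e)
    obtain ⟨r, hr, rfl⟩ := hsurj h128 s hs
    calc g * w * g⁻¹ * (g * r * g⁻¹) = g * (w * r) * g⁻¹ := by group
      _ = g * (r * w) * g⁻¹ := by rw [hw r hr]
      _ = g * r * g⁻¹ * (g * w * g⁻¹) := by group
  have hall : ∀ w : G, (∀ r ∈ R, r * w = w * r) → L.z * w = w * L.z → L.q * w = w * L.q →
      ∀ r ∈ R', r * w = w * r := fun w h1 h2 h3 r hr => mem_centralizer_singleton_iff.1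
    ((sup_le (sup_le (fun s hs => mem_centralizer_singleton_iff.2 (h1 s hs))
      (zpowers_le.2 (mem_centralizer_singleton_iff.2 h2))) (zpowers_le.2 (mem_centralizer_singleton_iff.2 h3)) :
        R' ≤ centralizer ({w} : Set G)) hr)
  have ez := hcent L.z (hall _ (fun r hr => mem_centralizer_singleton_iff.1 (hle hr).1) rfl (L.z_comm L.q_mem).symm)
    (mem_sup_left (mem_sup_right (mem_zpowers _))) L.zne
  have eq := hcent L.q (hall _ (fun r hr => mem_centralizer_singleton_iff.1 (hle hr).2) (L.z_comm L.q_mem) rfl)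
    (mem_sup_right (mem_zpowers _)) L.qne
  exact L.qnz (mul_left_cancel (mul_right_cancel (eq.trans ez.symm)))

theorem W_le_cent : L.W ≤ centralizer ({L.z} : Set G) ⊓ centralizer ({L.q} : Set G) :=
  le_inf L.W_le_C inf_le_right

/-- A 2-subgroup of the centralizer of `z` moves into `S` inside that centralizer. -/
theorem into_S {R : Subgroup G} (hR : IsPGroup 2 R) (hRz : R ≤ centralizer ({L.z} : Set G)) :
    ∃ h : G, h * L.z = L.z * h ∧ ∀ r ∈ R, h * r * h⁻¹ ∈ (L.S : Subgroup G) := by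
  haveI : Fact (Nat.Prime 2) := ⟨Nat.prime_two⟩
  have hSC : (L.S : Subgroup G) ≤ centralizer ({L.z} : Set G) := fun s hs =>
    mem_centralizer_singleton_iff.2 (L.z_comm hs).symm
  obtain ⟨T, hT⟩ := (hR.comap_subtype (K := centralizer ({L.z} : Set G))).exists_le_sylow
  obtain ⟨h, hh⟩ := MulAction.exists_smul_eq (centralizer ({L.z} : Set G)) T (L.S.subtype hSC)
  refine ⟨h, mem_centralizer_singleton_iff.1 h.2, fun r hr => ?_⟩
  have h2 : h * ⟨r, hRz hr⟩ * h⁻¹ ∈ ((L.S.subtype hSC : Sylow 2 _) : Subgroup _) := by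
    rw [← hh]
    exact Subgroup.smul_mem_pointwise_smul _ (MulAut.conj h) _ (hT (mem_subgroupOf.2 hr))
  exact mem_subgroupOf.1 h2

/-- The extraspecial subgroup is strongly closed in the centralizer of `z`. -/
theorem closed {x g : G} (hx : x ∈ L.Q) (hg : g * L.z = L.z * g) (hgx : g * x * g⁻¹ ∈ (L.S : Subgroup G)) :
    g * x * g⁻¹ ∈ L.Q := by
  haveI : Fact (Nat.Prime 2) := ⟨Nat.prime_two⟩
  have hgz : g * L.z * g⁻¹ = L.z := by rw [hg, mul_inv_cancel_right]
  rcases L.Q_sq hx with h2 | h2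
  swap
  · exact L.root hgx (by rw [show g * x * g⁻¹ * (g * x * g⁻¹) = g * (x * x) * g⁻¹ by group, h2, hgz])
  rcases eq_or_ne x 1 with rfl | hx1
  · simp
  rcases eq_or_ne x L.z with rfl | hxz
  · rw [hgz]; exact L.Z0_Q L.Z0_z
  set y := g * x * g⁻¹ with hy
  have hyz : y * L.z = L.z * y := by
    exact (((show Commute g L.z from hg).mul_left
      (show Commute x L.z from (L.z_comm (L.Q_le hx)).symm)).mul_left (show Commute g L.z from hg).inv_left).eq
  by_contra hyQ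
  have hyO : L.Outer y := by
    rcases L.invol hgx (by rw [hy, show g * x * g⁻¹ * (g * x * g⁻¹) = g * (x * x) * g⁻¹ by group, h2, mul_one,
      mul_inv_cancel]) with h | h | h
    · exact absurd (L.Z0_Q h) hyQ
    · exact absurd h.1 hyQ
    · exact h
  -- never conjugate to the fixed class
  have hnoq : ∀ j : G, j * L.z = L.z * j → ¬ L.QC (j * y * j⁻¹) := by
    intro j hj hQC
    have hR : (L.cS y).map (MulAut.conj j).toMonoidHom ≤ centralizer ({L.z} : Set G) ⊓ centralizer ({L.q} : Set G) := by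
      rintro _ ⟨b, hb, rfl⟩
      have hbz : (j * b * j⁻¹) * L.z = L.z * (j * b * j⁻¹) :=
        (((show Commute j L.z from hj).mul_left (L.z_comm (L.mem_cS.1 hb).1).symm).mul_left
          (show Commute j L.z from hj).inv_left).eq
      refine ⟨mem_centralizer_singleton_iff.2 hbz, mem_centralizer_singleton_iff.2 ?_⟩
      show j * b * j⁻¹ * L.q = L.q * (j * b * j⁻¹)
      have hby : j * b * j⁻¹ * (j * y * j⁻¹) = j * y * j⁻¹ * (j * b * j⁻¹) := by
        rw [show j * b * j⁻¹ * (j * y * j⁻¹) = j * (b * y) * j⁻¹ by group, (L.mem_cS.1 hb).2]; group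
      rcases hQC with e | e <;> rw [e] at hby
      · exact hby
      · refine mul_left_cancel (a := L.z) ?_
        calc L.z * (j * b * j⁻¹ * L.q) = j * b * j⁻¹ * L.z * L.q := by rw [hbz]; group
          _ = j * b * j⁻¹ * (L.z * L.q) := by group
          _ = L.z * L.q * (j * b * j⁻¹) := hby
          _ = L.z * (L.q * (j * b * j⁻¹)) := by group
    obtain ⟨k, hk, hkW⟩ := L.into_W L.W_le_cent (fun R hR hR2 => L.cent_q_bound hR2 hR) ((L.two_cS y).map _) hR
    have hkz := mem_centralizer_singleton_iff.1 hk.1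
    have hkq : k * L.q * k⁻¹ = L.q := by rw [mem_centralizer_singleton_iff.1 hk.2, mul_inv_cancel_right]
    obtain ⟨y', hy', he⟩ := L.E16_map (g := k * j) hyO fun b hb => by
      rw [show k * j * b * (k * j)⁻¹ = k * (j * b * j⁻¹) * k⁻¹ by group]
      exact (L.mem_W.1 (hkW _ ⟨b, hb, rfl⟩)).1
    have hT := L.transport hyO hy' ((show Commute k L.z from hkz).mul_left hj).eq he
    have hy2 : L.QC (k * j * y * (k * j)⁻¹) := by
      rw [show k * j * y * (k * j)⁻¹ = k * (j * y * j⁻¹) * k⁻¹ by group]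
      exact (L.QC_conj hkz (Or.inl hkq) hQC).1
    have h3 := (L.QC_conj ((show Commute k L.z from hkz).mul_left hj).eq hT hy2).2
    rw [show (k * j)⁻¹ * (k * j * y * (k * j)⁻¹) * (k * j) = y by group] at h3
    exact hyQ (L.Z0_Q (h3.Z0 L))
  rcases L.invol (L.Q_le hx) h2 with h | hM | h
  · refine hnoq g⁻¹ (show Commute g L.z from hg).inv_left.eq ?_
    rw [hy, show g⁻¹ * (g * x * g⁻¹) * g⁻¹⁻¹ = x by group]
    exact L.QC_of_Z0 h hx1 hxz
  swap
  · exact h.1 hx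
  -- a Sylow 2-subgroup of the centralizer of `y` is abelian
  set Cy := centralizer ({L.z} : Set G) ⊓ centralizer ({y} : Set G) with hCy
  have hBC : L.cS y ≤ Cy := fun b hb => ⟨mem_centralizer_singleton_iff.2 (L.z_comm (L.mem_cS.1 hb).1).symm,
    mem_centralizer_singleton_iff.2 (L.mem_cS.1 hb).2⟩
  obtain ⟨P, hP⟩ := ((L.two_cS y).comap_subtype (K := Cy)).exists_le_sylow
  have hBP : L.cS y ≤ (P : Subgroup Cy).map Cy.subtype := fun b hb => ⟨⟨b, hBC hb⟩, hP (mem_subgroupOf.2 hb), rfl⟩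
  obtain ⟨h, hhz, hh⟩ := L.into_S (P.2.map Cy.subtype) ((map_subtype_le _).trans inf_le_left)
  have hPB : L.cS y = (P : Subgroup Cy).map Cy.subtype := by
    refine Subgroup.eq_of_le_of_card_ge hBP ?_
    have hle : ((P : Subgroup Cy).map Cy.subtype).map (MulAut.conj h).toMonoidHom ≤ L.cS (h * y * h⁻¹) := by
      rintro _ ⟨r, hr, rfl⟩
      refine L.mem_cS.2 ⟨hh r hr, ?_⟩
      show h * r * h⁻¹ * (h * y * h⁻¹) = h * y * h⁻¹ * (h * r * h⁻¹)
      rw [show h * r * h⁻¹ * (h * y * h⁻¹) = h * (r * y) * h⁻¹ by group,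
        mem_centralizer_singleton_iff.1 ((map_subtype_le _ hr : r ∈ Cy)).2]
      group
    have hc := Subgroup.card_le_of_le hle
    rw [card_map_of_injective (MulAut.conj h).injective] at hc
    have hy2 : h * y * h⁻¹ * (h * y * h⁻¹) = 1 := by
      rw [show h * y * h⁻¹ * (h * y * h⁻¹) = h * (y * y) * h⁻¹ by group, hyO.2.2.2.2.1 y (hyO.self L), mul_one,
        mul_inv_cancel]
    rcases L.invol (hh y (hBP (hyO.self L))) hy2 with h0 | h0 | h0
    · exfalso
      refine hnoq h hhz (L.QC_of_Z0 h0 (fun e => ?_) fun e => ?_)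
      · rw [conj_eq_one_iff, hy, conj_eq_one_iff] at e
        exact hx1 e
      · have e' : h * y * h⁻¹ = h * L.z * h⁻¹ := e.trans (by rw [hhz, mul_inv_cancel_right])
        exact hyQ (mul_left_cancel (mul_right_cancel e') ▸ L.Z0_Q L.Z0_z)
    · rw [hyO.2.2.1]; exact hc.trans h0.2.2.1.le
    · rw [hyO.2.2.1]; exact hc.trans h0.2.2.1.le
  obtain ⟨a, ha, -, b, hb, hab⟩ := hM.2.2.2.2
  have hD : (L.cS x).map (MulAut.conj g).toMonoidHom ≤ Cy := by
    rintro _ ⟨r, hr, rfl⟩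
    refine ⟨mem_centralizer_singleton_iff.2 ?_, mem_centralizer_singleton_iff.2 ?_⟩
    · exact (((show Commute g L.z from hg).mul_left (L.z_comm (L.mem_cS.1 hr).1).symm).mul_left
        (show Commute g L.z from hg).inv_left).eq
    · show g * r * g⁻¹ * y = y * (g * r * g⁻¹)
      rw [hy, show g * r * g⁻¹ * (g * x * g⁻¹) = g * (r * x) * g⁻¹ by group, (L.mem_cS.1 hr).2]
      group
  obtain ⟨P', hP'⟩ := (((L.two_cS x).map (MulAut.conj g).toMonoidHom).comap_subtype (K := Cy)).exists_le_sylow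
  obtain ⟨c, hc⟩ := MulAction.exists_smul_eq Cy P' P
  have hin : ∀ r ∈ L.cS x, (c : G) * (g * r * g⁻¹) * (c : G)⁻¹ ∈ L.cS y := fun r hr => by
    have hm : g * r * g⁻¹ ∈ Cy := hD ⟨r, hr, rfl⟩
    rw [hPB, ← hc]
    exact ⟨_, Subgroup.smul_mem_pointwise_smul (⟨_, hm⟩ : Cy) (MulAut.conj c) _
      (hP' (mem_subgroupOf.2 ⟨r, hr, rfl⟩)), rfl⟩
  refine hab ?_
  have e := hyO.comm L (hin a ha) (hin b hb)
  rw [show (c : G) * (g * a * g⁻¹) * (c : G)⁻¹ * ((c : G) * (g * b * g⁻¹) * (c : G)⁻¹) =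
    (c : G) * g * (a * b) * ((c : G) * g)⁻¹ by group,
    show (c : G) * (g * b * g⁻¹) * (c : G)⁻¹ * ((c : G) * (g * a * g⁻¹) * (c : G)⁻¹) =
    (c : G) * g * (b * a) * ((c : G) * g)⁻¹ by group] at e
  exact mul_left_cancel (mul_right_cancel e)

/-- Without a subgroup of index two the fixed class is moved in the centralizer of `z`. -/
theorem moves (h2 : ∀ H : Subgroup G, H.Normal → H.index ≠ 2) :
    ∃ g : G, g * L.z = L.z * g ∧ g * L.q * g⁻¹ ∈ (L.S : Subgroup G) ∧ ¬ L.QC (g * L.q * g⁻¹) := by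
  haveI : Fact (Nat.Prime 2) := ⟨Nat.prime_two⟩
  by_contra hno
  push Not at hno
  have hr1 : L.r ≠ 1 := fun e => L.moved_r.2.1 (e ▸ one_mem _)
  have hrS : L.r ∈ (L.S : Subgroup G) := L.Q_le L.moved_r.1
  -- no conjugate of `r` in the centralizer of `z` is in `W`
  have hCW : ∀ c : G, c * L.z = L.z * c → c * L.r * c⁻¹ ∈ (L.S : Subgroup G) →
      ¬ L.Z0 (c * L.r * c⁻¹) := by
    intro c hc hS h0
    have hcz : c * L.z * c⁻¹ = L.z := by rw [hc, mul_inv_cancel_right]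
    have hQC := L.QC_of_Z0 h0 (fun e => hr1 (by rwa [conj_eq_one_iff] at e)) fun e => L.moved_r.2.1 (by
      rw [mul_left_cancel (mul_right_cancel (e.trans hcz.symm))]
      exact L.Z0_W L.Z0_z)
    have hzr : L.z * L.r ∉ L.W := fun h' => L.moved_r.2.1 (by
      have := mul_mem (L.Z0_W L.Z0_z) h'
      rwa [← mul_assoc, L.zz, one_mul] at this)
    have hc' := (show Commute c L.z from hc).inv_left.eq
    rcases hQC with e | e
    · have e2 : c⁻¹ * L.q * c⁻¹⁻¹ = L.r := by rw [← e]; group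
      exact L.moved_r.2.1 (L.Z0_W ((e2 ▸ hno _ hc' (by rw [e2]; exact hrS)).Z0 L))
    · have e2 : c⁻¹ * L.q * c⁻¹⁻¹ = L.z * L.r := by
        have h3 : L.q = L.z * (c * L.r * c⁻¹) := by rw [e, ← mul_assoc, L.zz, one_mul]
        rw [h3, inv_inv, show c⁻¹ * (L.z * (c * L.r * c⁻¹)) * c = c⁻¹ * L.z * c * L.r by group,
          show c⁻¹ * L.z * c = L.z by rw [mul_assoc, ← hc, inv_mul_cancel_left]]
      exact hzr (L.Z0_W ((e2 ▸ hno _ hc' (by rw [e2]; exact mul_mem L.z_mem hrS)).Z0 L))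
  have hWi : L.W.relIndex (L.S : Subgroup G) = 2 := by
    have h := L.W.subgroupOf (L.S : Subgroup G) |>.card_mul_index
    rw [Nat.card_congr (subgroupOfEquivOfLe (show L.W ≤ (L.S : Subgroup G) from inf_le_left)).toEquiv, L.card_W,
      L.card_S] at h
    show (L.W.subgroupOf (L.S : Subgroup G)).index = 2
    omega
  have hro : orderOf L.r = 2 := orderOf_eq_prime (by rw [pow_two, L.r_sq]) hr1
  rcases Cfsg.Agent.S0111.result L.S L.W inf_le_left hWi L.r hro hrS L.moved_r.2.1 with ⟨M, hM, hMi, -⟩ | ⟨g, hg⟩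
  · exact h2 M hM hMi
  set w := g * L.r * g⁻¹ with hw
  -- a Sylow 2-subgroup of the centralizer of `w`, moved into `S`
  obtain ⟨P, hP⟩ := ((L.two_cS w).comap_subtype (K := centralizer ({w} : Set G))).exists_le_sylow
  have hcw : ∀ b ∈ L.cS w, b ∈ centralizer ({w} : Set G) := fun b hb =>
    mem_centralizer_singleton_iff.2 (L.mem_cS.1 hb).2
  obtain ⟨h, hh⟩ := L.conj_into (P.2.map (centralizer ({w} : Set G)).subtype)
  have hwcS : w ∈ L.cS w := L.mem_cS.2 ⟨(L.mem_W.1 hg).1, rfl⟩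
  set w' := h * w * h⁻¹ with hw'
  have hw'S : w' ∈ (L.S : Subgroup G) :=
    hh w ⟨⟨w, hcw w hwcS⟩, hP (mem_subgroupOf.2 hwcS), rfl⟩
  have hmax : ∀ R : Subgroup G, IsPGroup 2 R → (∀ r ∈ R, r * w = w * r) →
      ∃ c : G, c * w = w * c ∧ ∀ r ∈ R, h * (c * r * c⁻¹) * h⁻¹ ∈ L.cS w' := by
    intro R hR hRw
    obtain ⟨P', hP'⟩ := (hR.comap_subtype (K := centralizer ({w} : Set G))).exists_le_sylow
    obtain ⟨c, hc⟩ := MulAction.exists_smul_eq (centralizer ({w} : Set G)) P' P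
    refine ⟨c, mem_centralizer_singleton_iff.1 c.2, fun r hr => ?_⟩
    have hmem : (c : G) * r * (c : G)⁻¹ ∈ (P : Subgroup _).map (centralizer ({w} : Set G)).subtype := by
      rw [← hc]
      exact ⟨_, Subgroup.smul_mem_pointwise_smul (⟨r, mem_centralizer_singleton_iff.2 (hRw r hr)⟩ :
        centralizer ({w} : Set G)) (MulAut.conj c) _ (hP' (mem_subgroupOf.2 hr)), rfl⟩
    refine L.mem_cS.2 ⟨hh _ hmem, ?_⟩
    rw [hw', show h * ((c : G) * r * (c : G)⁻¹) * h⁻¹ * (h * w * h⁻¹) = h * ((c : G) * r * (c : G)⁻¹ * w) * h⁻¹ by group,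
      mem_centralizer_singleton_iff.1 (map_subtype_le _ hmem)]
    group
  -- the centralizer of `r`
  obtain ⟨c, hcw', hc⟩ := hmax ((L.cS L.r).map (MulAut.conj g).toMonoidHom) ((L.two_cS L.r).map _) (by
    rintro _ ⟨r, hr, rfl⟩
    show g * r * g⁻¹ * w = w * (g * r * g⁻¹)
    rw [hw, show g * r * g⁻¹ * (g * L.r * g⁻¹) = g * (r * L.r) * g⁻¹ by group, (L.mem_cS.1 hr).2]
    group)
  obtain ⟨a, ha, haz, b, hb, hab⟩ := L.moved_r.2.2.2.2
  set j := h * c * g with hj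
  have hjD : ∀ r ∈ L.cS L.r, j * r * j⁻¹ ∈ L.cS w' := fun r hr => by
    rw [hj, show h * c * g * r * (h * c * g)⁻¹ = h * (c * (g * r * g⁻¹) * c⁻¹) * h⁻¹ by group]
    exact hc _ ⟨r, hr, rfl⟩
  have hjr : j * L.r * j⁻¹ = w' := by
    rw [hj, show h * c * g * L.r * (h * c * g)⁻¹ = h * (c * (g * L.r * g⁻¹) * c⁻¹) * h⁻¹ by group, ← hw, hcw',
      mul_inv_cancel_right]
  have hz' : L.Z0 (j * L.z * j⁻¹) := by
    rw [← haz, show j * (a * a) * j⁻¹ = j * a * j⁻¹ * (j * a * j⁻¹) by group]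
    refine L.sq_invol (L.mem_cS.1 (hjD a ha)).1 ?_
    rw [show j * a * j⁻¹ * (j * a * j⁻¹) * (j * a * j⁻¹ * (j * a * j⁻¹)) = j * (a * a * (a * a)) * j⁻¹ by group,
      haz, L.zz, mul_one, mul_inv_cancel]
  have hMoved : L.Moved w' := by
    have hw'2 : w' * w' = 1 := by
      rw [← hjr, show j * L.r * j⁻¹ * (j * L.r * j⁻¹) = j * (L.r * L.r) * j⁻¹ by group, L.r_sq, mul_one,
        mul_inv_cancel]
    by_cases hjz : j * L.z = L.z * j
    · have hQ : w' ∈ L.Q := hjr ▸ L.closed L.moved_r.1 hjz (by rw [hjr]; exact hw'S)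
      rcases L.invol hw'S hw'2 with h0 | h0 | h0
      · exact absurd (hjr.symm ▸ h0 : L.Z0 (j * L.r * j⁻¹)) (hCW j hjz (by rw [hjr]; exact hw'S))
      · exact h0
      · exact absurd hQ h0.1
    · exfalso
      have hQC := L.QC_of_Z0 hz' (fun e => L.zne (by rwa [conj_eq_one_iff] at e))
        fun e => hjz (mul_inv_eq_iff_eq_mul.1 e)
      have hWc : L.W.map (MulAut.conj j⁻¹).toMonoidHom ≤ centralizer ({L.z} : Set G) := by
        rintro _ ⟨v, hv, rfl⟩
        refine mem_centralizer_singleton_iff.2 ?_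
        show j⁻¹ * v * j⁻¹⁻¹ * L.z = L.z * (j⁻¹ * v * j⁻¹⁻¹)
        have hv' : v * (j * L.z * j⁻¹) = j * L.z * j⁻¹ * v := by
          rcases hQC with e | e <;> rw [e]
          · exact (L.mem_W.1 hv).2
          · exact ((show Commute v L.z from (L.z_comm (L.mem_W.1 hv).1).symm).mul_right (L.mem_W.1 hv).2).eq
        calc j⁻¹ * v * j⁻¹⁻¹ * L.z = j⁻¹ * (v * (j * L.z * j⁻¹)) * j := by group
          _ = j⁻¹ * (j * L.z * j⁻¹ * v) * j := by rw [hv']
          _ = L.z * (j⁻¹ * v * j⁻¹⁻¹) := by group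
      obtain ⟨c', hc'z, hc'⟩ := L.into_S (L.two_W.map _) hWc
      have hn : c' * j⁻¹ ∈ normalizer (L.W : Set G) := L.W_weak fun v hv => by
        rw [show c' * j⁻¹ * v * (c' * j⁻¹)⁻¹ = c' * (j⁻¹ * v * j⁻¹⁻¹) * c'⁻¹ by group]
        exact hc' _ ⟨v, hv, rfl⟩
      have hw'W : w' ∈ L.W := by
        refine L.mem_W.2 ⟨hw'S, ?_⟩
        have h3 : w' * (j * L.z * j⁻¹) = j * L.z * j⁻¹ * w' := by
          rw [← hjr, show j * L.r * j⁻¹ * (j * L.z * j⁻¹) = j * (L.r * L.z) * j⁻¹ by group, ← L.z_comm hrS]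
          group
        rcases hQC with e | e <;> rw [e] at h3
        · exact h3
        · refine mul_left_cancel (a := L.z) ?_
          calc L.z * (w' * L.q) = w' * L.z * L.q := by rw [← mul_assoc, L.z_comm hw'S]
            _ = w' * (L.z * L.q) := by group
            _ = L.z * L.q * w' := h3
            _ = L.z * (L.q * w') := by group
      have hW2 : c' * L.r * c'⁻¹ ∈ L.W := by
        have h4 := (mem_normalizer_iff.1 hn w').1 hw'W
        rwa [← hjr, show c' * j⁻¹ * (j * L.r * j⁻¹) * (c' * j⁻¹)⁻¹ = c' * L.r * c'⁻¹ by group] at h4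
      have hQ2 := L.closed L.moved_r.1 hc'z (L.mem_W.1 hW2).1
      have hsq : c' * L.r * c'⁻¹ * (c' * L.r * c'⁻¹) = 1 := by
        rw [show c' * L.r * c'⁻¹ * (c' * L.r * c'⁻¹) = c' * (L.r * L.r) * c'⁻¹ by group, L.r_sq, mul_one,
          mul_inv_cancel]
      rcases L.not_moved_W hW2 hsq with h0 | h0
      · exact hCW c' hc'z (L.mem_W.1 hW2).1 h0
      · exact h0.1 hQ2
  -- but `w` lies in `W`
  obtain ⟨c₁, hc₁, hc1⟩ := hmax (L.cS w) (L.two_cS w) fun r hr => (L.mem_cS.1 hr).2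
  have hinj : (L.cS w).map (MulAut.conj (h * c₁)).toMonoidHom ≤ L.cS w' := by
    rintro _ ⟨r, hr, rfl⟩
    show h * c₁ * r * (h * c₁)⁻¹ ∈ L.cS w'
    rw [show h * c₁ * r * (h * c₁)⁻¹ = h * (c₁ * r * c₁⁻¹) * h⁻¹ by group]
    exact hc1 r hr
  have hcard := Subgroup.card_le_of_le hinj
  rw [card_map_of_injective (MulAut.conj (h * c₁)).injective, hMoved.2.2.1] at hcard
  have hw2 : w * w = 1 := by
    rw [hw, show g * L.r * g⁻¹ * (g * L.r * g⁻¹) = g * (L.r * L.r) * g⁻¹ by group, L.r_sq, mul_one, mul_inv_cancel]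
  rcases L.not_moved_W hg hw2 with h0 | h0
  · have hle : L.W ≤ L.cS w := fun v hv => by
      refine L.mem_cS.2 ⟨(L.mem_W.1 hv).1, ?_⟩
      rcases h0 with e | e | e | e <;> rw [e]
      · simp
      · exact (L.z_comm (L.mem_W.1 hv).1).symm
      · exact (L.mem_W.1 hv).2
      · exact ((show Commute v L.z from (L.z_comm (L.mem_W.1 hv).1).symm).mul_right (L.mem_W.1 hv).2).eq
    have := Subgroup.card_le_of_le hle
    rw [L.card_W] at this
    omega
  · have heq := Subgroup.eq_of_le_of_card_ge hinj (by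
      rw [card_map_of_injective (MulAut.conj (h * c₁)).injective, hMoved.2.2.1, h0.2.2.1])
    obtain ⟨a', ha', -, b', hb', hab'⟩ := hMoved.2.2.2.2
    rw [← heq] at ha' hb'
    obtain ⟨a₀, ha₀, rfl⟩ := ha'
    obtain ⟨b₀, hb₀, rfl⟩ := hb'
    refine hab' ?_
    rw [← map_mul, ← map_mul, h0.comm L ha₀ hb₀]

end Syl

end Cfsg.Agent.SylJ2
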