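import Cfsg.Agent.SylJ2.Facts
import Cfsg.Agent.SylJ2.Fusion
import Cfsg.Agent.SylJ2.Generic

/-!
The centralizer of `z` and of the fixed class: modulo the core the extraspecial subgroup is normal in it.
-/

set_option autoImplicit false
set_option linter.unusedSectionVars false
set_option linter.style.haveILetI false

namespace Cfsg.Agent.SylJ2

open Subgroup
open scoped Pointwise

/-- A Sylow subgroup inside a subgroup receives every 2-subgroup of it. -/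
theorem into_sylow {G : Type*} [Group G] [Finite G] (P : Sylow 2 G) {K : Subgroup G} (hPK : (P : Subgroup G) ≤ K)
    {R : Subgroup G} (hR : IsPGroup 2 R) (hRK : R ≤ K) : ∃ k ∈ K, ∀ r ∈ R, k * r * k⁻¹ ∈ (P : Subgroup G) := by
  haveI : Fact (Nat.Prime 2) := ⟨Nat.prime_two⟩
  obtain ⟨P', hP'⟩ := (hR.comap_subtype (K := K)).exists_le_sylow
  obtain ⟨k, hk⟩ := MulAction.exists_smul_eq K P' (P.subtype hPK)
  refine ⟨k, k.2, fun r hr => ?_⟩
  have hm : k * ⟨r, hRK hr⟩ * k⁻¹ ∈ ((P.subtype hPK : Sylow 2 K) : Subgroup K) := by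
    rw [← hk]
    exact Subgroup.smul_mem_pointwise_smul _ (MulAut.conj k) _ (hP' (mem_subgroupOf.2 hr))
  exact mem_subgroupOf.1 hm

namespace Syl

variable {G : Type*} [Group G] [Finite G] (L : Syl G)

/-- The four group `⟨z, q⟩`. -/
def Z0g : Subgroup G := L.W ⊓ centralizer (L.W : Set G)

theorem mem_Z0g {x : G} : x ∈ L.Z0g ↔ L.Z0 x := by
  constructor
  · intro h
    exact L.W_center h.1 fun y hy => (mem_centralizer_iff.1 h.2 y hy).symm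
  · intro h
    refine ⟨L.Z0_W h, mem_centralizer_iff.2 fun w hw => ?_⟩
    have hw' := L.mem_W.1 hw
    rcases h with rfl | rfl | rfl | rfl
    · simp
    · exact (L.z_comm hw'.1).symm
    · exact hw'.2
    · exact ((show Commute w L.z from (L.z_comm hw'.1).symm).mul_right hw'.2).eq

/-- The centralizer of `z` and `q`. -/
def CQ : Subgroup G := centralizer ({L.z} : Set G) ⊓ centralizer ({L.q} : Set G)

theorem mem_CQ {x : G} : x ∈ L.CQ ↔ x * L.z = L.z * x ∧ x * L.q = L.q * x := by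
  rw [CQ, mem_inf, mem_centralizer_singleton_iff, mem_centralizer_singleton_iff]

theorem W_CQ : L.W ≤ L.CQ := L.W_le_cent

theorem Z0_CQ_comm {x g : G} (hx : L.Z0 x) (hg : g ∈ L.CQ) : g * x = x * g := by
  obtain ⟨h1, h2⟩ := L.mem_CQ.1 hg
  rcases hx with rfl | rfl | rfl | rfl
  exacts [by simp, h1, h2, ((show Commute g L.z from h1).mul_right h2).eq]

/-- The four group inside the centralizer. -/
def Zq : Subgroup ↥L.CQ := L.Z0g.subgroupOf L.CQ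

theorem Zq_center : L.Zq ≤ center ↥L.CQ := fun x hx =>
  mem_center_iff.2 fun g => Subtype.ext (L.Z0_CQ_comm (L.mem_Z0g.1 (mem_subgroupOf.1 hx)) g.2)

instance : L.Zq.Normal :=
  ⟨fun x hx g => by rwa [mem_center_iff.1 (L.Zq_center hx) g, mul_inv_cancel_right]⟩

/-- The quotient by the four group. -/
def π : ↥L.CQ →* ↥L.CQ ⧸ L.Zq := QuotientGroup.mk' L.Zq

theorem π_surj : Function.Surjective L.π := QuotientGroup.mk'_surjective _

theorem π_eq {a b : ↥L.CQ} : L.π a = L.π b ↔ L.Z0 ((a : G)⁻¹ * b) := by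
  rw [π, QuotientGroup.mk'_apply, QuotientGroup.mk'_apply, QuotientGroup.eq, Zq, mem_subgroupOf, mem_Z0g]
  rfl

theorem π_one {a : ↥L.CQ} : L.π a = 1 ↔ L.Z0 (a : G) := by
  rw [π, QuotientGroup.mk'_apply, QuotientGroup.eq_one_iff, Zq, mem_subgroupOf, mem_Z0g]

/-- The image of a subgroup. -/
def im (K : Subgroup G) : Subgroup (↥L.CQ ⧸ L.Zq) := (K.subgroupOf L.CQ).map L.π

theorem mem_im {K : Subgroup G} (hK : L.Z0g ≤ K) {x : ↥L.CQ} : L.π x ∈ L.im K ↔ (x : G) ∈ K := by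
  refine ⟨fun ⟨y, hy, e⟩ => ?_, fun h => ⟨x, h, rfl⟩⟩
  have h0 := hK (L.mem_Z0g.2 (L.π_eq.1 e))
  have := mul_mem (mem_subgroupOf.1 hy) h0
  rwa [mul_inv_cancel_left] at this

theorem Z0g_le_cS {y : G} (hy : L.Outer y) : L.Z0g ≤ L.cS y := fun _ hx => hy.Z0_mem L (L.mem_Z0g.1 hx)

theorem card_Zq : Nat.card L.Zq = 4 := by
  have hz : L.z ∈ L.CQ := L.W_CQ (L.Z0_W L.Z0_z)
  have hq : L.q ∈ L.CQ := L.W_CQ (L.Z0_W L.Z0_q)
  let f : Fin 4 → L.Zq := ![1, ⟨⟨L.z, hz⟩, mem_subgroupOf.2 (L.mem_Z0g.2 L.Z0_z)⟩,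
    ⟨⟨L.q, hq⟩, mem_subgroupOf.2 (L.mem_Z0g.2 L.Z0_q)⟩,
    ⟨⟨L.z * L.q, mul_mem hz hq⟩, mem_subgroupOf.2 (L.mem_Z0g.2 (Or.inr (Or.inr (Or.inr rfl))))⟩]
  have h1 : L.z * L.q ≠ 1 := fun e => L.qnz (by
    rw [← mul_left_cancel_iff (a := L.z), L.zz, e])
  refine (Nat.card_congr (Equiv.ofBijective f ⟨?_, ?_⟩)).symm.trans (Nat.card_fin 4)
  · intro i j e
    have e' : ((f i : ↥L.CQ) : G) = ((f j : ↥L.CQ) : G) := by rw [e]
    fin_cases i <;> fin_cases j <;> simp [f, L.zne, L.qne, L.qnz, L.zne.symm, L.qne.symm, L.qnz.symm, h1, h1.symm]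
      at e' ⊢
  · rintro ⟨⟨x, hx⟩, hx0⟩
    rcases L.mem_Z0g.1 (mem_subgroupOf.1 hx0) with h | h | h | h
    exacts [⟨0, Subtype.ext (Subtype.ext h.symm)⟩, ⟨1, Subtype.ext (Subtype.ext h.symm)⟩,
      ⟨2, Subtype.ext (Subtype.ext h.symm)⟩, ⟨3, Subtype.ext (Subtype.ext h.symm)⟩]

theorem card_im {K : Subgroup G} (hK : L.Z0g ≤ K) (hKC : K ≤ L.CQ) : 4 * Nat.card (L.im K) = Nat.card K := by
  have h1 := Subgroup.relIndex_mul_relIndex (⊥ : Subgroup ↥L.CQ) L.Zq (K.subgroupOf L.CQ) bot_le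
    fun x hx => mem_subgroupOf.2 (hK (mem_subgroupOf.1 hx))
  rw [relIndex_bot_left, relIndex_bot_left, L.card_Zq,
    Nat.card_congr (subgroupOfEquivOfLe hKC).toEquiv] at h1
  have h2 := Subgroup.relIndex_comap (⊥ : Subgroup (↥L.CQ ⧸ L.Zq)) L.π (K.subgroupOf L.CQ)
  rw [MonoidHom.comap_bot, relIndex_bot_left, π, QuotientGroup.ker_mk'] at h2
  rw [← h1, h2]
  rfl

theorem CQ_bound {R : Subgroup G} (hR : R ≤ L.CQ) (h2 : IsPGroup 2 R) : Nat.card R ≤ 64 := L.cent_q_bound h2 hR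

/-- The image of `W` as a Sylow subgroup. -/
theorem exists_sylow : ∃ A : Sylow 2 (↥L.CQ ⧸ L.Zq), (A : Subgroup _) = L.im L.W := by
  haveI : Fact (Nat.Prime 2) := ⟨Nat.prime_two⟩
  obtain ⟨P, hP⟩ := (L.two_W.comap_subtype (K := L.CQ)).exists_le_sylow
  have he : L.W.subgroupOf L.CQ = P := by
    refine Subgroup.eq_of_le_of_card_ge hP ?_
    rw [Nat.card_congr (subgroupOfEquivOfLe L.W_CQ).toEquiv, L.card_W,
      ← card_map_of_injective L.CQ.subtype_injective]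
    exact L.CQ_bound (map_subtype_le _) (P.2.map _)
  refine ⟨P.mapSurjective L.π_surj, ?_⟩
  rw [Sylow.coe_mapSurjective, im, he]

theorem r_q : L.r * L.q * L.r⁻¹ = L.z * L.q := by
  have e : mulN (mulN 8 15) 8 = 31 := by decide +kernel
  rw [L.r_inv, r, q, z, L.mul 8 (by norm_num) 15 (by norm_num), L.mul _ (L.lt (by norm_num) (by norm_num)) 8
    (by norm_num), e, L.mul 16 (by norm_num) 15 (by norm_num), points.2.2.1]

/-- The pair of elementary subgroups. -/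
def Pair (y : G) : Prop := y = L.y1 ∨ y = L.y2

theorem Pair.outer {y : G} (h : L.Pair y) : L.Outer y := by
  rcases h with rfl | rfl
  exacts [L.outer_y1, L.outer_y2]

/-- The other member of the pair. -/
theorem Pair.other {y : G} (h : L.Pair y) : L.Pair (L.r * y * L.r⁻¹) := by
  rcases h with rfl | rfl
  · exact Or.inr L.y2_eq.symm
  · refine Or.inl ?_
    rw [L.y2_eq, L.r_inv, show L.r * (L.r * L.y1 * L.r) * L.r = L.r * L.r * L.y1 * (L.r * L.r) by group, L.r_sq,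
      one_mul, mul_one]

theorem cS_r {y b : G} (hb : b ∈ L.cS y) : L.r * b * L.r⁻¹ ∈ L.cS (L.r * y * L.r⁻¹) := by
  have hr : L.r ∈ (L.S : Subgroup G) := L.Q_le L.moved_r.1
  refine L.mem_cS.2 ⟨mul_mem (mul_mem hr (L.mem_cS.1 hb).1) (inv_mem hr), ?_⟩
  rw [show L.r * b * L.r⁻¹ * (L.r * y * L.r⁻¹) = L.r * (b * y) * L.r⁻¹ by group, (L.mem_cS.1 hb).2]
  group

theorem Pair.inter {y c : G} (h : L.Pair y) (h1 : c ∈ L.cS y) (h2 : c ∈ L.cS (L.r * y * L.r⁻¹)) : L.Z0 c := by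
  rcases h with rfl | rfl
  · exact L.E16_inter h1 (L.y2_eq ▸ h2)
  · refine L.E16_inter ?_ h1
    rwa [L.y2_eq, L.r_inv, show L.r * (L.r * L.y1 * L.r) * L.r = L.r * L.r * L.y1 * (L.r * L.r) by group, L.r_sq,
      one_mul, mul_one] at h2

/-- The partner of an element lies with it in the extraspecial subgroup. -/
theorem partner {y b : G} (h : L.Outer y) (hb : b ∈ L.cS y) : L.r * b * L.r⁻¹ * b ∈ L.Q := by
  have hb2 := h.2.2.2.2.1 b hb
  rw [show L.r * b * L.r⁻¹ * b = L.r * (b * L.r⁻¹ * b⁻¹) * (b * b) by group, hb2, mul_one]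
  exact mul_mem L.moved_r.1 (L.Q_normal (L.mem_cS.1 hb).1 (inv_mem L.moved_r.1))

theorem partner_unique {y b u : G} (h : L.Pair y) (hb : b ∈ L.cS y) (hu : u ∈ L.cS (L.r * y * L.r⁻¹))
    (hQ : u * b ∈ L.Q) : L.Z0 ((L.r * b * L.r⁻¹)⁻¹ * u) := by
  have ho := (h.other L).outer L
  refine ho.2.2.2.2.2.1 _ (mul_mem (inv_mem (L.cS_r hb)) hu) ?_
  have hm := L.Q_normal (L.mem_cS.1 hb).1 (mul_mem (inv_mem (L.partner (h.outer L) hb)) hQ)
  rwa [show b * ((L.r * b * L.r⁻¹ * b)⁻¹ * (u * b)) * b⁻¹ = (L.r * b * L.r⁻¹)⁻¹ * u by group] at hm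

/-- An element normalizing `W` permutes the pair. -/
theorem perm_pair {g y : G} (hg : g ∈ normalizer (L.W : Set G)) (h : L.Pair y) :
    ∃ y', L.Pair y' ∧ (L.cS y).map (MulAut.conj g).toMonoidHom = L.cS y' := by
  obtain ⟨b, hb, he⟩ := L.E16_map (g := g) (h.outer L) fun c hc =>
    (L.mem_W.1 ((mem_normalizer_iff.1 hg c).1 ((h.outer L).2.2.2.1 hc))).1
  rcases L.two_E16 hb with e | e
  · exact ⟨_, Or.inl rfl, he.trans e⟩
  · exact ⟨_, Or.inr rfl, he.trans e⟩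

theorem pair_ne {y : G} (h : L.Pair y) : L.cS y ≠ L.cS (L.r * y * L.r⁻¹) := fun e =>
  L.swap_outer (h.outer L) (e ▸ ((h.other L).outer L).self L)

theorem cS_two (y y' : G) (h : L.Pair y) (h' : L.Pair y') : L.cS y' = L.cS y ∨ L.cS y' = L.cS (L.r * y * L.r⁻¹) := by
  rcases h with rfl | rfl <;> rcases h' with rfl | rfl
  · exact Or.inl rfl
  · exact Or.inr (by rw [← L.y2_eq])
  · refine Or.inr ?_
    rw [L.y2_eq, L.r_inv, show L.r * (L.r * L.y1 * L.r) * L.r = L.r * L.r * L.y1 * (L.r * L.r) by group, L.r_sq,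
      one_mul, mul_one]
  · exact Or.inl rfl

/-- The image of the partner is the partner of the image. -/
theorem partner_map {g y b : G} (hgz : g * L.z = L.z * g) (hg : g ∈ normalizer (L.W : Set G)) (h : L.Pair y)
    (hb : b ∈ L.cS y) :
    L.Z0 ((L.r * (g * b * g⁻¹) * L.r⁻¹)⁻¹ * (g * (L.r * b * L.r⁻¹) * g⁻¹)) := by
  obtain ⟨y', h', e'⟩ := L.perm_pair hg h
  obtain ⟨y'', h'', e''⟩ := L.perm_pair hg (h.other L)
  have hb' : g * b * g⁻¹ ∈ L.cS y' := e'.le ⟨b, hb, rfl⟩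
  have hu : g * (L.r * b * L.r⁻¹) * g⁻¹ ∈ L.cS y'' := e''.le ⟨_, L.cS_r hb, rfl⟩
  have he : L.cS y'' = L.cS (L.r * y' * L.r⁻¹) := (L.cS_two y' y'' h' h'').resolve_left fun e =>
    L.pair_ne h (Subgroup.map_injective (MulAut.conj g).injective (e'.trans (e.symm.trans e''.symm)))
  refine L.partner_unique h' hb' (he ▸ hu) ?_
  rw [show g * (L.r * b * L.r⁻¹) * g⁻¹ * (g * b * g⁻¹) = g * (L.r * b * L.r⁻¹ * b) * g⁻¹ by group]
  refine L.closed (L.partner (h.outer L) hb) hgz ?_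
  exact (L.mem_W.1 ((mem_normalizer_iff.1 hg _).1
    (mul_mem (((h.other L).outer L).2.2.2.1 (L.cS_r hb)) ((h.outer L).2.2.2.1 hb)))).1

theorem Z0_r {x : G} (h : L.Z0 x) : L.Z0 (L.r * x * L.r⁻¹) := by
  have hr : L.r ∈ (L.S : Subgroup G) := L.Q_le L.moved_r.1
  have hz : L.r * L.z * L.r⁻¹ = L.z := by rw [← L.z_comm hr, mul_inv_cancel_right]
  rcases h with rfl | rfl | rfl | rfl
  · exact Or.inl (by group)
  · exact Or.inr (Or.inl hz)
  · exact Or.inr (Or.inr (Or.inr L.r_q))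
  · refine Or.inr (Or.inr (Or.inl ?_))
    rw [show L.r * (L.z * L.q) * L.r⁻¹ = L.r * L.z * L.r⁻¹ * (L.r * L.q * L.r⁻¹) by group, hz, L.r_q, ← mul_assoc,
      L.zz, one_mul]

theorem r_r (c : G) : L.r * (L.r * c * L.r⁻¹) * L.r⁻¹ = c := by
  rw [L.r_inv, show L.r * (L.r * c * L.r) * L.r = L.r * L.r * c * (L.r * L.r) by group, L.r_sq, one_mul, mul_one]

theorem lift_norm {g : ↥L.CQ} (hg : L.π g ∈ normalizer (L.im L.W : Set (↥L.CQ ⧸ L.Zq))) :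
    (g : G) ∈ normalizer (L.W : Set G) := Invol.mem_normalizer_of_conj_le (by
  rintro _ ⟨w, hw, rfl⟩
  have h := (mem_normalizer_iff.1 hg _).1 ((L.mem_im inf_le_left (x := ⟨w, L.W_CQ hw⟩)).2 hw)
  rw [← map_mul, ← map_inv, ← map_mul] at h
  exact (L.mem_im inf_le_left).1 h)

/-- An element of odd order modulo the four group fixes both members of the pair. -/
theorem odd_fix {g : ↥L.CQ} (hg : L.π g ∈ normalizer (L.im L.W : Set (↥L.CQ ⧸ L.Zq)))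
    (hodd : Odd (orderOf (L.π g))) {y : G} (h : L.Pair y) :
    (L.cS y).map (MulAut.conj (g : G)).toMonoidHom = L.cS y := by
  let cj : G → Subgroup G → Subgroup G := fun a K => K.map (MulAut.conj a).toMonoidHom
  have cj_mul : ∀ a b : G, ∀ K, cj (a * b) K = cj a (cj b K) := fun a b K => by
    simp only [cj, Subgroup.map_map]
    congr 1
    ext x
    simp [mul_assoc]
  have hgW := L.lift_norm hg
  obtain ⟨y', h', e'⟩ := L.perm_pair hgW h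
  obtain ⟨y'', h'', e''⟩ := L.perm_pair hgW (h.other L)
  refine e'.trans ((L.cS_two y y' h h').resolve_right fun hne => ?_)
  have e1 : cj g (L.cS y) = L.cS (L.r * y * L.r⁻¹) := e'.trans hne
  have e2 : cj g (L.cS (L.r * y * L.r⁻¹)) = L.cS y := e''.trans ((L.cS_two y y'' h h'').resolve_right fun e =>
    L.pair_ne h (Subgroup.map_injective (MulAut.conj (g : G)).injective (e1.trans (e.symm.trans e''.symm))))
  have heven : ∀ i : ℕ, cj ((g : G) ^ (2 * i)) (L.cS y) = L.cS y := by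
    intro i
    induction i with
    | zero =>
      ext x
      simp [cj]
    | succ i ih =>
      rw [show (g : G) ^ (2 * (i + 1)) = g * (g * g ^ (2 * i)) by
        rw [show 2 * (i + 1) = 2 * i + 1 + 1 by ring, pow_succ', pow_succ']]
      rw [cj_mul, cj_mul, ih, e1, e2]
  obtain ⟨i, hi⟩ := hodd
  have h0 : L.Z0 (((g : G)) ^ (2 * i + 1)) := by
    have := (L.π_one (a := g ^ (2 * i + 1))).1 (by rw [map_pow, ← hi, pow_orderOf_eq_one])
    simpa using this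
  have e3 : cj ((g : G) ^ (2 * i + 1)) (L.cS y) = L.cS (L.r * y * L.r⁻¹) := by
    rw [pow_succ', cj_mul, heven, e1]
  exact L.pair_ne h ((mem_normalizer_iff_map_conj_eq.1 (L.W_le_norm (h.outer L) (L.Z0_W h0))).symm.trans e3)

theorem four_cases {H : Type*} [Group H] [Finite H] {K : Subgroup H} (hK : Nat.card K = 4) {b c x : H} (hb : b ∈ K)
    (hc : c ∈ K) (hx : x ∈ K) (hb1 : b ≠ 1) (hc1 : c ≠ 1) (hbc : c ≠ b) (hb2 : b * b = 1) :
    x = 1 ∨ x = b ∨ x = c ∨ x = b * c := by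
  let f : Fin 4 → K := ![1, ⟨b, hb⟩, ⟨c, hc⟩, ⟨b * c, mul_mem hb hc⟩]
  have h3 : b * c ≠ 1 := fun e => hbc (mul_left_cancel (e.trans hb2.symm))
  have h4 : b * c ≠ b := fun e => hc1 (mul_eq_left.1 e)
  have h5 : b * c ≠ c := fun e => hb1 (mul_eq_right.1 e)
  have hf : Function.Injective f := fun i j e => by
    have e' : (f i : H) = f j := congrArg Subtype.val e
    fin_cases i <;> fin_cases j <;>
      simp [f, hb1, hb1.symm, hc1, hc1.symm, hbc, hbc.symm, h3, h3.symm, h4, h4.symm, h5, h5.symm] at e' ⊢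
  obtain ⟨i, hi⟩ := ((Nat.bijective_iff_injective_and_card f).2 ⟨hf, by rw [Nat.card_fin, hK]⟩).2 ⟨x, hx⟩
  have hi' : (f i : H) = x := congrArg Subtype.val hi
  fin_cases i <;> simp [f] at hi' <;> simp [← hi']

/-- An element of odd order fixing a nontrivial element of the elementary group of order 16 centralizes it. -/
theorem semiregular {g : ↥L.CQ} (hg : L.π g ∈ normalizer (L.im L.W : Set (↥L.CQ ⧸ L.Zq)))
    (hodd : Odd (orderOf (L.π g))) {x : ↥L.CQ} (hx : (x : G) ∈ L.W) (hx0 : ¬ L.Z0 (x : G))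
    (hgx : L.π g * L.π x = L.π x * L.π g) {w : ↥L.CQ} (hw : (w : G) ∈ L.W) :
    L.π g * L.π w = L.π w * L.π g := by
  let Fix : ↥L.CQ → Prop := fun c => L.π (g * c * g⁻¹) = L.π c
  have hfix : ∀ c, Fix c ↔ L.π g * L.π c = L.π c * L.π g := fun c => by
    simp only [Fix, map_mul, map_inv]
    exact mul_inv_eq_iff_eq_mul
  have hin : ∀ {y}, L.Pair y → ∀ c ∈ L.cS y, c ∈ L.CQ := fun h c hc => L.W_CQ ((h.outer L).2.2.2.1 hc)
  -- one nontrivial fixed element in a member fixes both members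
  have key : ∀ {y}, L.Pair y → ∀ b : ↥L.CQ, (b : G) ∈ L.cS y → ¬ L.Z0 (b : G) → Fix b →
      ∀ c : ↥L.CQ, ((c : G) ∈ L.cS y ∨ (c : G) ∈ L.cS (L.r * y * L.r⁻¹)) → Fix c := by
    intro y h b hb hb0 hbf
    have hy := h.outer L
    have hone : ∀ c : ↥L.CQ, (c : G) ∈ L.cS y → Fix c := by
      intro c hc
      have hcard : Nat.card (L.im (L.cS y)) = 4 := by
        have := L.card_im (L.Z0g_le_cS hy) fun d hd => hin h d hd
        rw [hy.2.2.1] at this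
        omega
      have hm : ∀ {d : ↥L.CQ}, (d : G) ∈ L.cS y → L.π d ∈ L.im (L.cS y) := fun hd => (L.mem_im (L.Z0g_le_cS hy)).2 hd
      by_cases hc1 : L.π c = 1
      · show L.π (g * c * g⁻¹) = L.π c
        rw [map_mul, map_mul, hc1, mul_one, map_inv, mul_inv_cancel]
      by_cases hcb : L.π c = L.π b
      · show L.π (g * c * g⁻¹) = L.π c
        rw [map_mul, map_mul, hcb, ← map_mul, ← map_mul]
        exact hbf
      have hgc : (g : G) * c * (g : G)⁻¹ ∈ L.cS y := (L.odd_fix hg hodd h).le ⟨_, hc, rfl⟩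
      have hb1 : L.π b ≠ 1 := fun e => hb0 (L.π_one.1 e)
      have hb2 : L.π b * L.π b = 1 := by
        rw [← map_mul, show b * b = 1 from Subtype.ext (hy.2.2.2.2.1 _ hb), map_one]
      have hbf' : L.π g * L.π b * (L.π g)⁻¹ = L.π b := mul_inv_eq_iff_eq_mul.2 ((hfix b).1 hbf)
      show L.π (g * c * g⁻¹) = L.π c
      rw [map_mul, map_mul, map_inv]
      rcases four_cases hcard (hm hb) (hm hc) (show L.π g * L.π c * (L.π g)⁻¹ ∈ _ by
          rw [← map_inv, ← map_mul, ← map_mul]; exact hm hgc) hb1 hc1 hcb hb2 with e | e | e | e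
      · exact absurd ((conj_eq_one_iff).1 e) hc1
      · exact absurd (mul_left_cancel (mul_right_cancel (e.trans hbf'.symm))) hcb
      · exact e
      · exact fix_of_odd hodd hb2 ((hfix b).1 hbf) e
    intro c hc
    rcases hc with hc | hc
    · exact hone c hc
    · have hc' : L.r * (c : G) * L.r⁻¹ ∈ L.cS y := by
        have := L.cS_r hc
        rwa [L.r_r] at this
      have hcC := hin h _ hc'
      have e1 := L.π_eq.1 (hone ⟨_, hcC⟩ hc')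
      have e2 := L.partner_map (L.mem_CQ.1 g.2).1 (L.lift_norm hg) h hc'
      rw [L.r_r] at e2
      have e3 := L.Z0_r e1
      refine L.π_eq.2 ?_
      show L.Z0 (((g : G) * c * (g : G)⁻¹)⁻¹ * c)
      simp only [Subgroup.coe_mul, Subgroup.coe_inv] at e3
      rw [show L.r * (((g : G) * (L.r * c * L.r⁻¹) * (g : G)⁻¹)⁻¹ * (L.r * c * L.r⁻¹)) * L.r⁻¹ =
        (L.r * ((g : G) * (L.r * c * L.r⁻¹) * (g : G)⁻¹) * L.r⁻¹)⁻¹ * (L.r * (L.r * c * L.r⁻¹) * L.r⁻¹) by group,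
        L.r_r] at e3
      have e4 := L.mem_Z0g.1 (mul_mem (inv_mem (L.mem_Z0g.2 e2)) (L.mem_Z0g.2 e3))
      rwa [show ((L.r * ((g : G) * (L.r * c * L.r⁻¹) * (g : G)⁻¹) * L.r⁻¹)⁻¹ * ((g : G) * c * (g : G)⁻¹))⁻¹ *
        ((L.r * ((g : G) * (L.r * c * L.r⁻¹) * (g : G)⁻¹) * L.r⁻¹)⁻¹ * c) = ((g : G) * c * (g : G)⁻¹)⁻¹ * c by group]
        at e4
  obtain ⟨b, hb, c, hc, hbc⟩ := L.W_split hx
  have hb' := hin (Or.inl rfl) b hb
  have hc' := hin (Or.inr rfl) c hc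
  have e1 : L.π (g * ⟨b, hb'⟩ * g⁻¹) * L.π (g * ⟨c, hc'⟩ * g⁻¹) = L.π ⟨b, hb'⟩ * L.π ⟨c, hc'⟩ := by
    rw [← map_mul, ← map_mul, show g * ⟨b, hb'⟩ * g⁻¹ * (g * ⟨c, hc'⟩ * g⁻¹) = g * (⟨b, hb'⟩ * ⟨c, hc'⟩) * g⁻¹ by group,
      show (⟨b, hb'⟩ * ⟨c, hc'⟩ : ↥L.CQ) = x from Subtype.ext hbc.symm]
    exact (hfix x).2 hgx
  have hbf : Fix ⟨b, hb'⟩ := by
    have hm1 : L.π ((⟨b, hb'⟩ : ↥L.CQ)⁻¹ * (g * ⟨b, hb'⟩ * g⁻¹)) = L.π (⟨c, hc'⟩ * (g * ⟨c, hc'⟩ * g⁻¹)⁻¹) := by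
      rw [map_mul L.π (⟨b, hb'⟩ : ↥L.CQ)⁻¹, map_inv, map_mul L.π (⟨c, hc'⟩ : ↥L.CQ), map_inv]
      exact inv_mul_eq_iff_eq_mul.2 (by rw [← mul_assoc, ← e1, mul_inv_cancel_right])
    have hgb : (g : G) * b * (g : G)⁻¹ ∈ L.cS L.y1 := (L.odd_fix hg hodd (Or.inl rfl)).le ⟨_, hb, rfl⟩
    have hgc : (g : G) * c * (g : G)⁻¹ ∈ L.cS L.y2 := (L.odd_fix hg hodd (Or.inr rfl)).le ⟨_, hc, rfl⟩
    set u : ↥L.CQ := (⟨b, hb'⟩ : ↥L.CQ)⁻¹ * (g * ⟨b, hb'⟩ * g⁻¹) with hu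
    have hu1 : (u : G) ∈ L.cS L.y1 := mul_mem (inv_mem hb) hgb
    have hu2 : (u : G) ∈ L.cS L.y2 := by
      refine (L.mem_im (L.Z0g_le_cS L.outer_y2)).1 ?_
      rw [hm1]
      exact (L.mem_im (L.Z0g_le_cS L.outer_y2)).2 (mul_mem hc (inv_mem hgc))
    have h1 := L.π_one.2 (L.E16_inter hu1 hu2)
    rw [hu, map_mul, map_inv] at h1
    exact (inv_mul_eq_one.1 h1).symm
  have hcf : Fix ⟨c, hc'⟩ := by
    have hbf' : L.π (g * ⟨b, hb'⟩ * g⁻¹) = L.π ⟨b, hb'⟩ := hbf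
    rw [hbf'] at e1
    exact mul_left_cancel e1
  obtain ⟨b₁, hb₁, c₁, hc₁, hw₁⟩ := L.W_split hw
  have hall : Fix ⟨b₁, hin (Or.inl rfl) b₁ hb₁⟩ ∧ Fix ⟨c₁, hin (Or.inr rfl) c₁ hc₁⟩ := by
    by_cases hb0 : L.Z0 b
    · have hc0 : ¬ L.Z0 c := fun hc0 => hx0 (hbc ▸ L.mem_Z0g.1 (mul_mem (L.mem_Z0g.2 hb0) (L.mem_Z0g.2 hc0)))
      refine ⟨key (Or.inr rfl) ⟨c, hc'⟩ hc hc0 hcf _ (Or.inr ?_), key (Or.inr rfl) ⟨c, hc'⟩ hc hc0 hcf _ (Or.inl hc₁)⟩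
      show b₁ ∈ L.cS (L.r * L.y2 * L.r⁻¹)
      rwa [L.y2_eq, L.r_r]
    · exact ⟨key (Or.inl rfl) ⟨b, hb'⟩ hb hb0 hbf _ (Or.inl hb₁),
        key (Or.inl rfl) ⟨b, hb'⟩ hb hb0 hbf _ (Or.inr (L.y2_eq ▸ hc₁))⟩
  rw [show w = ⟨b₁, hin (Or.inl rfl) b₁ hb₁⟩ * ⟨c₁, hin (Or.inr rfl) c₁ hc₁⟩ from Subtype.ext hw₁, map_mul,
    ← mul_assoc, (hfix _).1 hall.1, mul_assoc, (hfix _).1 hall.2, mul_assoc]

theorem S_W {s : G} (hs : s ∈ (L.S : Subgroup G)) (hsW : s ∉ L.W) : s * L.r⁻¹ ∈ L.W := by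
  obtain ⟨a, ha, rfl⟩ := (L.range s).1 hs
  rw [L.r_inv, r, L.mul a ha 8 (by norm_num), L.W_code (L.lt ha (by norm_num))]
  have h := all_spec (all_spec fixed_sign ha) (a := 8) (by norm_num)
  rw [beq_iff_eq] at h
  rw [h, points.2.2.2.2.2.1]
  have h1 : cm 15 a = false := by
    rw [← Bool.not_eq_true]
    exact fun e => hsW ((L.W_code ha).2 e)
  rw [h1]
  rfl

theorem r_norm : L.r ∈ normalizer (L.CQ : Set G) := Invol.mem_normalizer_of_conj_le (by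
  rintro _ ⟨c, hc, rfl⟩
  obtain ⟨h1, h2⟩ := L.mem_CQ.1 hc
  have hr : L.r ∈ (L.S : Subgroup G) := L.Q_le L.moved_r.1
  refine L.mem_CQ.2 ⟨(((show Commute L.r L.z from (L.z_comm hr).symm).mul_left h1).mul_left
    (show Commute L.r L.z from (L.z_comm hr).symm).inv_left).eq, ?_⟩
  have e : L.r⁻¹ * L.q * L.r = L.z * L.q := by
    have := L.r_q
    rw [L.r_inv] at this ⊢
    exact this
  have h3 : c * (L.z * L.q) = L.z * L.q * c := ((show Commute c L.z from h1).mul_right h2).eq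
  show L.r * c * L.r⁻¹ * L.q = L.q * (L.r * c * L.r⁻¹)
  calc L.r * c * L.r⁻¹ * L.q = L.r * (c * (L.r⁻¹ * L.q * L.r)) * L.r⁻¹ := by group
    _ = L.r * ((L.r⁻¹ * L.q * L.r) * c) * L.r⁻¹ := by rw [e, h3]
    _ = L.q * (L.r * c * L.r⁻¹) := by group)

theorem split_H {A : Sylow 2 (↥L.CQ ⧸ L.Zq)} (hA : (A : Subgroup _) = L.im L.W) :
    Split A (A : Subgroup (↥L.CQ ⧸ L.Zq)) where
  le := le_rfl
  comm a ha b hb := by
    rw [hA] at ha hb
    obtain ⟨x, hx, rfl⟩ := ha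
    obtain ⟨y, hy, rfl⟩ := hb
    rw [← map_mul, ← map_mul, L.π_eq]
    rw [show ((x * y : ↥L.CQ) : G)⁻¹ * ((y * x : ↥L.CQ) : G) = (y : G)⁻¹ * (x : G)⁻¹ * (y : G)⁻¹⁻¹ * (x : G)⁻¹⁻¹ by
      simp only [Subgroup.coe_mul]; group]
    exact L.W_comm (inv_mem (mem_subgroupOf.1 hy)) (inv_mem (mem_subgroupOf.1 hx))
  sq a ha := by
    rw [hA] at ha
    obtain ⟨x, hx, rfl⟩ := ha
    rw [← map_mul, L.π_one]
    exact L.W_sq (mem_subgroupOf.1 hx)
  rank := by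
    rw [hA]
    have := L.card_im (K := L.W) inf_le_left L.W_CQ
    rw [L.card_W] at this
    omega
  self s hs _ := hs
  weak g hg := Invol.mem_normalizer_of_conj_le (by
    rintro _ ⟨v, hv, rfl⟩
    exact hg v hv)
  loc x hx hx1 c hcx := by
    haveI : Fact (Nat.Prime 2) := ⟨Nat.prime_two⟩
    have hAcomm : ∀ a ∈ (A : Subgroup (↥L.CQ ⧸ L.Zq)), a ∈ centralizer ({x} : Set _) := by
      intro a ha
      rw [hA] at ha hx
      obtain ⟨u, hu, rfl⟩ := ha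
      obtain ⟨v, hv, rfl⟩ := hx
      refine mem_centralizer_singleton_iff.2 ?_
      rw [← map_mul, ← map_mul, L.π_eq]
      rw [show ((u * v : ↥L.CQ) : G)⁻¹ * ((v * u : ↥L.CQ) : G) = (v : G)⁻¹ * (u : G)⁻¹ * (v : G)⁻¹⁻¹ * (u : G)⁻¹⁻¹ by
        simp only [Subgroup.coe_mul]; group]
      exact L.W_comm (inv_mem (mem_subgroupOf.1 hv)) (inv_mem (mem_subgroupOf.1 hu))
    let AT : Subgroup (centralizer ({x} : Set (↥L.CQ ⧸ L.Zq))) := (A.subtype hAcomm : Sylow 2 _)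
    have hle : normalizer (AT : Set (centralizer ({x} : Set (↥L.CQ ⧸ L.Zq)))) ≤
        centralizer (AT : Set (centralizer ({x} : Set (↥L.CQ ⧸ L.Zq)))) := by
      intro k hk
      refine mem_centralizer_iff.2 fun a ha => Subtype.ext ?_
      show (a : ↥L.CQ ⧸ L.Zq) * k = k * a
      set n : ↥L.CQ ⧸ L.Zq := (k : ↥L.CQ ⧸ L.Zq) with hn
      have hnA : n ∈ normalizer ((A : Subgroup (↥L.CQ ⧸ L.Zq)) : Set (↥L.CQ ⧸ L.Zq)) := Invol.mem_normalizer_of_conj_le (by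
        rintro _ ⟨v, hv, rfl⟩
        exact mem_subgroupOf.1 ((mem_normalizer_iff.1 hk ⟨v, hAcomm v hv⟩).1 (mem_subgroupOf.2 hv)))
      obtain ⟨i, m, hm, hord⟩ := Nat.exists_eq_pow_mul_and_not_dvd (orderOf_pos n).ne' 2 (by decide)
      have hA2 : n ^ m ∈ (A : Subgroup _) := by
        have h2 : IsPGroup 2 (zpowers (n ^ m)) := IsPGroup.of_card (n := (orderOf (n ^ m)).factorization 2) (by
          rw [Nat.card_zpowers]
          obtain ⟨e, -, he⟩ := (Nat.dvd_prime_pow Nat.prime_two).1 (show orderOf (n ^ m) ∣ 2 ^ i from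
            orderOf_dvd_of_pow_eq_one (by rw [← pow_mul, mul_comm m, ← hord, pow_orderOf_eq_one]))
          rw [he, Nat.factorization_pow, Finsupp.smul_apply, Nat.Prime.factorization_self Nat.prime_two,
            smul_eq_mul, mul_one])
        have hsup := Invol.isPGroup_sup_of_le_normalizer h2 A.2 (zpowers_le.2 (pow_mem hnA m))
        exact (A.3 hsup le_sup_right).le (mem_sup_left (mem_zpowers _))
      have h1 : n ^ m * (a : ↥L.CQ ⧸ L.Zq) = (a : ↥L.CQ ⧸ L.Zq) * n ^ m := by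
        have ha' := mem_subgroupOf.1 ha
        rw [hA] at hA2 ha'
        obtain ⟨u, hu, eu⟩ := hA2
        obtain ⟨v, hv, ev⟩ := ha'
        rw [← eu, show (a : ↥L.CQ ⧸ L.Zq) = L.π v from ev.symm, ← map_mul, ← map_mul, L.π_eq,
          show ((u * v : ↥L.CQ) : G)⁻¹ * ((v * u : ↥L.CQ) : G) = (v : G)⁻¹ * (u : G)⁻¹ * (v : G)⁻¹⁻¹ * (u : G)⁻¹⁻¹ by
            simp only [Subgroup.coe_mul]; group]
        exact L.W_comm (inv_mem (mem_subgroupOf.1 hv)) (inv_mem (mem_subgroupOf.1 hu))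
      have h2 : n ^ (2 ^ i) * (a : ↥L.CQ ⧸ L.Zq) = (a : ↥L.CQ ⧸ L.Zq) * n ^ (2 ^ i) := by
        have hodd : Odd (orderOf (n ^ (2 ^ i))) := (Nat.odd_iff.2 (Nat.two_dvd_ne_zero.1 hm)).of_dvd_nat
          (orderOf_dvd_of_pow_eq_one (by rw [← pow_mul, ← hord, pow_orderOf_eq_one]))
        obtain ⟨g, hg⟩ := L.π_surj (n ^ (2 ^ i))
        have ha' := mem_subgroupOf.1 ha
        have hx' := hx
        rw [hA] at ha' hx' hnA
        obtain ⟨v, hv, ev⟩ := ha'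
        obtain ⟨u, hu, eu⟩ := hx'
        rw [← hg] at hodd ⊢
        rw [show (a : ↥L.CQ ⧸ L.Zq) = L.π v from ev.symm]
        refine L.semiregular (hg ▸ pow_mem hnA _) hodd (mem_subgroupOf.1 hu) (fun h0 => hx1 ?_) ?_ (mem_subgroupOf.1 hv)
        · rw [← eu]; exact L.π_one.2 h0
        · rw [hg, eu]
          exact ((show Commute n x from mem_centralizer_singleton_iff.1 k.2).pow_left _).eq
      have hb : n = (n ^ m) ^ (Nat.gcdA m (2 ^ i)) * (n ^ (2 ^ i)) ^ (Nat.gcdB m (2 ^ i)) := by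
        have := Nat.gcd_eq_gcd_ab m (2 ^ i)
        rw [((Nat.prime_two.coprime_iff_not_dvd.2 hm).pow_left i).symm.gcd_eq_one] at this
        rw [← zpow_natCast n m, ← zpow_mul, ← zpow_natCast n (2 ^ i), ← zpow_mul, ← zpow_add, ← this,
          Nat.cast_one, zpow_one]
      rw [hb]
      exact ((((show Commute (n ^ m) _ from h1).zpow_left _).mul_left
        ((show Commute (n ^ (2 ^ i)) _ from h2).zpow_left _)).eq).symm
    obtain ⟨o, ho, a, ha, e⟩ := burnside_split (A.subtype hAcomm) hle ⟨c, mem_centralizer_singleton_iff.2 hcx⟩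
    exact ⟨o.1, ⟨o, ho, rfl⟩, a.1, le_normalizer (mem_subgroupOf.1 ha), mem_centralizer_singleton_iff.1 a.2,
      congrArg Subtype.val e⟩
  outer u hu hu' := absurd hu hu'
  classes := by
    set u := L.r * L.y1 * L.r⁻¹ * L.y1 with hu
    have h1 := L.outer_y1
    have huQ : u ∈ L.Q := L.partner h1 (h1.self L)
    have huW : u ∈ L.W := mul_mem (L.y2_eq ▸ L.outer_y2.2.1) h1.2.1
    refine ⟨L.π ⟨u, L.W_CQ huW⟩, hA ▸ (L.mem_im inf_le_left).2 huW, L.π ⟨L.y1, L.W_CQ h1.2.1⟩,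
      hA ▸ (L.mem_im inf_le_left).2 h1.2.1, fun e => ?_, fun e => ?_, fun hcj => ?_⟩
    · refine L.swap_outer h1 ?_
      have := mul_mem (L.Z0g_le_cS h1 (L.mem_Z0g.2 (L.π_one.1 e))) (inv_mem (h1.self L))
      have hu' : u * L.y1⁻¹ = L.r * L.y1 * L.r⁻¹ := by rw [hu, mul_inv_cancel_right]
      exact hu' ▸ this
    · exact h1.1 (L.Z0_Q (L.π_one.1 e))
    · obtain ⟨cc, hcc⟩ := isConj_iff.1 hcj
      obtain ⟨g, rfl⟩ := L.π_surj cc
      rw [← map_inv, ← map_mul, ← map_mul, L.π_eq] at hcc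
      simp only [Subgroup.coe_mul, Subgroup.coe_inv] at hcc
      set t := ((g : G) * u * (g : G)⁻¹)⁻¹ * L.y1 with ht
      have hgS : (g : G) * u * (g : G)⁻¹ ∈ (L.S : Subgroup G) := by
        rw [show (g : G) * u * (g : G)⁻¹ = L.y1 * t⁻¹ by rw [ht]; group]
        exact mul_mem (L.mem_W.1 h1.2.1).1 (inv_mem (L.mem_W.1 (L.Z0_W hcc)).1)
      exact h1.1 (by
        rw [show L.y1 = (g : G) * u * (g : G)⁻¹ * t by rw [ht]; group]
        exact mul_mem (L.closed huQ (L.mem_CQ.1 g.2).1 hgS) (L.Z0_Q hcc))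

/-- Modulo the core, the centralizer of `z` and `q` normalizes the extraspecial subgroup. -/
theorem cent_q {g : G} (hg : g ∈ L.CQ) :
    ∃ o ∈ SylJ2.core L.CQ, ∃ n ∈ L.CQ, n ∈ normalizer (L.Q : Set G) ∧ g = o * n := by
  haveI : Fact (Nat.Prime 2) := ⟨Nat.prime_two⟩
  obtain ⟨A, hA⟩ := L.exists_sylow
  have P := L.split_H hA
  have h2Zq : IsPGroup 2 L.Zq := IsPGroup.of_card (n := 2) L.card_Zq
  have lift : ∀ {c : ↥L.CQ}, L.π c ∈ Cfsg.oddCore (↥L.CQ ⧸ L.Zq) →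
      ∃ o : ↥L.CQ, (o : G) ∈ SylJ2.core L.CQ ∧ L.π o = L.π c := by
    intro c hc
    obtain ⟨o, ho, hoc⟩ := core_central L.Zq L.Zq_center h2Zq hc
    exact ⟨o, ⟨o, ho, rfl⟩, (QuotientGroup.eq).2 hoc⟩
  obtain ⟨o₁, ho₁, n₁, hn₁, e₁⟩ := P.main (L.π ⟨g, hg⟩)
  obtain ⟨o', rfl⟩ := L.π_surj o₁
  obtain ⟨o, ho, hoe⟩ := lift ho₁
  set g₀ : ↥L.CQ := o⁻¹ * ⟨g, hg⟩ with hg₀
  have hπ : L.π g₀ = n₁ := by rw [hg₀, map_mul, map_inv, hoe, e₁, inv_mul_cancel_left]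
  rw [← hπ, hA] at hn₁
  have hgW := L.lift_norm hn₁
  -- the commutator with `r` centralizes the quotient of `W`
  have hc : (g₀ : G) * L.r * (g₀ : G)⁻¹ * L.r⁻¹ ∈ L.CQ := by
    rw [show (g₀ : G) * L.r * (g₀ : G)⁻¹ * L.r⁻¹ = (g₀ : G) * (L.r * (g₀ : G)⁻¹ * L.r⁻¹) by group]
    exact mul_mem g₀.2 ((mem_normalizer_iff.1 L.r_norm _).1 (inv_mem g₀.2))
  set c : ↥L.CQ := ⟨_, hc⟩ with hc'
  have hpair : ∀ {y}, L.Pair y → ∀ b : ↥L.CQ, (b : G) ∈ L.cS y → L.π (c * b * c⁻¹) = L.π b := by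
    intro y h b hb
    have hu : L.r * (b : G) * L.r⁻¹ ∈ L.cS (L.r * y * L.r⁻¹) := L.cS_r hb
    obtain ⟨y', h', e'⟩ := L.perm_pair (inv_mem hgW) (h.other L)
    have hv : (g₀ : G)⁻¹ * (L.r * (b : G) * L.r⁻¹) * (g₀ : G) ∈ L.cS y' := by
      have := e'.le ⟨_, hu, rfl⟩
      simpa using this
    have h3 := L.partner_map (L.mem_CQ.1 g₀.2).1 hgW h' hv
    rw [show (g₀ : G) * ((g₀ : G)⁻¹ * (L.r * (b : G) * L.r⁻¹) * (g₀ : G)) * (g₀ : G)⁻¹ = L.r * (b : G) * L.r⁻¹ by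
      group, L.r_r] at h3
    refine (L.π_eq.2 ?_).symm
    show L.Z0 ((b : G)⁻¹ * ((g₀ : G) * L.r * (g₀ : G)⁻¹ * L.r⁻¹ * b * ((g₀ : G) * L.r * (g₀ : G)⁻¹ * L.r⁻¹)⁻¹))
    rwa [show (g₀ : G) * L.r * (g₀ : G)⁻¹ * L.r⁻¹ * b * ((g₀ : G) * L.r * (g₀ : G)⁻¹ * L.r⁻¹)⁻¹ =
      (g₀ : G) * (L.r * ((g₀ : G)⁻¹ * (L.r⁻¹ * b * L.r) * (g₀ : G)) * L.r⁻¹) * (g₀ : G)⁻¹ by group,
      show L.r⁻¹ * (b : G) * L.r = L.r * b * L.r⁻¹ by rw [L.r_inv]]
  have hcA : L.π c ∈ centralizer ((A : Subgroup (↥L.CQ ⧸ L.Zq)) : Set (↥L.CQ ⧸ L.Zq)) := by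
    refine mem_centralizer_iff.2 fun a ha => ?_
    rw [SetLike.mem_coe, hA] at ha
    obtain ⟨w, hw, rfl⟩ := ha
    obtain ⟨b, hb, d, hd, hbd⟩ := L.W_split (mem_subgroupOf.1 hw)
    have hbC : b ∈ L.CQ := L.W_CQ (L.outer_y1.2.2.2.1 hb)
    have hdC : d ∈ L.CQ := L.W_CQ (L.outer_y2.2.2.2.1 hd)
    have e : L.π (c * w * c⁻¹) = L.π w := by
      rw [show w = ⟨b, hbC⟩ * ⟨d, hdC⟩ from Subtype.ext hbd,
        show c * (⟨b, hbC⟩ * ⟨d, hdC⟩) * c⁻¹ = c * ⟨b, hbC⟩ * c⁻¹ * (c * ⟨d, hdC⟩ * c⁻¹) by group, map_mul,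
        hpair (Or.inl rfl) ⟨b, hbC⟩ hb, hpair (Or.inr rfl) ⟨d, hdC⟩ hd, ← map_mul]
    rw [map_mul, map_mul, map_inv, mul_inv_eq_iff_eq_mul] at e
    exact e.symm
  -- Burnside in that centralizer
  set K := centralizer ((A : Subgroup (↥L.CQ ⧸ L.Zq)) : Set (↥L.CQ ⧸ L.Zq)) with hK
  have hAK : (A : Subgroup _) ≤ K := fun a ha => mem_centralizer_iff.2 fun b hb => P.comm b hb a ha
  obtain ⟨o₂, ho₂, a, ha, e₂⟩ := burnside_split (A.subtype hAK) (fun k _ => mem_centralizer_iff.2 fun t ht =>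
    Subtype.ext (mem_centralizer_iff.1 k.2 _ (mem_subgroupOf.1 ht))) ⟨_, hcA⟩
  have hKO : SylJ2.core K ≤ Cfsg.oddCore (↥L.CQ ⧸ L.Zq) := by
    intro x hx
    let f := QuotientGroup.mk' (Cfsg.oddCore (↥L.CQ ⧸ L.Zq))
    haveI : ((SylJ2.core K).map f).Normal := by
      refine ⟨fun v hv q => ?_⟩
      obtain ⟨v, hv, rfl⟩ := hv
      obtain ⟨h, rfl⟩ := QuotientGroup.mk'_surjective _ q
      obtain ⟨o₃, ho₃, n, hn, rfl⟩ := P.main h
      have hfo : f o₃ = 1 := by rw [QuotientGroup.mk'_apply, QuotientGroup.eq_one_iff]; exact ho₃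
      refine ⟨n * v * n⁻¹, core_stable ?_ hv, ?_⟩
      · refine Invol.mem_normalizer_of_conj_le ?_
        rintro _ ⟨k, hk, rfl⟩
        refine mem_centralizer_iff.2 fun b hb => ?_
        have hb' := (mem_normalizer_iff.1 (inv_mem hn) b).1 hb
        rw [inv_inv] at hb'
        show b * (n * k * n⁻¹) = n * k * n⁻¹ * b
        calc b * (n * k * n⁻¹) = n * ((n⁻¹ * b * n) * k) * n⁻¹ := by group
          _ = n * (k * (n⁻¹ * b * n)) * n⁻¹ := by rw [mem_centralizer_iff.1 hk _ hb']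
          _ = n * k * n⁻¹ * b := by group
      · rw [map_mul f o₃, hfo, one_mul, map_mul, map_mul, map_inv]
    have hle := Core.le_pPrimeCore (p := 2) (N := (SylJ2.core K).map f)
      (((Nat.prime_two.coprime_iff_not_dvd.2 (core_odd K)).symm).coprime_dvd_left (card_map_dvd _ _))
    have h1 := hle ⟨x, hx, rfl⟩
    rw [Core.pPrimeCore_quotient_eq_bot, mem_bot, QuotientGroup.mk'_apply, QuotientGroup.eq_one_iff] at h1
    exact h1
  obtain ⟨o₃', ho₃'⟩ := L.π_surj (o₂ : ↥L.CQ ⧸ L.Zq)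
  obtain ⟨o₃, ho₃, ho₃e⟩ := lift (c := o₃') (ho₃' ▸ hKO ⟨o₂, ho₂, rfl⟩)
  have hw : (o₃ : G)⁻¹ * ((g₀ : G) * L.r * (g₀ : G)⁻¹ * L.r⁻¹) ∈ L.W := by
    refine (L.mem_im inf_le_left (x := o₃⁻¹ * c)).1 ?_
    rw [← hA, map_mul, map_inv, ho₃e, ho₃', show L.π c = (o₂ : ↥L.CQ ⧸ L.Zq) * a from congrArg Subtype.val e₂,
      inv_mul_cancel_left]
    exact mem_subgroupOf.1 ha
  -- Frattini
  have hSN : (L.S : Subgroup G) ≤ normalizer (SylJ2.core L.CQ : Set G) := fun s hs => by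
    refine Invol.mem_normalizer_of_conj_le ?_
    rintro _ ⟨d, hd, rfl⟩
    refine core_stable ?_ hd
    by_cases hsW : s ∈ L.W
    · exact le_normalizer (L.W_CQ hsW)
    · have := mul_mem (le_normalizer (L.W_CQ (L.S_W hs hsW))) L.r_norm
      rwa [inv_mul_cancel_right] at this
  set X := SylJ2.core L.CQ ⊔ (L.S : Subgroup G) with hX
  have hconj : (L.S : Subgroup G).map (MulAut.conj (g₀ : G)).toMonoidHom ≤ X := by
    rintro _ ⟨s, hs, rfl⟩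
    have hWX : ∀ w ∈ L.W, (g₀ : G) * w * (g₀ : G)⁻¹ ∈ X := fun w hw =>
      mem_sup_right (L.mem_W.1 ((mem_normalizer_iff.1 hgW w).1 hw)).1
    show (g₀ : G) * s * (g₀ : G)⁻¹ ∈ X
    by_cases hsW : s ∈ L.W
    · exact hWX s hsW
    · rw [show (g₀ : G) * s * (g₀ : G)⁻¹ = (g₀ : G) * (s * L.r⁻¹) * (g₀ : G)⁻¹ *
        ((o₃ : G) * ((o₃ : G)⁻¹ * ((g₀ : G) * L.r * (g₀ : G)⁻¹ * L.r⁻¹)) * L.r) by group]
      exact mul_mem (hWX _ (L.S_W hs hsW)) (mul_mem (mul_mem (mem_sup_left ho₃) (mem_sup_right (L.mem_W.1 hw).1))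
        (mem_sup_right (L.Q_le L.moved_r.1)))
  obtain ⟨x, hx, hxS⟩ := into_sylow L.S (le_sup_right : (L.S : Subgroup G) ≤ X) (L.S.2.map _) hconj
  obtain ⟨s, hs, d, hd, rfl⟩ : ∃ s ∈ (L.S : Subgroup G), ∃ d ∈ SylJ2.core L.CQ, s * d = x := by
    have hx' : x ∈ (((L.S : Subgroup G) ⊔ SylJ2.core L.CQ : Subgroup G) : Set G) := by
      rw [sup_comm]; exact hx
    rw [coe_mul_of_left_le_normalizer_right _ _ hSN] at hx'
    exact Set.mem_mul.1 hx'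
  refine ⟨o * d⁻¹, mul_mem ho (inv_mem hd), d * g₀, mul_mem (core_le _ hd) g₀.2,
    Invol.mem_normalizer_of_conj_le ?_, ?_⟩
  · rintro _ ⟨a, ha, rfl⟩
    refine L.closed ha (L.mem_CQ.1 (mul_mem (core_le _ hd) g₀.2)).1 ?_
    have h4 := mul_mem (mul_mem (inv_mem hs) (hxS _ ⟨a, L.Q_le ha, rfl⟩)) hs
    convert h4 using 1
    show _ = s⁻¹ * (s * d * ((g₀ : G) * a * (g₀ : G)⁻¹) * (s * d)⁻¹) * s
    group
  · show g = (o : G) * d⁻¹ * (d * ((o : G)⁻¹ * g))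
    group

end Syl

end Cfsg.Agent.SylJ2
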