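import Cfsg.Agent.SylJ2.Setup

/-!
Further facts on the Sylow 2-subgroup of Hall-Janko type: its two elementary subgroups of order 16 and the
classes of the extraspecial group.
-/

set_option autoImplicit false
set_option maxRecDepth 100000
set_option linter.all false

namespace Cfsg.Agent.SylJ2

/-- The code of the second outer involution. -/
def two : ℕ := mulN (mulN 8 32) 8

theorem pair_fact : ((List.range 128).all fun b => !isOuter b || cm 32 b || cm two b) = true := by decide +kernel

theorem split_fact : ((List.range 128).all fun a => !cm 15 a ||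
    (List.range 128).any fun b => cm 32 b && cm two (mulN b a)) = true := by decide +kernel

theorem inter_fact : ((List.range 128).all fun c => !(cm 32 c && cm two c) || zq.contains c) = true := by
  decide +kernel

theorem self_fact : ((List.range 128).all fun a => decide (a < 32) || (List.range 32).any fun b =>
    !(mulN a b == mulN b a) && !(mulN a b == mulN 16 (mulN b a))) = true := by decide +kernel

theorem orbit_fact : ((List.range 32).all fun a => !(mulN a a == 0) || a == 0 || a == 16 ||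
    (List.range 128).any fun s => (mulN s 15 == mulN a s) || (mulN s 8 == mulN a s)) = true := by decide +kernel

theorem two_points : isOuter 32 = true ∧ isOuter two = true ∧ two < 128 ∧ mulN 1 1 = 0 ∧
    ((List.range 32).any fun a => mulN a a == 16) = true := by
  decide +kernel

namespace Syl

variable {G : Type*} [Group G] [Finite G] (L : Syl G)
include L

/-- An outer involution. -/
def y1 : G := L.φ 32

/-- The second outer involution. -/
def y2 : G := L.φ two

theorem r_inv : L.r⁻¹ = L.r := inv_eq_of_mul_eq_one_right L.r_sq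

theorem y2_eq : L.y2 = L.r * L.y1 * L.r⁻¹ := by
  rw [L.r_inv, y2, y1, r, L.mul 8 (by norm_num) 32 (by norm_num),
    L.mul _ (L.lt (by norm_num) (by norm_num)) 8 (by norm_num), two]

theorem outer_of_code {a : ℕ} (ha : a < 128) (h : isOuter a = true) : L.Outer (L.φ a) := by
  simp only [isOuter, Bool.and_eq_true, Bool.not_eq_true', decide_eq_false_iff_not, beq_iff_eq] at h
  have hQ : L.φ a ∉ L.Q := fun hq => h.1 ((L.Q_iff ha).1 hq)
  rcases L.invol (L.mem ha) (((L.sq_iff ha (by norm_num)).1 h.2).trans L.φ_zero) with h' | h' | h'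
  · exact absurd (L.Z0_Q h') hQ
  · exact absurd h'.1 hQ
  · exact h'

theorem outer_y1 : L.Outer L.y1 := L.outer_of_code (by norm_num) two_points.1

theorem outer_y2 : L.Outer L.y2 := L.outer_of_code two_points.2.2.1 two_points.2.1

theorem cS_eq {y b : G} (hy : L.Outer y) (hb : L.Outer b) (h : b ∈ L.cS y) : L.cS b = L.cS y := by
  refine (Subgroup.eq_of_le_of_card_ge (fun c hc => L.mem_cS.2 ⟨(L.mem_cS.1 hc).1, hy.2.2.2.2.2.2 c hc b h⟩)
    ?_).symm
  rw [hb.2.2.1, hy.2.2.1]

/-- There are two elementary subgroups of order 16. -/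
theorem two_E16 {b : G} (hb : L.Outer b) : L.cS b = L.cS L.y1 ∨ L.cS b = L.cS L.y2 := by
  obtain ⟨a, ha, rfl⟩ := (L.range b).1 (L.mem_W.1 hb.2.1).1
  have h := all_spec pair_fact ha
  rw [L.outer_code ha hb] at h
  simp only [Bool.not_true, Bool.false_or, Bool.or_eq_true] at h
  rcases h with h | h
  · exact Or.inl (L.cS_eq L.outer_y1 hb (L.mem_cS.2 ⟨L.mem ha, ((L.cm_iff (by norm_num) ha).1 h).symm⟩))
  · exact Or.inr (L.cS_eq L.outer_y2 hb (L.mem_cS.2 ⟨L.mem ha, ((L.cm_iff two_points.2.2.1 ha).1 h).symm⟩))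

/-- The two elementary subgroups generate `W`. -/
theorem W_split {w : G} (hw : w ∈ L.W) : ∃ b ∈ L.cS L.y1, ∃ c ∈ L.cS L.y2, w = b * c := by
  obtain ⟨a, ha, rfl⟩ := (L.range w).1 (L.mem_W.1 hw).1
  have h := all_spec split_fact ha
  rw [(L.W_code ha).1 hw] at h
  simp only [Bool.not_true, Bool.false_or, List.any_eq_true, List.mem_range, Bool.and_eq_true] at h
  obtain ⟨b, hb, hb1, hb2⟩ := h
  refine ⟨(L.φ b)⁻¹, inv_mem (L.mem_cS.2 ⟨L.mem hb, ((L.cm_iff (by norm_num) hb).1 hb1).symm⟩),
    L.φ (mulN b a), L.mem_cS.2 ⟨L.mem (L.lt hb ha), ((L.cm_iff two_points.2.2.1 (L.lt hb ha)).1 hb2).symm⟩, ?_⟩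
  rw [← L.mul b hb a ha, inv_mul_cancel_left]

theorem E16_inter {c : G} (h1 : c ∈ L.cS L.y1) (h2 : c ∈ L.cS L.y2) : L.Z0 c := by
  obtain ⟨a, ha, rfl⟩ := (L.range c).1 (L.mem_cS.1 h1).1
  have h := all_spec inter_fact ha
  rw [(L.cm_iff (by norm_num) ha).2 (L.mem_cS.1 h1).2.symm,
    (L.cm_iff two_points.2.2.1 ha).2 (L.mem_cS.1 h2).2.symm] at h
  simp only [Bool.and_self, Bool.not_true, Bool.false_or] at h
  exact (L.zq_iff ha).1 h

/-- The extraspecial subgroup is self-centralizing modulo the centre. -/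
theorem Q_self {s : G} (hs : s ∈ (L.S : Subgroup G))
    (h : ∀ x ∈ L.Q, s * x = x * s ∨ s * x = L.z * (x * s)) : s ∈ L.Q := by
  obtain ⟨a, ha, rfl⟩ := (L.range s).1 hs
  have hf := all_spec self_fact ha
  simp only [Bool.or_eq_true, decide_eq_true_eq, List.any_eq_true, List.mem_range, Bool.and_eq_true,
    Bool.not_eq_true', beq_eq_false_iff_ne] at hf
  rcases hf with hf | ⟨b, hb, hb1, hb2⟩
  · exact (L.Q_iff ha).2 hf
  · have hb' : b < 128 := by omega
    exfalso
    rcases h _ ((L.Q_iff hb').2 hb) with e | e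
    · rw [L.mul a ha b hb', L.mul b hb' a ha] at e
      exact hb1 (L.inj _ (L.lt ha hb') _ (L.lt hb' ha) e)
    · rw [L.mul a ha b hb', L.mul b hb' a ha, z, L.mul 16 (by norm_num) _ (L.lt hb' ha)] at e
      exact hb2 (L.inj _ (L.lt ha hb') _ (L.lt (by norm_num) (L.lt hb' ha)) e)

/-- Up to conjugation in the Sylow subgroup there are two classes of noncentral involutions in `Q`. -/
theorem Q_orbit {x : G} (hx : x ∈ L.Q) (h2 : x * x = 1) (h1 : x ≠ 1) (hz : x ≠ L.z) :
    ∃ s ∈ (L.S : Subgroup G), s * L.q * s⁻¹ = x ∨ s * L.r * s⁻¹ = x := by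
  obtain ⟨a, ha, rfl⟩ := hx
  have ha' : a < 128 := by omega
  have h := all_spec orbit_fact ha
  rw [(L.sq_iff ha' (by norm_num)).2 (h2.trans L.φ_zero.symm)] at h
  simp only [beq_self_eq_true, Bool.not_true, Bool.false_or, Bool.or_eq_true, beq_iff_eq, List.any_eq_true,
    List.mem_range] at h
  rcases h with (h | h) | ⟨s, hs, h⟩
  · exact absurd (h ▸ L.φ_zero) h1
  · exact absurd (congrArg L.φ h) hz
  · refine ⟨L.φ s, L.mem hs, h.imp (fun e => ?_) fun e => ?_⟩
    · rw [q, L.mul s hs 15 (by norm_num), e, ← L.mul a ha' s hs, mul_inv_cancel_right]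
    · rw [r, L.mul s hs 8 (by norm_num), e, ← L.mul a ha' s hs, mul_inv_cancel_right]

theorem exists_root : ∃ x ∈ L.Q, x * x = L.z := by
  have h := two_points.2.2.2.2
  simp only [List.any_eq_true, List.mem_range, beq_iff_eq] at h
  obtain ⟨a, ha, h⟩ := h
  exact ⟨L.φ a, ⟨a, ha, rfl⟩, (L.sq_iff (by omega) (by norm_num)).1 h⟩

end Syl

end Cfsg.Agent.SylJ2
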