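import Mathlib

/-!
The Sylow 2-subgroup of the centralizer of a 2-central involution of the Hall-Janko group on 128 codes, and its
involutions, roots and centralizers, by computation.

A code `32 i + b` stands for the product of the element `b` of the extraspecial group (bits a, b0, b1, b2, b3) and
the `i`-th permutation in the four group fixing the last letter.
-/

set_option autoImplicit false
set_option maxRecDepth 100000
set_option linter.all false

namespace Cfsg.Agent.SylJ2

/-- The images of the 32 codes under the four permutations. -/
def actTab : ℕ := 0xf9d636953171952653107df73ed721f5b42e1100feef3f28d2ea4b1e62907ace376ac26e6a162080fb5cc3d6d45e7581c6507f7dcb94c4da54898440ffbbcdeb38bdab49ca307b9ac5a928398a418820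

/-- The cocycle of the extraspecial group. -/
def cocTab : ℕ := 0x33ccf0f03c3cff00cccc0ff0c33c000033ccf0f03c3cff00cccc0ff0c33c0000

/-- The product of two codes of the extraspecial group. -/
def qMul (a b : ℕ) : ℕ := a ^^^ b ^^^ (16 * (cocTab / 2 ^ (16 * (a % 16) + b % 16) % 2))

/-- The image of a code under a permutation. -/
def actN (i b : ℕ) : ℕ := actTab / 2 ^ (5 * (32 * i + b)) % 32

/-- The product. -/
def mulN (n m : ℕ) : ℕ := 32 * ((n / 32) ^^^ (m / 32)) + qMul (n % 32) (actN (n / 32) (m % 32))

/-- Commuting codes. -/
def cm (n m : ℕ) : Bool := mulN n m == mulN m n

/-- The number of codes commuting with one. -/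
def cn (n : ℕ) : ℕ := ((List.range 128).filter fun m => cm n m).length

/-- The centre of the centralizer of the fixed class. -/
def zq : List ℕ := [0, 16, 15, 31]

/-- The closure facts. -/
theorem closed : ((List.range 128).all fun a => (List.range 128).all fun b => decide (mulN a b < 128)) = true := by
  decide +kernel

/-- The extraspecial subgroup is closed and normal. -/
theorem quot_facts : ((List.range 128).all fun a => (List.range 128).all fun b =>
    decide (mulN a b / 32 = (a / 32) ^^^ (b / 32))) = true := by
  decide +kernel

/-- The neutral element, the centre. -/
theorem centre : ((List.range 128).all fun a => (mulN 0 a == a) && (mulN a 0 == a) && cm 16 a &&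
    (!(List.range 128).all (fun b => cm a b) || a == 0 || a == 16)) = true := by
  decide +kernel

/-- Roots of the central involution lie in the extraspecial group; squares that are involutions. -/
theorem squares : ((List.range 128).all fun a => (!(mulN a a == 16) || decide (a < 32)) &&
    (!(mulN (mulN a a) (mulN a a) == 0) || zq.contains (mulN a a)) &&
    (!cm 15 a || zq.contains (mulN a a))) = true := by
  decide +kernel

/-- The centre of the centralizer of the fixed class. -/
theorem fixed_center : ((List.range 128).all fun a => !cm 15 a ||
    !(List.range 128).all (fun b => !cm 15 b || cm a b) || zq.contains a) = true := by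
  decide +kernel

/-- Commutators in the centralizer of the fixed class. -/
theorem fixed_comm : ((List.range 128).all fun a => (List.range 128).all fun b => !cm 15 a || !cm 15 b ||
    zq.any (fun t => mulN a b == mulN t (mulN b a))) = true := by
  decide +kernel

/-- Commuting with the fixed class is a sign. -/
theorem fixed_sign : ((List.range 128).all fun a => (List.range 128).all fun b =>
    cm 15 (mulN a b) == (cm 15 a == cm 15 b)) = true := by
  decide +kernel

/-- The involutions. -/
theorem invols : ((List.range 128).all fun a => !(mulN a a == 0) || zq.contains a ||
    (decide (a < 32) && !cm 15 a && (cn a == 16) &&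
      (List.range 128).all (fun b => !cm a b || decide (b < 32)) &&
      ((List.range 128).any fun b => cm a b && (mulN b b == 16) &&
        (List.range 128).any fun c => cm a c && !cm b c)) ||
    (!decide (a < 32) && cm 15 a && (cn a == 16) &&
      (List.range 128).all (fun b => !cm a b || ((mulN b b == 0) && cm 15 b && (!decide (b < 32) || zq.contains b)) &&
        (List.range 128).all (fun c => !cm a c || !cm a b || cm b c)))) = true := by
  decide +kernel

/-- Commuting involutions in the extraspecial group. -/
theorem qpair : ((List.range 32).all fun a => (List.range 32).all fun b =>
    !((mulN a a == 0) && (mulN b b == 0) && cm a b) || a == 0 || a == 16 || b == 0 || b == 16 || b == a ||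
      b == mulN 16 a) = true := by
  decide +kernel

/-- An involution outside the extraspecial group and commuting with the fixed class. -/
def isOuter (a : ℕ) : Bool := !decide (a < 32) && (mulN a a == 0)

/-- The centralizer of the fixed class is generated by involutions. -/
theorem gen : ((List.range 128).all fun a => !cm 15 a || (List.range 128).any fun b => cm 15 b && (mulN b b == 0) &&
    (List.range 128).any fun c => cm 15 c && (mulN c c == 0) && (mulN b c == a)) = true := by
  decide +kernel

/-- The moved involution moves the centralizer of an outer involution. -/
theorem swap : ((List.range 128).all fun a => !isOuter a || !cm a (mulN (mulN 8 a) 8)) = true := by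
  decide +kernel

/-- The two transvection facts for an elementary subgroup of order 16. -/
theorem transvection : ((List.range 128).all fun a => !isOuter a || (List.range 128).all fun u => !cm a u ||
    ((zq.contains u || (List.range 128).any fun b => cm 15 b &&
      ((mulN b u == mulN 15 (mulN u b)) || (mulN b u == mulN 31 (mulN u b)))) &&
    ((List.range 128).any fun b => cm 15 b && ((mulN b u == mulN u b) || (mulN b u == mulN 16 (mulN u b))) &&
      (List.range 128).any fun x => cm a x &&
        ((mulN b x == mulN 15 (mulN x b)) || (mulN b x == mulN 31 (mulN x b)))))) = true := by
  decide +kernel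

/-- Squares in the extraspecial group. -/
theorem qsq : ((List.range 32).all fun a => (mulN a a == 0) || (mulN a a == 16)) = true := by
  decide +kernel

/-- Particular codes. -/
theorem points : mulN 15 15 = 0 ∧ mulN 16 16 = 0 ∧ mulN 16 15 = 31 ∧ mulN 31 31 = 0 ∧ mulN 8 8 = 0 ∧
    cm 15 8 = false ∧ cn 15 = 64 := by
  decide +kernel

end Cfsg.Agent.SylJ2
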